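import Mathlib.GroupTheory.Sylow
import Mathlib.GroupTheory.GroupAction.Quotient
import Mathlib.GroupTheory.SchurZassenhaus
import Mathlib.GroupTheory.SpecificGroups.Cyclic
import Mathlib.Data.Set.Card

/-!
Groups partitioned like `PSL₂(q)`: the elements of order `p` have abelian centralisers of exponent
`p`, every other non-identity element lies in a unique cyclic torus, whose normaliser inverts it.
The class equation of a subgroup.
-/

set_option autoImplicit false

namespace CfsgLib.DicksonFull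

open Subgroup

variable {X : Type*} [Group X] {p : ℕ}

/-- A non-identity element of order prime to `p`. -/
def SS (p : ℕ) (x : X) : Prop := x ≠ 1 ∧ ¬ p ∣ orderOf x

/-- The geometry of `PSL₂` in characteristic `p`. -/
structure Amb (X : Type*) [Group X] (p : ℕ) where
  T : X → Subgroup X
  order_cases : ∀ x : X, x ≠ 1 → SS p x ∨ orderOf x = p
  mem_T : ∀ x : X, SS p x → x ∈ T x
  T_eq : ∀ x y : X, SS p x → y ∈ T x → y ≠ 1 → SS p y ∧ T y = T x
  T_cyclic : ∀ x : X, SS p x → IsCyclic (T x)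
  T_conj : ∀ x g y : X, SS p x → (y ∈ T (g * x * g⁻¹) ↔ g⁻¹ * y * g ∈ T x)
  T_norm : ∀ x g : X, SS p x → g * x * g⁻¹ ∈ T x → g ∉ T x →
    (∀ y ∈ T x, g * y * g⁻¹ = y⁻¹) ∧ ∀ g' : X, g' * x * g'⁻¹ ∈ T x → g' ∉ T x → g⁻¹ * g' ∈ T x
  u_cen : ∀ u y z : X, orderOf u = p → Commute y u → Commute z u → Commute y z ∧ y ^ p = 1
  borel : ∀ u x y : X, orderOf u = p → SS p x → Commute (x * u * x⁻¹) u → y ∈ T x →
    Commute (y * u * y⁻¹) u
  borel_comm : ∀ u y z : X, orderOf u = p → Commute (y * u * y⁻¹) u → Commute (z * u * z⁻¹) u →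
    Commute (y * z * y⁻¹ * z⁻¹) u
  borel_torus : ∀ u x y : X, orderOf u = p → SS p x → SS p y → Commute (x * u * x⁻¹) u →
    Commute (y * u * y⁻¹) u → Commute y x → y ∈ T x

theorem SS.conj {x : X} (hx : SS p x) (g : X) : SS p (g * x * g⁻¹) := by
  refine ⟨fun e => hx.1 ?_, ?_⟩
  · rw [mul_inv_eq_one, mul_eq_left] at e; exact e
  · rw [show g * x * g⁻¹ = MulAut.conj g x from rfl, (MulAut.conj g).orderOf_eq]
    exact hx.2

variable (A : Amb X p) (H : Subgroup X)

/-- The part of the torus of `x` in `H`. -/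
def tor (x : X) : Subgroup X := H ⊓ A.T x

/-- The normaliser in `H` of the torus of `x`. -/
def nor (x : X) : Subgroup X := H ⊓ Subgroup.normalizer (A.T x : Set X)

/-- The elements of `H` whose torus is `H`-conjugate to that of `x`. -/
def cls (x : X) : Set X := {y | y ∈ H ∧ SS p y ∧ ∃ g ∈ H, g⁻¹ * y * g ∈ A.T x}

variable {A H}

theorem mem_norm {x g : X} (hx : SS p x) (h : g * x * g⁻¹ ∈ A.T x) :
    g ∈ Subgroup.normalizer (A.T x : Set X) := by
  have hne : g * x * g⁻¹ ≠ 1 := (hx.conj g).1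
  have he : A.T (g * x * g⁻¹) = A.T x := (A.T_eq x _ hx h hne).2
  rw [Subgroup.mem_normalizer_iff]
  intro y
  conv_rhs => rw [← he, A.T_conj x g (g * y * g⁻¹) hx, show g⁻¹ * (g * y * g⁻¹) * g = y by group]

theorem mem_norm_iff {x g : X} (hx : SS p x) :
    g ∈ Subgroup.normalizer (A.T x : Set X) ↔ g * x * g⁻¹ ∈ A.T x :=
  ⟨fun h => (Subgroup.mem_normalizer_iff.mp h x).mp (A.mem_T x hx), mem_norm hx⟩

theorem self_mem_tor {x : X} (hx : SS p x) (hxH : x ∈ H) : x ∈ tor A H x := ⟨hxH, A.mem_T x hx⟩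

theorem tor_le_nor {x : X} : tor A H x ≤ nor A H x :=
  inf_le_inf_left H Subgroup.le_normalizer

theorem tor_comm {x y z : X} (hx : SS p x) (hy : y ∈ A.T x) (hz : z ∈ A.T x) : Commute y z := by
  have := A.T_cyclic x hx
  exact congrArg Subtype.val ((IsCyclic.commGroup (α := A.T x)).mul_comm ⟨y, hy⟩ ⟨z, hz⟩)

theorem nor_card [Finite X] {x : X} (hx : SS p x) :
    Nat.card (nor A H x) = Nat.card (tor A H x) ∨ Nat.card (nor A H x) = 2 * Nat.card (tor A H x) := by
  classical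
  set C := (tor A H x).subgroupOf (nor A H x) with hC
  have hcard : Nat.card C = Nat.card (tor A H x) :=
    Nat.card_congr (Subgroup.subgroupOfEquivOfLe tor_le_nor).toEquiv
  have hidx : C.index ≤ 2 := by
    let f : (nor A H x) ⧸ C → Bool := fun z => decide (((z.out : nor A H x) : X) ∈ A.T x)
    have hf : Function.Injective f := by
      intro a b hab
      simp only [f, decide_eq_decide] at hab
      rw [← QuotientGroup.out_eq' a, ← QuotientGroup.out_eq' b, QuotientGroup.eq]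
      refine Subgroup.mem_subgroupOf.mpr ⟨(((a.out)⁻¹ * b.out : nor A H x)).2.1, ?_⟩
      show (((a.out : nor A H x) : X))⁻¹ * ((b.out : nor A H x) : X) ∈ A.T x
      by_cases ha : ((a.out : nor A H x) : X) ∈ A.T x
      · exact mul_mem (inv_mem ha) (hab.mp ha)
      · exact (A.T_norm x _ hx ((mem_norm_iff hx).mp a.out.2.2) ha).2 _
          ((mem_norm_iff hx).mp b.out.2.2) fun hb => ha (hab.mpr hb)
    have := Nat.card_le_card_of_injective f hf
    rwa [Nat.card_eq_fintype_card (α := Bool), Fintype.card_bool, ← Subgroup.index_eq_card] at this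
  have h0 : C.index ≠ 0 := Subgroup.index_ne_zero_of_finite
  have hm := C.card_mul_index
  rw [hcard] at hm
  rcases (show C.index = 1 ∨ C.index = 2 by omega) with h | h <;> rw [h] at hm
  · exact Or.inl (by omega)
  · exact Or.inr (by omega)

theorem cls_sub {x : X} : cls A H x ⊆ {y | y ∈ H ∧ SS p y} := fun _ hy => ⟨hy.1, hy.2.1⟩

theorem self_mem_cls {x : X} (hx : SS p x) (hxH : x ∈ H) : x ∈ cls A H x :=
  ⟨hxH, hx, 1, H.one_mem, by simpa using A.mem_T x hx⟩

theorem cls_eq {x y : X} (hx : SS p x) (hy : y ∈ cls A H x) : cls A H y = cls A H x := by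
  obtain ⟨-, hys, g, hg, hgy⟩ := hy
  have hs : SS p (g⁻¹ * y * g) := by simpa using hys.conj g⁻¹
  have hT : A.T (g⁻¹ * y * g) = A.T x := (A.T_eq x _ hx hgy hs.1).2
  have key : ∀ z, z ∈ A.T y ↔ g⁻¹ * z * g ∈ A.T x := by
    intro z
    have := A.T_conj y g⁻¹ (g⁻¹ * z * g) hys
    rw [inv_inv, hT, show g * (g⁻¹ * z * g) * g⁻¹ = z by group] at this
    exact this.symm
  ext z
  constructor
  · rintro ⟨hzH, hzs, k, hk, hkz⟩
    refine ⟨hzH, hzs, k * g, H.mul_mem hk hg, ?_⟩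
    rw [show (k * g)⁻¹ * z * (k * g) = g⁻¹ * (k⁻¹ * z * k) * g by group]
    exact (key _).mp hkz
  · rintro ⟨hzH, hzs, k, hk, hkz⟩
    refine ⟨hzH, hzs, k * g⁻¹, H.mul_mem hk (H.inv_mem hg), (key _).mpr ?_⟩
    rw [show g⁻¹ * ((k * g⁻¹)⁻¹ * z * (k * g⁻¹)) * g = k⁻¹ * z * k by group]
    exact hkz

theorem cls_disjoint {x y : X} (hx : SS p x) (hy : SS p y) (hyH : y ∈ H) (h : y ∉ cls A H x) :
    Disjoint (cls A H x) (cls A H y) :=
  Set.disjoint_left.2 fun z hzx hzy => h (by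
    rw [← cls_eq hx hzx, cls_eq hy hzy]; exact self_mem_cls hy hyH)

theorem card_cls [Finite X] {x : X} (hx : SS p x) :
    (cls A H x).ncard * Nat.card (nor A H x) = Nat.card H * (Nat.card (tor A H x) - 1) := by
  classical
  have h1 : Nat.card (tor A H x) - 1 = Nat.card {c : tor A H x // c ≠ 1} := by
    have := Fintype.ofFinite (tor A H x)
    rw [Nat.card_eq_fintype_card, Nat.card_eq_fintype_card, Fintype.card_subtype_compl,
      Fintype.card_subtype_eq]
  rw [h1, ← Nat.card_coe_set_eq, ← Nat.card_prod, ← Nat.card_prod]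
  choose g hgH hg using fun y : cls A H x => y.2.2.2
  have hC : ∀ (y : cls A H x) (n : nor A H x),
      (n : X)⁻¹ * ((g y)⁻¹ * (y : X) * g y) * n ∈ tor A H x := fun y n =>
    ⟨H.mul_mem (H.mul_mem (H.inv_mem n.2.1)
      (H.mul_mem (H.mul_mem (H.inv_mem (hgH y)) y.2.1) (hgH y))) n.2.1,
     (Subgroup.mem_normalizer_iff''.mp n.2.2 _).mp (hg y)⟩
  refine Nat.card_eq_of_bijective (fun z : cls A H x × nor A H x =>
    ((⟨g z.1 * z.2, H.mul_mem (hgH z.1) z.2.2.1⟩ : H),
      (⟨⟨_, hC z.1 z.2⟩, fun e => z.1.2.2.1.1 (by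
        have e' : (z.2 : X)⁻¹ * ((g z.1)⁻¹ * (z.1 : X) * g z.1) * z.2 = 1 := congrArg Subtype.val e
        calc (z.1 : X) = (g z.1 * z.2) * ((z.2 : X)⁻¹ * ((g z.1)⁻¹ * (z.1 : X) * g z.1) * z.2) *
              (g z.1 * z.2)⁻¹ := by group
          _ = 1 := by rw [e']; group)⟩ : {c : tor A H x // c ≠ 1}))) ⟨?_, ?_⟩
  · rintro ⟨y, n⟩ ⟨y', n'⟩ e
    obtain ⟨e1, e2⟩ := Prod.mk.inj e
    have e1' : g y * n = g y' * n' := congrArg Subtype.val e1
    have e2' : (n : X)⁻¹ * ((g y)⁻¹ * (y : X) * g y) * n =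
        (n' : X)⁻¹ * ((g y')⁻¹ * (y' : X) * g y') * n' :=
      congrArg (fun c : {c : tor A H x // c ≠ 1} => ((c.1 : tor A H x) : X)) e2
    have hy : y = y' := Subtype.ext (by
      calc (y : X) = (g y * n) * ((n : X)⁻¹ * ((g y)⁻¹ * (y : X) * g y) * n) * (g y * n)⁻¹ := by group
        _ = (g y' * n') * ((n' : X)⁻¹ * ((g y')⁻¹ * (y' : X) * g y') * n') * (g y' * n')⁻¹ := by
            rw [e2', e1']
        _ = (y' : X) := by group)
    subst hy
    exact Prod.ext rfl (Subtype.ext (mul_left_cancel e1'))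
  · rintro ⟨⟨h, hh⟩, ⟨⟨c, hc⟩, hc1⟩⟩
    have hc1' : c ≠ 1 := fun e => hc1 (Subtype.ext e)
    obtain ⟨hcs, hcT⟩ := A.T_eq x c hx hc.2 hc1'
    have hy : h * c * h⁻¹ ∈ cls A H x :=
      ⟨H.mul_mem (H.mul_mem hh hc.1) (H.inv_mem hh), hcs.conj h, h, hh, by
        rw [show h⁻¹ * (h * c * h⁻¹) * h = c by group]; exact hc.2⟩
    let y : cls A H x := ⟨_, hy⟩
    have hn : (g y)⁻¹ * h ∈ nor A H x := by
      refine ⟨H.mul_mem (H.inv_mem (hgH y)) hh, ?_⟩
      rw [← hcT]
      refine mem_norm hcs ?_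
      rw [hcT, show ((g y)⁻¹ * h) * c * ((g y)⁻¹ * h)⁻¹ = (g y)⁻¹ * (h * c * h⁻¹) * g y by group]
      exact hg y
    refine ⟨(y, ⟨_, hn⟩), Prod.ext (Subtype.ext (mul_inv_cancel_left _ _)) (Subtype.ext (Subtype.ext ?_))⟩
    show ((g y)⁻¹ * h)⁻¹ * ((g y)⁻¹ * (h * c * h⁻¹) * g y) * ((g y)⁻¹ * h) = c
    group

/-- The elements of order `p` in `H`. -/
def uset (p : ℕ) (H : Subgroup X) : Set X := {u | u ∈ H ∧ orderOf u = p}

theorem card_split [Finite X] [Fact p.Prime] (A : Amb X p) (H : Subgroup X) :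
    Nat.card H = 1 + (uset p H).ncard + {y | y ∈ H ∧ SS p y}.ncard := by
  classical
  have hp : p.Prime := Fact.out
  have e : (H : Set X) = ({1} ∪ uset p H) ∪ {y | y ∈ H ∧ SS p y} := by
    ext y
    constructor
    · intro hy
      by_cases h1 : y = 1
      · exact Or.inl (Or.inl h1)
      · rcases A.order_cases y h1 with h | h
        · exact Or.inr ⟨hy, h⟩
        · exact Or.inl (Or.inr ⟨hy, h⟩)
    · rintro ((rfl | h) | h)
      · exact H.one_mem
      · exact h.1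
      · exact h.1
  show Nat.card (H : Set X) = _
  rw [Nat.card_coe_set_eq, e, Set.ncard_union_eq, Set.ncard_union_eq, Set.ncard_singleton]
  · rw [Set.disjoint_singleton_left]
    exact fun h => hp.ne_one (h.2.symm.trans orderOf_one)
  · rw [Set.disjoint_left]
    rintro y (rfl | h) ⟨-, hs⟩
    · exact hs.1 rfl
    · exact hs.2 (h.2 ▸ dvd_rfl)

/-- The numerical data of the class of a torus. -/
theorem cls_data [Finite X] {x : X} (hx : SS p x) (hxH : x ∈ H) :
    2 ≤ Nat.card (tor A H x) ∧ Nat.card (tor A H x) ∣ Nat.card H ∧ ∃ f, (f = 1 ∨ f = 2) ∧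
      Nat.card (nor A H x) = f * Nat.card (tor A H x) ∧ f * Nat.card (tor A H x) ≤ Nat.card H ∧
      (cls A H x).ncard * (f * Nat.card (tor A H x)) = Nat.card H * (Nat.card (tor A H x) - 1) ∧
      Nat.card H ≤ 2 * f * (cls A H x).ncard := by
  have h2 : 2 ≤ Nat.card (tor A H x) := by
    by_contra h
    have h1 : Nat.card (tor A H x) = 1 := by
      have : 0 < Nat.card (tor A H x) := Nat.card_pos
      omega
    rw [Subgroup.card_eq_one] at h1
    exact hx.1 (Subgroup.mem_bot.mp (h1 ▸ self_mem_tor hx hxH))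
  have hle : Nat.card (nor A H x) ≤ Nat.card H :=
    Nat.le_of_dvd Nat.card_pos (Subgroup.card_dvd_of_le inf_le_left)
  have hcl := card_cls (A := A) (H := H) hx
  refine ⟨h2, Subgroup.card_dvd_of_le inf_le_left, ?_⟩
  set c := Nat.card (tor A H x)
  obtain ⟨f, hf, hn⟩ : ∃ f, (f = 1 ∨ f = 2) ∧ Nat.card (nor A H x) = f * c := by
    rcases nor_card (A := A) (H := H) hx with h | h
    · exact ⟨1, Or.inl rfl, h.trans (one_mul c).symm⟩
    · exact ⟨2, Or.inr rfl, h⟩
  rw [hn] at hle hcl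
  refine ⟨f, hf, hn, hle, hcl, ?_⟩
  refine Nat.le_of_mul_le_mul_right ?_ (show 0 < c by omega)
  calc Nat.card H * c ≤ Nat.card H * (2 * (c - 1)) := Nat.mul_le_mul_left _ (by omega)
    _ = 2 * (Nat.card H * (c - 1)) := by ring
    _ = 2 * f * (cls A H x).ncard * c := by rw [← hcl]; ring

end CfsgLib.DicksonFull
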