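import Mathlib
import Cfsg.Agent.Lib.DicksonFull.Abstract
import Cfsg.Agent.Lib.Chev.Twist.Dihedral
import Cfsg.Agent.S0494

/-!
Identification of the exceptional subgroups from the data of a torus.
-/

set_option autoImplicit false

namespace CfsgLib.DicksonFull

open Subgroup

variable {X : Type*} [Group X] [Finite X] {p : ℕ} [Fact p.Prime] {A : Amb X p} {H : Subgroup X}

theorem inv_ne_of_card {x : X} (hx : SS p x) (hxH : x ∈ H) (h2 : ¬ 2 ∣ Nat.card (tor A H x)) :
    x⁻¹ ≠ x := by
  intro e
  refine h2 ?_
  have h : orderOf x = 2 := orderOf_eq_prime (by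
    rw [pow_two]; nth_rw 1 [← e]; exact inv_mul_cancel x) hx.1
  exact h ▸ (tor A H x).orderOf_dvd_natCard (self_mem_tor hx hxH)

/-- An element of `H` commuting with `x` lies in its torus, unless `x` is an involution. -/
theorem mem_tor_of_commute {x y : X} (hx : SS p x) (hne : x⁻¹ ≠ x) (hy : y ∈ H) (hc : Commute y x) :
    y ∈ tor A H x := by
  refine ⟨hy, ?_⟩
  by_contra hyT
  have e : y * x * y⁻¹ = x := by rw [hc.eq, mul_inv_cancel_right]
  have := (A.T_norm x y hx (by rw [e]; exact A.mem_T x hx) hyT).1 x (A.mem_T x hx)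
  exact hne (this.symm.trans e)

theorem dihedral_of_half {x : X} (hx : SS p x) (hxH : x ∈ H)
    (h2 : Nat.card H = 2 * Nat.card (tor A H x)) :
    Nonempty (H ≃* DihedralGroup (Nat.card (tor A H x))) := by
  classical
  set c := Nat.card (tor A H x) with hc
  set C := (tor A H x).subgroupOf H with hC
  have hCc : Nat.card C = c := Nat.card_congr (Subgroup.subgroupOfEquivOfLe inf_le_left).toEquiv
  have hcpos : 0 < c := Nat.card_pos
  have hidx : C.index = 2 := by
    have := C.card_mul_index
    rw [hCc, h2, mul_comm 2] at this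
    exact Nat.eq_of_mul_eq_mul_left hcpos this
  have hCn : C.Normal := Subgroup.normal_of_index_eq_two hidx
  obtain ⟨m, hm⟩ : ∃ m : H, m ∉ C := by
    by_contra h
    push Not at h
    rw [(Subgroup.eq_top_iff' C).mpr h, Subgroup.index_top] at hidx
    omega
  have hmT : (m : X) ∉ A.T x := fun h => hm ⟨m.2, h⟩
  have hmn : (m : X) * x * (m : X)⁻¹ ∈ A.T x :=
    (hCn.conj_mem ⟨x, hxH⟩ (self_mem_tor hx hxH) m).2
  have hinv := (A.T_norm x (m : X) hx hmn hmT).1
  have hm2 : m * m = 1 := by
    by_contra hne
    have hmC : m * m ∈ C := by rw [← pow_two]; exact Subgroup.sq_mem_of_index_two hidx m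
    have hne' : (m : X) * m ≠ 1 := fun e => hne (Subtype.ext e)
    have hs : SS p (m : X) := by
      refine (A.order_cases (m : X) fun e => hne' (by rw [e, one_mul])).resolve_right fun hp => ?_
      have h1 : (m : X) * ((m : X) * m) * (m : X)⁻¹ = ((m : X) * m)⁻¹ := hinv _ hmC.2
      rw [show (m : X) * ((m : X) * m) * (m : X)⁻¹ = (m : X) * m by group] at h1
      have h2' : ((m : X) * m) ^ 2 = 1 := by rw [pow_two]; nth_rw 1 [h1]; exact inv_mul_cancel _
      have hd : p ∣ 2 ^ 2 := by
        rw [← hp]
        refine orderOf_dvd_of_pow_eq_one ?_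
        rw [pow_two 2, pow_mul, pow_two (m : X)]; exact h2'
      have hp2 : p = 2 := (Nat.prime_dvd_prime_iff_eq Fact.out Nat.prime_two).mp
        ((Fact.out : p.Prime).dvd_of_dvd_pow hd)
      rw [hp2] at hp
      exact hne' (by rw [← pow_two, ← hp, pow_orderOf_eq_one])
    have e1 := (A.T_eq (m : X) _ hs (mul_mem (A.mem_T _ hs) (A.mem_T _ hs)) hne').2
    have e2 := (A.T_eq x _ hx hmC.2 hne').2
    exact hmT ((e1.symm.trans e2) ▸ A.mem_T _ hs)
  have hcyc : IsCyclic C := by
    have := A.T_cyclic x hx
    have : IsCyclic (tor A H x) := Subgroup.isCyclic_of_le inf_le_right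
    exact (Subgroup.subgroupOfEquivOfLe inf_le_left).isCyclic.mpr this
  obtain ⟨a, ha⟩ := hcyc.exists_generator
  have hma : m * (a : H) * m⁻¹ = (a : H)⁻¹ := Subtype.ext (hinv _ a.2.2)
  have hmi : m⁻¹ = m := inv_eq_of_mul_eq_one_right hm2
  have : NeZero c := ⟨hcpos.ne'⟩
  refine CfsgLib.Chev.nonempty_dihedral m (m * (a : H)) hm2 ?_ ?_ ?_ h2
  · calc m * (a : H) * (m * (a : H)) = (m * (a : H) * m⁻¹) * (a : H) := by rw [hmi]; group
      _ = 1 := by rw [hma, inv_mul_cancel]
  · rw [← mul_assoc, hm2, one_mul, ← SubgroupClass.coe_pow, ← hCc, pow_card_eq_one']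
    rfl
  · refine (Subgroup.eq_top_iff' _).mpr fun g => ?_
    set K := Subgroup.closure ({m, m * (a : H)} : Set H)
    have hmK : m ∈ K := Subgroup.subset_closure (Or.inl rfl)
    have haK : (a : H) ∈ K := by
      have := K.mul_mem (K.inv_mem hmK) (Subgroup.subset_closure (Or.inr rfl) : m * (a : H) ∈ K)
      rwa [inv_mul_cancel_left] at this
    have hCK : C ≤ K := fun y hy => by
      obtain ⟨i, hi⟩ := Subgroup.mem_zpowers_iff.mp (ha ⟨y, hy⟩)
      have := congrArg Subtype.val hi
      rw [show y = ((a : H)) ^ i from this.symm]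
      exact K.zpow_mem haK i
    by_cases hg : g ∈ C
    · exact hCK hg
    · have : m⁻¹ * g ∈ C := by
        rw [Subgroup.mul_mem_iff_of_index_two hidx, inv_mem_iff]
        exact iff_of_false hm hg
      have := K.mul_mem hmK (hCK this)
      rwa [mul_inv_cancel_left] at this

theorem not_normal_of_lt {x : X} (hx : SS p x) (hxH : x ∈ H)
    (hlt : Nat.card (nor A H x) < Nat.card H) : ¬ ((tor A H x).subgroupOf H).Normal := by
  intro hn
  refine hlt.ne (congrArg (fun K : Subgroup X => Nat.card K) (le_antisymm inf_le_left fun g hg => ?_))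
  exact ⟨hg, mem_norm hx (hn.conj_mem ⟨x, hxH⟩ (self_mem_tor hx hxH) ⟨g, hg⟩).2⟩

theorem a4_of_data {x : X} (hx : SS p x) (hxH : x ∈ H) (hh : Nat.card H = 12)
    (hc : Nat.card (tor A H x) = 3) (hn : Nat.card (nor A H x) = 3) :
    Nonempty (H ≃* alternatingGroup (Fin 4)) := by
  classical
  set C := (tor A H x).subgroupOf H with hC
  have hCc : Nat.card C = 3 := by
    rw [hC, Nat.card_congr (Subgroup.subgroupOfEquivOfLe (show tor A H x ≤ H from inf_le_left)).toEquiv, hc]
  have hidx : C.index = 4 := by
    have := C.card_mul_index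
    rw [hCc, hh] at this
    omega
  have hcore : C.normalCore = ⊥ := by
    by_contra hne
    have h3 : Nat.card C.normalCore = 3 := by
      have hd : Nat.card C.normalCore ∣ 3 := hCc ▸ Subgroup.card_dvd_of_le C.normalCore_le
      rcases (Nat.dvd_prime Nat.prime_three).mp hd with h | h
      · exact absurd (Subgroup.card_eq_one.mp h) hne
      · exact h
    have he : C.normalCore = C :=
      Subgroup.eq_of_le_of_card_ge C.normalCore_le (by rw [h3, hCc])
    exact not_normal_of_lt hx hxH (by rw [hn, hh]; norm_num) (he ▸ C.normalCore_normal)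
  have e : (H ⧸ C) ≃ Fin 4 := Finite.equivFinOfCardEq (by rw [← Subgroup.index_eq_card, hidx])
  let f : H →* Equiv.Perm (Fin 4) := e.permCongrHom.toMonoidHom.comp (MulAction.toPermHom H (H ⧸ C))
  have hf : Function.Injective f := by
    refine e.permCongrHom.injective.comp ((MonoidHom.ker_eq_bot_iff _).mp ?_)
    rw [← Subgroup.normalCore_eq_ker, hcore]
  have hr : f.range = alternatingGroup (Fin 4) := by
    refine Equiv.Perm.eq_alternatingGroup_of_index_eq_two ?_
    have h1 := f.range.card_mul_index
    rw [← Nat.card_congr (MonoidHom.ofInjective hf).toEquiv, hh, Nat.card_perm, Nat.card_fin] at h1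
    simp [Nat.factorial] at h1
    omega
  exact ⟨(MonoidHom.ofInjective hf).trans (MulEquiv.subgroupCongr hr)⟩

theorem s4_of_data {x : X} (hx : SS p x) (hxH : x ∈ H) (hh : Nat.card H = 24)
    (hc : Nat.card (tor A H x) = 3) (hn : Nat.card (nor A H x) = 6) :
    Nonempty (H ≃* Equiv.Perm (Fin 4)) := by
  classical
  set N := (nor A H x).subgroupOf H with hN
  set C := (tor A H x).subgroupOf H with hC
  have hNc : Nat.card N = 6 := by
    rw [hN, Nat.card_congr (Subgroup.subgroupOfEquivOfLe (show nor A H x ≤ H from inf_le_left)).toEquiv, hn]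
  have hCc : Nat.card C = 3 := by
    rw [hC, Nat.card_congr (Subgroup.subgroupOfEquivOfLe (show tor A H x ≤ H from inf_le_left)).toEquiv, hc]
  have hidx : N.index = 4 := by
    have := N.card_mul_index
    rw [hNc, hh] at this
    omega
  have hne := inv_ne_of_card (A := A) hx hxH (by rw [hc]; norm_num)
  set K := N.normalCore
  have hCn := not_normal_of_lt (A := A) hx hxH (by rw [hn, hh]; norm_num)
  have hKC : ∀ k ∈ K, k ∈ C → k = 1 := by
    intro k hk hkC
    by_contra hk1
    refine hCn ⟨fun y hy g => ?_⟩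
    have hz : Subgroup.zpowers k = C := Subgroup.eq_of_le_of_card_ge (Subgroup.zpowers_le.mpr hkC) (by
      rw [hCc, Nat.card_zpowers]
      have hd : orderOf k ∣ 3 := hCc ▸ Subgroup.orderOf_dvd_natCard C hkC
      rcases (Nat.dvd_prime Nat.prime_three).mp hd with h | h
      · exact absurd (orderOf_eq_one_iff.mp h) hk1
      · omega)
    have hyK : y ∈ K := (hz ▸ Subgroup.zpowers_le.mpr hk : C ≤ K) hy
    have hyN := N.normalCore_le ((Subgroup.normalCore_normal N).conj_mem y hyK g)
    -- an element of order 3 of `N` lies in `C`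
    have h3 : orderOf (g * y * g⁻¹) ∣ 3 := by
      rw [show g * y * g⁻¹ = MulAut.conj g y from rfl, (MulAut.conj g).orderOf_eq]
      exact hCc ▸ Subgroup.orderOf_dvd_natCard C hy
    by_contra hout
    have ho : orderOf (g * y * g⁻¹) = 3 :=
      ((Nat.dvd_prime Nat.prime_three).mp h3).resolve_left fun e => hout (by
        rw [orderOf_eq_one_iff.mp e]; exact one_mem _)
    set z : H := g * y * g⁻¹
    have hzT : (z : X) ∉ A.T x := fun h => hout ⟨z.2, h⟩
    have hzn : (z : X) * x * (z : X)⁻¹ ∈ A.T x := (mem_norm_iff hx).mp hyN.2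
    have hz' : (z * z : H).1 * x * ((z * z : H).1)⁻¹ = x := by
      have i1 := (A.T_norm x (z : X) hx hzn hzT).1
      have i2 := i1 x (A.mem_T x hx)
      have i3 := i1 x⁻¹ (inv_mem (A.mem_T x hx))
      calc _ = (z : X) * ((z : X) * x * (z : X)⁻¹) * (z : X)⁻¹ := by
            rw [Subgroup.coe_mul]; group
        _ = x := by rw [i2, i3, inv_inv]
    have hmem := mem_tor_of_commute (A := A) hx hne (z * z).2 (mul_inv_eq_iff_eq_mul.mp hz')
    have h33 : z * z * (z * z) = z := by
      have h := pow_orderOf_eq_one z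
      rw [ho] at h
      calc z * z * (z * z) = z ^ 3 * z := by rw [pow_succ, pow_two]; group
        _ = z := by rw [h, one_mul]
    have hm : z * z * (z * z) ∈ C := C.mul_mem hmem hmem
    rw [h33] at hm
    exact hout hm
  have hK1 : K = ⊥ := by
    rw [Subgroup.eq_bot_iff_forall]
    intro k hk
    by_contra hk1
    have hkC : k ∉ C := fun h => hk1 (hKC k hk h)
    have hkT : (k : X) ∉ A.T x := fun h => hkC ⟨k.2, h⟩
    obtain ⟨hinv, huniq⟩ := A.T_norm x (k : X) hx ((mem_norm_iff hx).mp (N.normalCore_le hk).2) hkT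
    -- `k` is central
    set xx : H := ⟨x, hxH⟩
    have hc1 : xx * k * xx⁻¹ ∈ K := (Subgroup.normalCore_normal N).conj_mem k hk xx
    have hne1 : xx * k * xx⁻¹ ∉ C := fun h => by
      have := hKC _ hc1 h
      rw [mul_inv_eq_one, mul_eq_left] at this
      exact hk1 this
    have h2 := huniq ((xx * k * xx⁻¹ : H) : X) ((mem_norm_iff hx).mp (N.normalCore_le hc1).2)
      fun h => hne1 ⟨(xx * k * xx⁻¹).2, h⟩
    have h3 : k⁻¹ * (xx * k * xx⁻¹) = 1 :=
      hKC _ (K.mul_mem (K.inv_mem hk) hc1) ⟨(k⁻¹ * (xx * k * xx⁻¹)).2, h2⟩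
    rw [inv_mul_eq_one, eq_mul_inv_iff_mul_eq] at h3
    have h4 : (k : X) * x * (k : X)⁻¹ = x := by
      rw [show (k : X) * x = x * k from congrArg Subtype.val h3, mul_inv_cancel_right]
    exact hne ((hinv x (A.mem_T x hx)).symm.trans h4)
  have e : (H ⧸ N) ≃ Fin 4 := Finite.equivFinOfCardEq (by rw [← Subgroup.index_eq_card, hidx])
  let f : H →* Equiv.Perm (Fin 4) := e.permCongrHom.toMonoidHom.comp (MulAction.toPermHom H (H ⧸ N))
  have hf : Function.Injective f := by
    refine e.permCongrHom.injective.comp ((MonoidHom.ker_eq_bot_iff _).mp ?_)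
    rw [← Subgroup.normalCore_eq_ker]
    exact hK1
  refine ⟨MulEquiv.ofBijective f ((Nat.bijective_iff_injective_and_card f).mpr ⟨hf, ?_⟩)⟩
  rw [hh, Nat.card_perm, Nat.card_fin]
  rfl

theorem a5_of_data {x : X} (hx : SS p x) (hxH : x ∈ H) (hh : Nat.card H = 60)
    (hc : Nat.card (tor A H x) = 5) (hn : Nat.card (nor A H x) = 10) :
    Nonempty (H ≃* alternatingGroup (Fin 5)) := by
  classical
  have h5p := Fact.mk (show Nat.Prime 5 by norm_num)
  have h3p := Fact.mk (show Nat.Prime 3 by norm_num)
  have hne := inv_ne_of_card (A := A) hx hxH (by rw [hc]; norm_num)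
  set xx : H := ⟨x, hxH⟩
  have hox : orderOf x = 5 := by
    have hd : orderOf x ∣ 5 := hc ▸ Subgroup.orderOf_dvd_natCard _ (self_mem_tor hx hxH)
    exact ((Nat.dvd_prime h5p.out).mp hd).resolve_left fun e => hx.1 (orderOf_eq_one_iff.mp e)
  have hxo : orderOf xx = 5 := by rw [← Subgroup.orderOf_coe]; exact hox
  have hcz : tor A H x = Subgroup.zpowers x :=
    (Subgroup.eq_of_le_of_card_ge (Subgroup.zpowers_le.mpr (self_mem_tor hx hxH))
      (by rw [Nat.card_zpowers, hc, hox])).symm
  -- conjugation on a normal subgroup not containing `x`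
  have hmod : ∀ K : Subgroup H, K.Normal → xx ∉ K → Nat.card K % 5 = 1 := by
    intro K hK hxK
    have := Fintype.ofFinite K
    let σ : Equiv.Perm K := (MulAut.conjNormal xx : MulAut K).toEquiv
    have hpow : ∀ i : ℕ, (σ ^ i) = ((MulAut.conjNormal (xx ^ i) : MulAut K).toEquiv) := by
      intro i
      induction i with
      | zero => ext k; simp
      | succ i ih =>
        ext k
        rw [pow_succ', Equiv.Perm.mul_apply, ih]
        simp [σ, pow_succ', mul_assoc]
    have hσ : σ ^ 5 ^ 1 = 1 := by
      rw [pow_one, hpow, ← hxo, pow_orderOf_eq_one]; ext k; simp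
    have hmod := Equiv.Perm.card_compl_support_modEq hσ
    have hfix : σ.supportᶜ = {1} := by
      ext k
      simp only [Finset.mem_compl, Equiv.Perm.mem_support, not_not, Finset.mem_singleton]
      constructor
      · intro h
        have h' : xx * (k : H) * xx⁻¹ = (k : H) := by
          have := congrArg Subtype.val h
          simpa [σ] using this
        rw [mul_inv_eq_iff_eq_mul] at h'
        have hm := mem_tor_of_commute (A := A) hx hne (k : H).2
          (show Commute ((k : H) : X) x from (congrArg Subtype.val h').symm)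
        rw [hcz] at hm
        obtain ⟨i, hi⟩ := hm
        have hkx : (k : H) = xx ^ i := Subtype.ext (by rw [Subgroup.coe_zpow]; exact hi.symm)
        by_contra hk1
        apply hxK
        have hle : Subgroup.zpowers xx ≤ K := by
          have hz : Subgroup.zpowers (k : H) = Subgroup.zpowers xx := by
            refine Subgroup.eq_of_le_of_card_ge (Subgroup.zpowers_le.mpr ⟨i, hkx.symm⟩) ?_
            rw [Nat.card_zpowers, Nat.card_zpowers, hxo]
            have hd : orderOf (k : H) ∣ 5 := by
              rw [hkx, ← hxo]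
              exact (Subgroup.orderOf_dvd_natCard _ (zpow_mem (Subgroup.mem_zpowers xx) i)).trans
                (dvd_of_eq (Nat.card_zpowers xx))
            rcases (Nat.dvd_prime h5p.out).mp hd with h1 | h1
            · exact absurd (Subtype.ext (orderOf_eq_one_iff.mp h1)) hk1
            · omega
          rw [← hz, Subgroup.zpowers_le]; exact k.2
        exact hle (Subgroup.mem_zpowers xx)
      · rintro rfl; simp [σ]
    rw [hfix, Finset.card_singleton, ← Nat.card_eq_fintype_card] at hmod
    exact hmod.symm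
  -- no normal subgroup of order three
  have hno3 : ∀ K : Subgroup H, K.Normal → Nat.card K ≠ 3 := fun K hK h => by
    have := hmod K hK fun hxK => by
      have := Subgroup.orderOf_dvd_natCard K hxK
      rw [hxo, h] at this
      norm_num at this
    omega
  -- a normal subgroup of order divisible by five contains `x`
  have h5 : ∀ K : Subgroup H, K.Normal → 5 ∣ Nat.card K → xx ∈ K := by
    intro K hK hd
    obtain ⟨⟨y, hy⟩, hyo⟩ := exists_prime_orderOf_dvd_card' (G := K) 5 hd
    rw [Subgroup.orderOf_mk] at hyo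
    have hcard : ∀ z : H, orderOf z = 5 →
        Nat.card (Subgroup.zpowers z) = 5 ^ (Nat.card H).factorization 5 := by
      intro z hz
      have h1 : (60 : ℕ).factorization 5 = 1 := by
        rw [show (60 : ℕ) = 12 * 5 by norm_num, Nat.factorization_mul (by norm_num) (by norm_num),
          Finsupp.add_apply, Nat.Prime.factorization_self (by norm_num),
          Nat.factorization_eq_zero_of_not_dvd (by norm_num)]
      rw [Nat.card_zpowers, hz, hh, h1, pow_one]
    obtain ⟨g, hg⟩ := MulAction.exists_smul_eq H (Sylow.ofCard _ (hcard y hyo)) (Sylow.ofCard _ (hcard xx hxo))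
    have hx' : xx ∈ ((g • Sylow.ofCard _ (hcard y hyo) : Sylow 5 H) : Subgroup H) := by
      rw [hg]; exact Subgroup.mem_zpowers xx
    obtain ⟨z, hz, hzx⟩ := hx'
    rw [← hzx]
    exact hK.conj_mem z (Subgroup.zpowers_le.mpr hy hz) g
  have : Nontrivial H := Finite.one_lt_card_iff_nontrivial.mp (by omega)
  suffices IsSimpleGroup H from Cfsg.Agent.S0494.result hh
  refine ⟨fun K hK => ?_⟩
  by_contra hnt
  rw [not_or] at hnt
  obtain ⟨hKb, hKt⟩ := hnt
  have hd : Nat.card K ∣ 60 := hh ▸ K.card_subgroup_dvd_card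
  have hK1 : 1 < Nat.card K := by
    have : Nat.card K ≠ 1 := fun e => hKb (Subgroup.card_eq_one.mp e)
    have : 0 < Nat.card K := Nat.card_pos
    omega
  have hK60 : Nat.card K ≠ 60 := fun e => hKt (Subgroup.eq_top_of_card_eq K (e.trans hh.symm))
  by_cases hxK : xx ∈ K
  · -- the twenty-four elements of order five
    have hncl : (cls A H x).ncard = 24 := by
      have h := card_cls (A := A) (H := H) hx
      rw [hn, hc, hh] at h
      omega
    have hsub : cls A H x ⊆ (K.map H.subtype : Set X) := by
      rintro y ⟨hyH, -, g, hg, hgy⟩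
      have ht : g⁻¹ * y * g ∈ tor A H x := ⟨H.mul_mem (H.mul_mem (H.inv_mem hg) hyH) hg, hgy⟩
      rw [hcz] at ht
      obtain ⟨i, hi⟩ := ht
      refine ⟨⟨g, hg⟩ * xx ^ i * ⟨g, hg⟩⁻¹, hK.conj_mem _ (K.zpow_mem hxK i) _, ?_⟩
      show g * x ^ i * g⁻¹ = y
      rw [show x ^ i = g⁻¹ * y * g from hi]; group
    have h24 : 24 < Nat.card K := by
      have h := Set.ncard_le_ncard (Set.insert_subset (one_mem (K.map H.subtype)) hsub)
      rw [Set.ncard_insert_of_notMem (fun h => h.2.1.1 rfl), hncl, ← Nat.card_coe_set_eq] at h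
      rw [← Subgroup.card_map_of_injective H.subtype_injective (K := K)]
      exact h
    have hK30 : Nat.card K = 30 := by
      have h60 := Nat.le_of_dvd (by norm_num) hd
      generalize hm : Nat.card K = m at hd h24 hK60 h60 ⊢
      interval_cases m <;> first | rfl | omega
    obtain ⟨P⟩ : Nonempty (Sylow 3 K) := inferInstance
    have hPc : Nat.card (P : Subgroup K) = 3 := by
      rw [P.card_eq_multiplicity, hK30, show (30 : ℕ) = 10 * 3 by norm_num,
        Nat.factorization_mul (by norm_num) (by norm_num), Finsupp.add_apply,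
        Nat.Prime.factorization_self (by norm_num), Nat.factorization_eq_zero_of_not_dvd (by norm_num),
        zero_add, pow_one]
    have hPn : ¬ (P : Subgroup K).Normal := by
      intro hPn
      have : (P : Subgroup K).Characteristic := Sylow.characteristic_of_normal P hPn
      exact hno3 ((P : Subgroup K).map K.subtype) inferInstance
        (by rw [Subgroup.card_map_of_injective K.subtype_injective, hPc])
    have h10 : Nat.card (Sylow 3 K) = 10 := by
      have h1 := P.card_dvd_index
      have h2 := card_sylow_modEq_one 3 K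
      have h3 : (P : Subgroup K).index = 10 := by
        have := (P : Subgroup K).card_mul_index
        rw [hPc, hK30] at this; omega
      rw [h3] at h1
      have hle := Nat.le_of_dvd (by norm_num) h1
      have hne1 : Nat.card (Sylow 3 K) ≠ 1 := fun e => hPn (by
        have := (Nat.card_eq_one_iff_unique.mp e).1
        exact Sylow.normal_of_subsingleton P)
      unfold Nat.ModEq at h2
      generalize Nat.card (Sylow 3 K) = m at h1 h2 hle hne1 ⊢
      interval_cases m <;> omega
    -- twenty elements of order three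
    have := Fintype.ofFinite (Sylow 3 K)
    set U : Set K := {z | orderOf z = 3} with hU
    have hU20 : 20 ≤ U.ncard := by
      have key : Nat.card (Σ _ : Sylow 3 K, Fin 2) ≤ U.ncard := by
        rw [← Nat.card_coe_set_eq]
        have hgen : ∀ Q : Sylow 3 K, ∃ z, orderOf z = 3 ∧ (Q : Subgroup K) = Subgroup.zpowers z := by
          intro Q
          have hQ : Nat.card (Q : Subgroup K) = 3 := by
            exact Q.card_eq_multiplicity.trans (P.card_eq_multiplicity.symm.trans hPc)
          obtain ⟨⟨z, hz⟩, hzo⟩ := exists_prime_orderOf_dvd_card' (G := (Q : Subgroup K)) 3 (dvd_of_eq hQ.symm)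
          rw [Subgroup.orderOf_mk] at hzo
          exact ⟨z, hzo, (Subgroup.eq_of_le_of_card_ge (Subgroup.zpowers_le.mpr hz)
            (by rw [Nat.card_zpowers, hzo, hQ])).symm⟩
        choose z hzo hzQ using hgen
        have hord : ∀ (Q : Sylow 3 K) (j : Fin 2), orderOf (z Q ^ ((j : ℕ) + 1)) = 3 := by
          intro Q j
          rw [orderOf_pow, hzo Q]; fin_cases j <;> rfl
        refine Nat.card_le_card_of_injective (fun w => (⟨z w.1 ^ ((w.2 : ℕ) + 1), hord w.1 w.2⟩ : U)) ?_
        rintro ⟨Q, j⟩ ⟨Q', j'⟩ h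
        have h' : z Q ^ ((j : ℕ) + 1) = z Q' ^ ((j' : ℕ) + 1) := congrArg Subtype.val h
        have hQQ : Q = Q' := by
          refine Sylow.ext ?_
          have e1 : Subgroup.zpowers (z Q ^ ((j : ℕ) + 1)) = Subgroup.zpowers (z Q) :=
            Subgroup.eq_of_le_of_card_ge (Subgroup.zpowers_le.mpr ⟨((j : ℕ) + 1 : ℕ), zpow_natCast _ _⟩)
              (by rw [Nat.card_zpowers, Nat.card_zpowers, hord, hzo])
          have e2 : Subgroup.zpowers (z Q' ^ ((j' : ℕ) + 1)) = Subgroup.zpowers (z Q') :=
            Subgroup.eq_of_le_of_card_ge (Subgroup.zpowers_le.mpr ⟨((j' : ℕ) + 1 : ℕ), zpow_natCast _ _⟩)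
              (by rw [Nat.card_zpowers, Nat.card_zpowers, hord, hzo])
          rw [hzQ, hzQ, ← e1, ← e2, h']
        subst hQQ
        have := pow_injOn_Iio_orderOf (x := z Q) (by rw [Set.mem_Iio, hzo]; omega)
          (by rw [Set.mem_Iio, hzo]; omega) h'
        rw [Sigma.mk.injEq]
        exact ⟨rfl, heq_of_eq (Fin.ext (by omega))⟩
      rwa [Nat.card_sigma, Finset.sum_const, Nat.card_fin, smul_eq_mul, Finset.card_univ,
        ← Nat.card_eq_fintype_card, h10] at key
    have hdis : Disjoint ((fun z : K => ((z : H) : X)) '' U) (cls A H x) := by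
      rw [Set.disjoint_left]
      rintro _ ⟨z, hz, rfl⟩ ⟨-, -, g, hg, hgy⟩
      have ho : orderOf (g⁻¹ * ((z : H) : X) * g) = 3 := by
        rw [show g⁻¹ * ((z : H) : X) * g = MulAut.conj g⁻¹ ((z : H) : X) by simp,
          (MulAut.conj g⁻¹).orderOf_eq, Subgroup.orderOf_coe, Subgroup.orderOf_coe]
        exact hz
      have := Subgroup.orderOf_dvd_natCard (tor A H x)
        (show g⁻¹ * ((z : H) : X) * g ∈ tor A H x from
          ⟨H.mul_mem (H.mul_mem (H.inv_mem hg) (z : H).2) hg, hgy⟩)
      rw [ho, hc] at this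
      norm_num at this
    have hsub2 : ((fun z : K => ((z : H) : X)) '' U) ∪ cls A H x ⊆ (K.map H.subtype : Set X) := by
      rintro y (⟨z, -, rfl⟩ | hy)
      · exact ⟨z, z.2, rfl⟩
      · exact hsub hy
    have h := Set.ncard_le_ncard hsub2
    rw [Set.ncard_union_eq hdis, hncl, Set.ncard_image_of_injective U
      (f := fun z : K => ((z : H) : X)) (fun a b h => Subtype.ext (Subtype.ext h)), ← Nat.card_coe_set_eq] at h
    have : Nat.card (K.map H.subtype) = 30 := by
      rw [Subgroup.card_map_of_injective H.subtype_injective, hK30]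
    change _ ≤ Nat.card (K.map H.subtype) at h
    rw [Nat.card_coe_set_eq] at h
    omega
  · have h5' : ¬ 5 ∣ Nat.card K := fun h => hxK (h5 K hK h)
    have h1 := hmod K hK hxK
    have hK6 : Nat.card K = 6 := by
      have h60 := Nat.le_of_dvd (by norm_num) hd
      generalize hm : Nat.card K = m at hd h1 hK1 hK60 h60 h5' ⊢
      interval_cases m <;> first | rfl | omega
    obtain ⟨P⟩ : Nonempty (Sylow 3 K) := inferInstance
    have hPc : Nat.card (P : Subgroup K) = 3 := by
      rw [P.card_eq_multiplicity, hK6, show (6 : ℕ) = 2 * 3 by norm_num,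
        Nat.factorization_mul (by norm_num) (by norm_num), Finsupp.add_apply,
        Nat.Prime.factorization_self (by norm_num), Nat.factorization_eq_zero_of_not_dvd (by norm_num),
        zero_add, pow_one]
    have hPn : (P : Subgroup K).Normal := by
      refine Subgroup.normal_of_index_eq_two ?_
      have := (P : Subgroup K).card_mul_index
      rw [hPc, hK6] at this; omega
    have : (P : Subgroup K).Characteristic := Sylow.characteristic_of_normal P hPn
    exact hno3 ((P : Subgroup K).map K.subtype) inferInstance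
      (by rw [Subgroup.card_map_of_injective K.subtype_injective, hPc])

end CfsgLib.DicksonFull
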