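import Mathlib
import Cfsg.Agent.Lib.DicksonFull.Abstract
import Cfsg.Agent.Lib.DicksonFull.Identify

/-!
Dickson's case division for a subgroup of a group partitioned like `PSL₂(q)`.
-/

set_option autoImplicit false

namespace CfsgLib.DicksonFull

open Subgroup

/-- A group acting freely on a finite set has order dividing the cardinality of the set. -/
theorem dvd_of_free {G α : Type*} [Group G] [Finite α] (act : G → α → α)
    (h1 : ∀ a, act 1 a = a) (hm : ∀ g g' a, act (g * g') a = act g (act g' a))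
    (hfree : ∀ g a, act g a = a → g = 1) : Nat.card G ∣ Nat.card α := by
  letI : MulAction G α :=
    { smul := act
      one_smul := h1
      mul_smul := hm }
  have hst : ∀ a : α, MulAction.stabilizer G a = ⊥ := fun a => by
    rw [eq_bot_iff]
    exact fun g hg => Subgroup.mem_bot.mpr (hfree g a hg)
  rw [Nat.card_congr (MulAction.selfEquivOrbitsQuotientProd hst), Nat.card_prod]
  exact dvd_mul_left _ _

theorem a4_of_three {G : Type*} [Group G] [Finite G] (C : Subgroup G) (hh : Nat.card G = 12)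
    (hC : Nat.card C = 3) (hn : ¬ C.Normal) : Nonempty (G ≃* alternatingGroup (Fin 4)) := by
  classical
  have hidx : C.index = 4 := by
    have := C.card_mul_index
    rw [hC, hh] at this
    omega
  have hcore : C.normalCore = ⊥ := by
    by_contra hne
    have hd : Nat.card C.normalCore ∣ 3 := hC ▸ Subgroup.card_dvd_of_le C.normalCore_le
    rcases (Nat.dvd_prime Nat.prime_three).mp hd with h | h
    · exact hne (Subgroup.card_eq_one.mp h)
    · exact hn (Subgroup.eq_of_le_of_card_ge C.normalCore_le (by rw [h, hC]) ▸ C.normalCore_normal)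
  have e : (G ⧸ C) ≃ Fin 4 := Finite.equivFinOfCardEq (by rw [← Subgroup.index_eq_card, hidx])
  let f : G →* Equiv.Perm (Fin 4) := e.permCongrHom.toMonoidHom.comp (MulAction.toPermHom G (G ⧸ C))
  have hf : Function.Injective f := by
    refine e.permCongrHom.injective.comp ((MonoidHom.ker_eq_bot_iff _).mp ?_)
    rw [← Subgroup.normalCore_eq_ker, hcore]
  have hr : f.range = alternatingGroup (Fin 4) := by
    refine Equiv.Perm.eq_alternatingGroup_of_index_eq_two ?_
    have h1 := f.range.card_mul_index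
    rw [← Nat.card_congr (MonoidHom.ofInjective hf).toEquiv, hh, Nat.card_perm, Nat.card_fin] at h1
    simp [Nat.factorial] at h1
    omega
  exact ⟨(MonoidHom.ofInjective hf).trans (MulEquiv.subgroupCongr hr)⟩

/-- The arithmetic of a subgroup with many Sylow `p`-subgroups. -/
theorem sylow_num {D c k q : ℕ} (hq : 1 ≤ q) (hk : 1 ≤ k) (hD : 1 ≤ D) (hDq : D ≤ q + 1)
    (E : (k * (q + 2) + 1) * D = c * (k * q + 1)) :
    (k = 1 ∧ 2 * D = q + 1) ∨ (k = 1 ∧ D = q + 1) ∨ (q = 1 ∧ k = 3 ∧ D = 2 ∧ c = 5) := by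
  have hco : Nat.Coprime (k * q + 1) k := by simp [Nat.coprime_mul_left_add_left]
  have h1 : k * q + 1 ∣ k * (2 * D) := by
    have h2 : k * q + 1 ∣ (k * q + 1) * D + k * (2 * D) := ⟨c, by linarith⟩
    exact (Nat.dvd_add_right (dvd_mul_right _ _)).mp h2
  obtain ⟨j, hj⟩ := hco.dvd_of_dvd_mul_left h1
  have hj1 : 1 ≤ j := by
    rcases Nat.eq_zero_or_pos j with rfl | h
    · omega
    · exact h
  have hkq : k * 1 ≤ k * q := Nat.mul_le_mul_left k hq
  have h1q : 1 * q ≤ k * q := Nat.mul_le_mul_right q hk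
  rcases (show j = 1 ∨ j = 2 ∨ 3 ≤ j by omega) with rfl | rfl | hj3
  · rcases (show k = 1 ∨ k = 2 ∨ 3 ≤ k by omega) with rfl | rfl | hk3
    · exact Or.inl ⟨rfl, by omega⟩
    · omega
    · right; right
      have h3q : 3 * q ≤ k * q := Nat.mul_le_mul_right q hk3
      obtain rfl : q = 1 := by omega
      obtain rfl : k = 3 := by omega
      obtain rfl : D = 2 := by omega
      exact ⟨rfl, rfl, rfl, by omega⟩
  · rcases (show k = 1 ∨ 2 ≤ k by omega) with rfl | hk2
    · exact Or.inr (Or.inl ⟨rfl, by omega⟩)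
    · have h2q : 2 * q ≤ k * q := Nat.mul_le_mul_right q hk2
      omega
  · have h3 : (k * q + 1) * 3 ≤ (k * q + 1) * j := Nat.mul_le_mul_left _ hj3
    omega

theorem two_num {a b h : ℕ} (ha : 2 ≤ a) (hb : 2 ≤ b) (E : a * b * h + 2 * a * b = 2 * b * h + a * h) :
    (a = 2 ∧ h = 2 * b) ∨ (a = 3 ∧ b = 2 ∧ h = 12) := by
  rcases (show a = 2 ∨ a = 3 ∨ 4 ≤ a by omega) with rfl | rfl | ha4
  · exact Or.inl ⟨rfl, by linarith⟩
  · rcases (show b = 2 ∨ 3 ≤ b by omega) with rfl | hb3
    · exact Or.inr ⟨rfl, rfl, by linarith⟩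
    · exfalso
      have h1 := Nat.mul_le_mul_right h hb3
      linarith
  · exfalso
    have h0 : 2 * b + a ≤ a * b := by nlinarith
    have h1 := Nat.mul_le_mul_right h h0
    have h2 : 0 < a * b := Nat.mul_pos (by omega) (by omega)
    nlinarith

theorem three_num {b c h : ℕ} (hb : 2 ≤ b) (hbc : b ≤ c) (E : h * (2 * c + 2 * b) = b * c * (h + 4)) :
    (b = 2 ∧ h = 2 * c) ∨
      (b = 3 ∧ ((c = 3 ∧ h = 12) ∨ (c = 4 ∧ h = 24) ∨ (c = 5 ∧ h = 60))) := by
  rcases (show b = 2 ∨ b = 3 ∨ 4 ≤ b by omega) with rfl | rfl | hb4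
  · exact Or.inl ⟨rfl, by linarith⟩
  · refine Or.inr ⟨rfl, ?_⟩
    rcases (show c = 3 ∨ c = 4 ∨ c = 5 ∨ 6 ≤ c by omega) with rfl | rfl | rfl | hc6
    · omega
    · omega
    · omega
    · exfalso
      have h1 := Nat.mul_le_mul_right h hc6
      linarith
  · exfalso
    have h0 : 2 * c + 2 * b ≤ b * c := by nlinarith
    have h1 := Nat.mul_le_mul_left h h0
    have h2 : 0 < b * c := Nat.mul_pos (by omega) (by omega)
    linarith

theorem three_num' {a b c h : ℕ} (ha : 3 ≤ a) (hb : 3 ≤ b) (hc : 3 ≤ c) :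
    h * (b * c + a * c + a * b) ≠ a * b * c * (h + 2) := by
  intro E
  have h1 : 3 * (b * c) ≤ a * (b * c) := Nat.mul_le_mul_right _ ha
  have h2 : 3 * (a * c) ≤ b * (a * c) := Nat.mul_le_mul_right _ hb
  have h3 : 3 * (a * b) ≤ c * (a * b) := Nat.mul_le_mul_right _ hc
  have h4 : b * c + a * c + a * b ≤ a * b * c := by linarith
  have h5 := Nat.mul_le_mul_left h h4
  have h6 : 0 < a * b * c := by positivity
  linarith

variable {X : Type*} [Group X] {p : ℕ}

/-- The centraliser of an element. -/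
def cent (u : X) : Subgroup X := Subgroup.centralizer {u}

theorem mem_cent {u y : X} : y ∈ cent u ↔ Commute y u := by
  rw [cent, Subgroup.mem_centralizer_singleton_iff]
  exact ⟨fun h => h, fun h => h⟩

theorem self_mem_cent (u : X) : u ∈ cent u := mem_cent.mpr (Commute.refl u)

/-- The normaliser of the centraliser of an element of order `p`. -/
def bor (u : X) : Subgroup X := Subgroup.normalizer (cent u : Set X)

variable (A : Amb X p)
include A

theorem cent_eq {u v : X} (hu : orderOf u = p) (hv : orderOf v = p) (h : Commute v u) :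
    cent v = cent u := by
  ext y
  rw [mem_cent, mem_cent]
  exact ⟨fun hy => (A.u_cen v y u hv hy h.symm).1, fun hy => (A.u_cen u y v hu hy h).1⟩

theorem mem_bor {u y : X} (hu : orderOf u = p) : y ∈ bor u ↔ Commute (y * u * y⁻¹) u := by
  refine ⟨fun h => mem_cent.mp ((Subgroup.mem_normalizer_iff.mp h u).mp (self_mem_cent u)), fun h => ?_⟩
  have he : cent (y * u * y⁻¹) = cent u := cent_eq A hu
    (by rw [show y * u * y⁻¹ = MulAut.conj y u from rfl, (MulAut.conj y).orderOf_eq, hu]) h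
  rw [bor, Subgroup.mem_normalizer_iff]
  intro z
  constructor
  · intro hz
    refine he ▸ mem_cent.mpr ?_
    exact (mem_cent.mp hz).map (MulAut.conj y)
  · intro hz
    have hz' := (mem_cent.mp (he.symm ▸ hz : y * z * y⁻¹ ∈ cent (y * u * y⁻¹))).map (MulAut.conj y⁻¹)
    refine mem_cent.mpr ?_
    simpa [mul_assoc] using hz'

theorem cent_le_bor (u : X) : cent u ≤ bor u := Subgroup.le_normalizer

theorem not_commute_of_SS [Fact p.Prime] {u y : X} (hu : orderOf u = p) (hy : SS p y) :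
    ¬ Commute y u := fun h => by
  have hd := orderOf_dvd_of_pow_eq_one (A.u_cen u y u hu h (Commute.refl u)).2
  rcases (Nat.dvd_prime (Fact.out : p.Prime)).mp hd with e | e
  · exact hy.1 (orderOf_eq_one_iff.mp e)
  · exact hy.2 (dvd_of_eq e.symm)

theorem orderOf_of_cent [Fact p.Prime] {u y : X} (hu : orderOf u = p) (hy : y ∈ cent u) (h1 : y ≠ 1) :
    orderOf y = p :=
  (A.order_cases y h1).resolve_left fun h => not_commute_of_SS A hu h (mem_cent.mp hy)

variable {H : Subgroup X} [Finite X] [Fact p.Prime]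

theorem isPGroup_part {u : X} (hu : orderOf u = p) :
    IsPGroup p ((H ⊓ cent u).subgroupOf H) := by
  intro y
  refine ⟨1, Subtype.ext (Subtype.ext ?_)⟩
  have hy : ((y : H) : X) ∈ cent u := (Subgroup.mem_subgroupOf.mp y.2).2
  simpa using (A.u_cen u _ u hu (mem_cent.mp hy) (Commute.refl u)).2

theorem sylow_eq (S : Sylow p H) {v : H} (hv : v ∈ S) (hv1 : v ≠ 1) :
    orderOf (v : X) = p ∧ (S : Subgroup H) = (H ⊓ cent (v : X)).subgroupOf H := by
  have hSne : Nontrivial (S : Subgroup H) :=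
    ⟨⟨⟨v, hv⟩, 1, fun e => hv1 (congrArg Subtype.val e)⟩⟩
  have hc := S.2.center_nontrivial
  obtain ⟨z0, hz0⟩ := exists_ne (1 : Subgroup.center (S : Subgroup H))
  obtain ⟨k, hk⟩ := (S.2.to_subgroup (Subgroup.center (S : Subgroup H))).exists_card_eq
  have hk0 : k ≠ 0 := by
    rintro rfl
    rw [pow_zero, Subgroup.card_eq_one] at hk
    exact hz0 (Subtype.ext (Subgroup.mem_bot.mp (hk ▸ z0.2)))
  obtain ⟨z, hz⟩ := exists_prime_orderOf_dvd_card' (G := Subgroup.center (S : Subgroup H)) p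
    (hk ▸ dvd_pow_self p hk0)
  set zX : X := (((z : (S : Subgroup H)) : H) : X) with hzX
  have hzo : orderOf zX = p := by
    rw [hzX, Subgroup.orderOf_coe, Subgroup.orderOf_coe, Subgroup.orderOf_coe, hz]
  have hcom : ∀ y : H, y ∈ S → Commute (y : X) zX := by
    intro y hy
    have := Subgroup.mem_center_iff.mp z.2 (⟨y, hy⟩ : (S : Subgroup H))
    exact congrArg (fun w : (S : Subgroup H) => ((w : H) : X)) this
  have hvo : orderOf (v : X) = p :=
    orderOf_of_cent A hzo (mem_cent.mpr (hcom v hv)) fun e => hv1 (Subtype.ext e)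
  have hle : (S : Subgroup H) ≤ (H ⊓ cent (v : X)).subgroupOf H := by
    intro y hy
    refine Subgroup.mem_subgroupOf.mpr ⟨y.2, ?_⟩
    rw [cent_eq A hzo hvo (hcom v hv)]
    exact mem_cent.mpr (hcom y hy)
  exact ⟨hvo, (S.is_maximal' (isPGroup_part A hvo) hle).symm⟩

theorem exists_sylow {v : X} (hvH : v ∈ H) (hv : orderOf v = p) :
    ∃ S : Sylow p H, (S : Subgroup H) = (H ⊓ cent v).subgroupOf H := by
  obtain ⟨S, hS⟩ := (isPGroup_part A (H := H) hv).exists_le_sylow
  have hvS : (⟨v, hvH⟩ : H) ∈ S := hS (Subgroup.mem_subgroupOf.mpr ⟨hvH, self_mem_cent v⟩)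
  have hv1 : (⟨v, hvH⟩ : H) ≠ 1 := fun e => by
    have : v = 1 := congrArg Subtype.val e
    rw [this, orderOf_one] at hv
    exact (Fact.out : p.Prime).ne_one hv.symm
  exact ⟨S, (sylow_eq A S hvS hv1).2⟩

/-- The numerical data of the part of `H` at an element of order `p`. -/
theorem sylow_data {u : X} (huH : u ∈ H) (hu : orderOf u = p) :
    ∃ n Q : ℕ, Nat.card (H ⊓ cent u : Subgroup X) = Q ∧ 2 ≤ Q ∧ 1 ≤ n ∧ (∃ k, n = k * Q + 1) ∧
      Nat.card H = n * Nat.card (H ⊓ bor u : Subgroup X) ∧ (uset p H).ncard = n * (Q - 1) ∧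
      Nat.card (Sylow p H) = n ∧ (∃ m, Q = p ^ m) ∧
      ¬ p ∣ ((H ⊓ cent u).subgroupOf H).index := by
  classical
  obtain ⟨S0, hS0⟩ := exists_sylow A huH hu
  have hQ : Nat.card (S0 : Subgroup H) = Nat.card (H ⊓ cent u : Subgroup X) := by
    rw [hS0]
    exact Nat.card_congr (Subgroup.subgroupOfEquivOfLe inf_le_left).toEquiv
  have h2 : 2 ≤ Nat.card (H ⊓ cent u : Subgroup X) := by
    have hd : orderOf u ∣ Nat.card (H ⊓ cent u : Subgroup X) :=
      Subgroup.orderOf_dvd_natCard _ ⟨huH, self_mem_cent u⟩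
    rw [hu] at hd
    exact (Fact.out : p.Prime).two_le.trans (Nat.le_of_dvd Nat.card_pos hd)
  have hTI : ∀ (S S' : Sylow p H) (v : H), v ≠ 1 → v ∈ S → v ∈ S' → S = S' := fun S S' v h1 h h' =>
    Sylow.ext ((sylow_eq A S h h1).2.trans (sylow_eq A S' h' h1).2.symm)
  refine ⟨Nat.card (Sylow p H), _, rfl, h2, Nat.card_pos, ?_, ?_, ?_, rfl, ?_, ?_⟩
  · -- the other Sylow subgroups are permuted freely
    have hfree := dvd_of_free (G := (S0 : Subgroup H)) (α := {S : Sylow p H // S ≠ S0})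
      (fun g S => ⟨(g : H) • S.1, fun e => S.2 (by
        have h1 : (g : H)⁻¹ • ((g : H) • S.1) = (g : H)⁻¹ • S0 := congrArg _ e
        rw [inv_smul_smul] at h1
        rw [h1, Sylow.smul_eq_iff_mem_normalizer]
        exact inv_mem (Subgroup.le_normalizer g.2))⟩)
      (fun S => Subtype.ext (one_smul _ _))
      (fun g g' S => Subtype.ext (mul_smul (g : H) (g' : H) S.1))
      (fun g S h => by
        by_contra hg
        have hg1 : (g : H) ≠ 1 := fun e => hg (Subtype.ext e)
        have hmem : (g : H) ∈ Subgroup.normalizer ((S.1 : Subgroup H) : Set H) :=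
          Sylow.smul_eq_iff_mem_normalizer.mp (congrArg Subtype.val h)
        have hp : IsPGroup p (Subgroup.zpowers (g : H)) :=
          S0.2.to_le (Subgroup.zpowers_le.mpr g.2)
        have hle : Subgroup.zpowers (g : H) ≤ Subgroup.normalizer ((S.1 : Subgroup H) : Set H) :=
          Subgroup.zpowers_le.mpr hmem
        have hin : (g : H) ∈ S.1 := by
          have hsup := hp.to_sup_of_normal_right' S.1.2 hle
          have := S.1.is_maximal' hsup le_sup_right
          exact (this ▸ Subgroup.mem_sup_left (Subgroup.mem_zpowers _) : (g : H) ∈ (S.1 : Subgroup H))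
        exact S.2 (hTI S.1 S0 _ hg1 hin g.2))
    obtain ⟨k, hk⟩ := hfree
    refine ⟨k, ?_⟩
    have := Fintype.ofFinite (Sylow p H)
    have hcc : Nat.card {S : Sylow p H // S ≠ S0} = Nat.card (Sylow p H) - 1 := by
      rw [Nat.card_eq_fintype_card, Nat.card_eq_fintype_card, Fintype.card_subtype_compl,
        Fintype.card_subtype_eq]
    rw [hcc, hQ] at hk
    have hpos : 0 < Nat.card (Sylow p H) := Nat.card_pos
    rw [mul_comm]
    omega
  · -- the normaliser of a Sylow subgroup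
    have hN : Subgroup.normalizer ((S0 : Subgroup H) : Set H) = (H ⊓ bor u).subgroupOf H := by
      ext g
      rw [Subgroup.mem_subgroupOf]
      constructor
      · intro hg
        refine ⟨g.2, (mem_bor A hu).mpr ?_⟩
        have hm := (Subgroup.mem_normalizer_iff.mp hg ⟨u, huH⟩).mp
          (by rw [hS0]; exact ⟨huH, self_mem_cent u⟩)
        rw [hS0] at hm
        exact mem_cent.mp hm.2
      · intro hg
        rw [Subgroup.mem_normalizer_iff]
        intro y
        simp only [hS0, Subgroup.mem_subgroupOf, Subgroup.mem_inf]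
        have := Subgroup.mem_normalizer_iff.mp hg.2 (y : X)
        exact ⟨fun h => ⟨(g * y * g⁻¹).2, this.mp h.2⟩, fun h => ⟨y.2, this.mpr h.2⟩⟩
    have hi : (Subgroup.normalizer ((S0 : Subgroup H) : Set H)).index = Nat.card (Sylow p H) :=
      S0.card_eq_index_normalizer.symm
    have hm := (Subgroup.normalizer ((S0 : Subgroup H) : Set H)).card_mul_index
    rw [hi, hN, Nat.card_congr (Subgroup.subgroupOfEquivOfLe inf_le_left).toEquiv] at hm
    rw [← hm, mul_comm]
  · -- the elements of order `p`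
    have hSc : ∀ S : Sylow p H, Nat.card {v : (S : Subgroup H) // v ≠ 1} =
        Nat.card (H ⊓ cent u : Subgroup X) - 1 := by
      intro S
      have := Fintype.ofFinite (S : Subgroup H)
      rw [← hQ, S0.card_eq_multiplicity, ← S.card_eq_multiplicity,
        Nat.card_eq_fintype_card, Nat.card_eq_fintype_card, Fintype.card_subtype_compl,
        Fintype.card_subtype_eq]
    have := Fintype.ofFinite (Sylow p H)
    have hcount : Nat.card (Σ S : Sylow p H, {v : (S : Subgroup H) // v ≠ 1}) =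
        Nat.card (Sylow p H) * (Nat.card (H ⊓ cent u : Subgroup X) - 1) := by
      rw [Nat.card_sigma, Finset.sum_congr rfl fun S _ => hSc S, Finset.sum_const, Finset.card_univ,
        smul_eq_mul, ← Nat.card_eq_fintype_card]
    rw [← hcount, ← Nat.card_coe_set_eq]
    symm
    refine Nat.card_eq_of_bijective (fun z => (⟨((z.2.1 : H) : X), (z.2.1 : H).2,
      (sylow_eq A z.1 z.2.1.2 fun e => z.2.2 (Subtype.ext e)).1⟩ : uset p H)) ⟨?_, ?_⟩
    · rintro ⟨S, v, hv⟩ ⟨S', v', hv'⟩ e
      have e' : (v : H) = (v' : H) := Subtype.ext (congrArg (fun w : uset p H => (w : X)) e)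
      obtain rfl := hTI S S' (v : H) (fun e1 => hv (Subtype.ext e1)) v.2 (e' ▸ v'.2)
      have : v = v' := Subtype.ext e'
      subst this
      rfl
    · rintro ⟨v, hvH, hv⟩
      obtain ⟨S, hS⟩ := exists_sylow A hvH hv
      refine ⟨⟨S, ⟨⟨v, hvH⟩, hS ▸ Subgroup.mem_subgroupOf.mpr ⟨hvH, self_mem_cent v⟩⟩,
        fun e => ?_⟩, rfl⟩
      have : v = 1 := congrArg (fun w : (S : Subgroup H) => ((w : H) : X)) e
      rw [this, orderOf_one] at hv
      exact (Fact.out : p.Prime).ne_one hv.symm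
  · exact ⟨_, hQ.symm.trans S0.card_eq_multiplicity⟩
  · rw [← hS0]
    exact S0.not_dvd_index

omit A in
/-- The semisimple elements of `H` outside the classes of the given tori. -/
def rest (A : Amb X p) (H : Subgroup X) (l : List X) : Set X :=
  {y | y ∈ H ∧ SS p y ∧ ∀ x ∈ l, y ∉ cls A H x}

theorem rest_nil : rest A H [] = {y | y ∈ H ∧ SS p y} := by
  ext y; simp [rest]

theorem rest_step (l : List X) (hl : ∀ x ∈ l, SS p x) :
    (rest A H l).ncard = 0 ∨ ∃ y, SS p y ∧ y ∈ H ∧ y ∈ rest A H l ∧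
      (rest A H l).ncard = (cls A H y).ncard + (rest A H (y :: l)).ncard := by
  rcases (rest A H l).eq_empty_or_nonempty with h | ⟨y, hy⟩
  · exact Or.inl (by rw [h, Set.ncard_empty])
  obtain ⟨hyH, hys, hyl⟩ := hy
  refine Or.inr ⟨y, hys, hyH, ⟨hyH, hys, hyl⟩, ?_⟩
  have e : rest A H l = cls A H y ∪ rest A H (y :: l) := by
    ext z
    constructor
    · rintro ⟨h1, h2, h3⟩
      by_cases hz : z ∈ cls A H y
      · exact Or.inl hz
      · exact Or.inr ⟨h1, h2, List.forall_mem_cons.mpr ⟨hz, h3⟩⟩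
    · rintro (hz | ⟨h1, h2, h3⟩)
      · refine ⟨hz.1, hz.2.1, fun x hx hzx => hyl x hx ?_⟩
        rw [← cls_eq (hl x hx) hzx, cls_eq hys hz]
        exact self_mem_cls hys hyH
      · exact ⟨h1, h2, (List.forall_mem_cons.mp h3).2⟩
  rw [e, Set.ncard_union_eq]
  exact Set.disjoint_left.mpr fun z hz hz' => hz'.2.2 y List.mem_cons_self hz

/-- The data of a class, without subtraction. -/
theorem class_data {x : X} (hx : SS p x) (hxH : x ∈ H) :
    ∃ c f, Nat.card (tor A H x) = c ∧ Nat.card (nor A H x) = f * c ∧ 2 ≤ c ∧ (f = 1 ∨ f = 2) ∧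
      f * c ≤ Nat.card H ∧ (cls A H x).ncard * (f * c) + Nat.card H = Nat.card H * c ∧
      Nat.card H ≤ 2 * f * (cls A H x).ncard ∧
      (f = 2 → 2 * (cls A H x).ncard + 2 ≤ Nat.card H) ∧ 1 ≤ (cls A H x).ncard := by
  obtain ⟨hc, -, f, hf, hn, hle, he, hb⟩ := cls_data (A := A) (H := H) hx hxH
  generalize Nat.card (tor A H x) = c at hc hn hle he
  have hpos : 1 ≤ (cls A H x).ncard :=
    (Set.ncard_pos (Set.toFinite _)).mpr ⟨x, self_mem_cls hx hxH⟩
  generalize Nat.card H = h at hle he hb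
  obtain ⟨d, rfl⟩ : ∃ d, c = d + 1 := ⟨c - 1, by omega⟩
  rw [Nat.add_sub_cancel] at he
  refine ⟨d + 1, f, rfl, hn, hc, hf, hle, by rw [he]; ring, hb, ?_, hpos⟩
  rintro rfl
  by_contra hcon
  nlinarith [show h ≤ 2 * (cls A H x).ncard + 1 by omega]

/-- The possible shapes of `H`. -/
inductive Kind (A : Amb X p) (H : Subgroup X) : Prop
  | triv (h : H = ⊥)
  | cyclic (x : X) (hx : SS p x) (hxH : x ∈ H) (h : H ≤ A.T x)
  | dihedral (x : X) (hx : SS p x) (hxH : x ∈ H)
      (h : Nonempty (H ≃* DihedralGroup (Nat.card (tor A H x))))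
  | a4 (h : Nonempty (H ≃* alternatingGroup (Fin 4)))
  | s4 (h : Nonempty (H ≃* Equiv.Perm (Fin 4)))
  | a5 (h : Nonempty (H ≃* alternatingGroup (Fin 5)))
  | borel (u : X) (huH : u ∈ H) (hu : orderOf u = p) (h : H ≤ bor u)
  | field (u v : X) (huH : u ∈ H) (hu : orderOf u = p) (hvH : v ∈ H) (hv : orderOf v = p)
      (huv : ¬ Commute v u) (Q : ℕ) (hQ : Nat.card (H ⊓ cent u : Subgroup X) = Q) (h3 : 3 ≤ Q)
      (hh : Nat.card H = (Q + 1) * Nat.card (H ⊓ bor u : Subgroup X))
      (hB : 2 * Nat.card (H ⊓ bor u : Subgroup X) = Q * (Q - 1) ∨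
        Nat.card (H ⊓ bor u : Subgroup X) = Q * (Q - 1))
      (hmax : ∀ z ∈ H, SS p z → Nat.card (tor A H z) ≤ Q + 1)

theorem tor_card_eq {x z : X} (hx : SS p x) (hz : z ∈ cls A H x) :
    Nat.card (tor A H z) = Nat.card (tor A H x) := by
  obtain ⟨-, hzs, g, hg, hgz⟩ := hz
  have hs : SS p (g⁻¹ * z * g) := by simpa using hzs.conj g⁻¹
  have hT : A.T (g⁻¹ * z * g) = A.T x := (A.T_eq x _ hx hgz hs.1).2
  have key : ∀ w, w ∈ A.T z ↔ g⁻¹ * w * g ∈ A.T x := by
    intro w
    have := A.T_conj z g⁻¹ (g⁻¹ * w * g) hzs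
    rw [inv_inv, hT, show g * (g⁻¹ * w * g) * g⁻¹ = w by group] at this
    exact this.symm
  refine Nat.card_congr
    { toFun := fun w => ⟨g⁻¹ * w.1 * g,
        H.mul_mem (H.mul_mem (H.inv_mem hg) w.2.1) hg, (key _).mp w.2.2⟩
      invFun := fun w => ⟨g * w.1 * g⁻¹, H.mul_mem (H.mul_mem hg w.2.1) (H.inv_mem hg),
        (key _).mpr (by rw [show g⁻¹ * (g * w.1 * g⁻¹) * g = w.1 by group]; exact w.2.2)⟩
      left_inv := fun w => Subtype.ext (by group)
      right_inv := fun w => Subtype.ext (by group) }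

theorem eq_tor_of_card {x : X} (hc : Nat.card (tor A H x) = Nat.card H) : H ≤ A.T x := by
  have h : tor A H x = H := Subgroup.eq_of_le_of_card_ge inf_le_left hc.ge
  exact fun y hy => (h.symm ▸ hy : y ∈ tor A H x).2

theorem kind_one {x : X} (hx : SS p x) (hxH : x ∈ H)
    (hs : (cls A H x).ncard + 1 = Nat.card H) : Kind A H := by
  obtain ⟨c, f, hc, hn, h2, hf, hle, he, hb, hb2, -⟩ := class_data A hx hxH
  rcases hf with rfl | rfl
  · refine .cyclic x hx hxH (eq_tor_of_card A ?_)
    rw [hc]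
    nlinarith
  · exfalso
    have := hb2 rfl
    omega

theorem kind_two {x y : X} (hx : SS p x) (hxH : x ∈ H) (hy : SS p y) (hyH : y ∈ H)
    (hs : (cls A H x).ncard + (cls A H y).ncard + 1 = Nat.card H) : Kind A H := by
  obtain ⟨a, f, hca, hna, ha, hf, hlea, hea, hba, hba2, -⟩ := class_data A hx hxH
  obtain ⟨b, g, hcb, hnb, hb, hg, hleb, heb, hbb, hbb2, -⟩ := class_data A hy hyH
  have key : ∀ (x y : X) (a b : ℕ), SS p x → x ∈ H → SS p y → y ∈ H → Nat.card (tor A H x) = a →
      Nat.card (nor A H x) = a → 2 ≤ a → a ≤ Nat.card H →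
      Nat.card (tor A H y) = b → 2 ≤ b → 2 * b ≤ Nat.card H →
      (cls A H x).ncard * a + Nat.card H = Nat.card H * a →
      (cls A H y).ncard * (2 * b) + Nat.card H = Nat.card H * b →
      (cls A H x).ncard + (cls A H y).ncard + 1 = Nat.card H → Kind A H := by
    intro x y a b hx hxH hy hyH hca hna ha hlea hcb hb hleb hea heb hs
    generalize hh : Nat.card H = h at hlea hleb hea heb hs
    have E : a * b * h + 2 * a * b = 2 * b * h + a * h := by
      zify at hea heb hs ⊢
      linear_combination -2 * (b : ℤ) * hea - (a : ℤ) * heb + 2 * (a : ℤ) * b * hs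
    rcases two_num ha hb E with ⟨rfl, h1⟩ | ⟨rfl, rfl, rfl⟩
    · exact .dihedral y hy hyH (dihedral_of_half hy hyH (by rw [hh, hcb, h1]))
    · exact .a4 (a4_of_data hx hxH hh hca hna)
  rcases hf with rfl | rfl <;> rcases hg with rfl | rfl
  · exfalso; omega
  · exact key x y a b hx hxH hy hyH hca (by omega) ha (by omega) hcb hb hleb (by linarith) heb hs
  · exact key y x b a hy hyH hx hxH hcb (by omega) hb (by omega) hca ha hlea (by linarith) hea (by omega)
  · exfalso
    have := hba2 rfl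
    have := hbb2 rfl
    omega

theorem two_three_three {y z : X} (hy : SS p y) (hyH : y ∈ H) (hz : SS p z) (hzH : z ∈ H)
    (hzy : z ∉ cls A H y) (hh : Nat.card H = 12) (hcy : Nat.card (tor A H y) = 3)
    (hcz : Nat.card (tor A H z) = 3) : False := by
  have h3 := Fact.mk Nat.prime_three
  have hsyl : ∀ x : X, Nat.card (tor A H x) = 3 →
      Nat.card ((tor A H x).subgroupOf H) = 3 ^ (Nat.card H).factorization 3 := by
    intro x hx
    rw [Nat.card_congr (Subgroup.subgroupOfEquivOfLe (show tor A H x ≤ H from inf_le_left)).toEquiv,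
      hx, hh, Nat.factorization_def _ Nat.prime_three]
    rw [show (12 : ℕ) = 3 ^ 1 * 4 by norm_num, padicValNat.mul (by norm_num) (by norm_num),
      padicValNat.prime_pow, padicValNat.eq_zero_of_not_dvd (by norm_num : ¬ 3 ∣ 4)]
    norm_num
  set Sy := Sylow.ofCard _ (hsyl y hcy) with hSy
  set Sz := Sylow.ofCard _ (hsyl z hcz) with hSz
  obtain ⟨g, hg⟩ := MulAction.exists_smul_eq H Sy Sz
  refine hzy ⟨hzH, hz, g, g.2, ?_⟩
  have hzm : (⟨z, hzH⟩ : H) ∈ g • Sy := by
    rw [hg]
    exact Subgroup.mem_subgroupOf.mpr (self_mem_tor hz hzH)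
  change (⟨z, hzH⟩ : H) ∈ (g • Sy : Sylow 3 H).toSubgroup at hzm
  rw [Sylow.coe_subgroup_smul, Subgroup.mem_pointwise_smul_iff_inv_smul_mem] at hzm
  have := (Subgroup.mem_subgroupOf.mp hzm).2
  simpa [MulAut.smul_def, mul_assoc] using this


theorem kind_three {x y z : X} (hx : SS p x) (hxH : x ∈ H) (hy : SS p y) (hyH : y ∈ H)
    (hz : SS p z) (hzH : z ∈ H) (hyx : y ∉ cls A H x) (hzx : z ∉ cls A H x) (hzy : z ∉ cls A H y)
    (hs : (cls A H x).ncard + (cls A H y).ncard + (cls A H z).ncard + 1 = Nat.card H) :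
    Kind A H := by
  obtain ⟨a, f, hca, hna, ha, hf, hlea, hea, hba, -, -⟩ := class_data A hx hxH
  obtain ⟨b, g, hcb, hnb, hb, hg, hleb, heb, hbb, -, -⟩ := class_data A hy hyH
  obtain ⟨c, k, hcc, hnc, hc, hk, hlec, hec, hbc, -, -⟩ := class_data A hz hzH
  obtain rfl : f = 2 := by rcases hf with rfl | rfl <;> rcases hg with rfl | rfl <;> rcases hk with rfl | rfl <;> omega
  obtain rfl : g = 2 := by rcases hg with rfl | rfl <;> rcases hk with rfl | rfl <;> omega
  obtain rfl : k = 2 := by rcases hk with rfl | rfl <;> omega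
  have key : ∀ (y z : X) (b c : ℕ), SS p y → y ∈ H → SS p z → z ∈ H → z ∉ cls A H y →
      Nat.card (tor A H y) = b → Nat.card (tor A H z) = c → Nat.card (nor A H z) = 2 * c →
      Nat.card (nor A H y) = 2 * b → 2 ≤ b → 2 ≤ c → 2 * b ≤ Nat.card H → 2 * c ≤ Nat.card H →
      Nat.card H * (2 * c + 2 * b) = b * c * (Nat.card H + 4) → b ≤ c → Kind A H := by
    intro y z b c hy hyH hz hzH hzy hcb hcc hnc hnb hb hc hleb hlec E hbc
    generalize hh : Nat.card H = h at hleb hlec E
    rcases three_num hb hbc E with ⟨rfl, h1⟩ | ⟨rfl, h1⟩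
    · exact .dihedral z hz hzH (dihedral_of_half hz hzH (by rw [hh, hcc, h1]))
    · rcases h1 with ⟨rfl, rfl⟩ | ⟨rfl, rfl⟩ | ⟨rfl, rfl⟩
      · exact (two_three_three A hy hyH hz hzH hzy hh hcb hcc).elim
      · exact .s4 (s4_of_data hy hyH hh hcb hnb)
      · exact .a5 (a5_of_data hz hzH hh hcc hnc)
  have sub : ∀ (y z : X) (b c : ℕ), SS p y → y ∈ H → SS p z → z ∈ H → z ∉ cls A H y →
      Nat.card (tor A H y) = b → Nat.card (tor A H z) = c → Nat.card (nor A H y) = 2 * b →
      Nat.card (nor A H z) = 2 * c → 2 ≤ b → 2 ≤ c → 2 * b ≤ Nat.card H → 2 * c ≤ Nat.card H →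
      Nat.card H * (2 * c + 2 * b) = b * c * (Nat.card H + 4) → Kind A H := by
    intro y z b c hy hyH hz hzH hzy hcb hcc hnb hnc hb hc hleb hlec E
    rcases le_total b c with h | h
    · exact key y z b c hy hyH hz hzH hzy hcb hcc hnc hnb hb hc hleb hlec E h
    · exact key z y c b hz hzH hy hyH (fun h' => hzy (by
        rw [cls_eq hz h']; exact self_mem_cls hz hzH))
        hcc hcb hnb hnc hc hb hlec hleb (by linarith) h
  generalize hh : Nat.card H = h at hlea hleb hlec hea heb hec hs hba hbb hbc sub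
  have E : h * (b * c + a * c + a * b) = a * b * c * (h + 2) := by
    zify at hea heb hec hs ⊢
    have : (2 * ((b : ℤ) * c + a * c + a * b) * h - 2 * (a * b * c * (h + 2))) = 0 := by
      linear_combination 2 * (b : ℤ) * c * hea + 2 * (a : ℤ) * c * heb + 2 * (a : ℤ) * b * hec
        - 4 * (a : ℤ) * b * c * hs
    linarith
  rcases (show a = 2 ∨ b = 2 ∨ c = 2 ∨ (3 ≤ a ∧ 3 ≤ b ∧ 3 ≤ c) by omega) with rfl | rfl | rfl | ⟨a3, b3, c3⟩
  · exact sub y z b c hy hyH hz hzH hzy hcb hcc hnb hnc hb hc hleb hlec (by linarith)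
  · exact sub x z a c hx hxH hz hzH hzx hca hcc hna hnc ha hc hlea hlec (by linarith)
  · exact sub x y a b hx hxH hy hyH hyx hca hcb hna hnb ha hb hlea hleb (by linarith)
  · exact absurd E (three_num' a3 b3 c3)

/-- The shapes of a subgroup without elements of order `p`. -/
theorem kind_semisimple (hp : ∀ u ∈ H, orderOf u ≠ p) : Kind A H := by
  have hu : (uset p H).ncard = 0 := by
    rw [Set.ncard_eq_zero]
    exact Set.eq_empty_of_forall_notMem fun u hu => hp u hu.1 hu.2
  have hs := card_split A H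
  rw [hu, ← rest_nil A] at hs
  rcases rest_step A (H := H) [] (by simp) with h0 | ⟨x, hx, hxH, -, h1⟩
  · exact .triv (Subgroup.card_eq_one.mp (by omega))
  rcases rest_step A (H := H) [x] (by simp [hx]) with h0 | ⟨y, hy, hyH, hym, h2⟩
  · exact kind_one A hx hxH (by omega)
  rcases rest_step A (H := H) [y, x] (by simp [hx, hy]) with h0 | ⟨z, hz, hzH, hzm, h3⟩
  · exact kind_two A hx hxH hy hyH (by omega)
  rcases rest_step A (H := H) [z, y, x] (by simp [hx, hy, hz]) with h0 | ⟨w, hw, hwH, -, h4⟩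
  · exact kind_three A hx hxH hy hyH hz hzH (hym.2.2 x (by simp)) (hzm.2.2 x (by simp))
      (hzm.2.2 y (by simp)) (by omega)
  exfalso
  obtain ⟨-, f1, -, -, -, hf1, -, -, hb1, -, -⟩ := class_data A hx hxH
  obtain ⟨-, f2, -, -, -, hf2, -, -, hb2, -, -⟩ := class_data A hy hyH
  obtain ⟨-, f3, -, -, -, hf3, -, -, hb3, -, -⟩ := class_data A hz hzH
  obtain ⟨-, f4, -, -, -, hf4, -, -, hb4, -, -⟩ := class_data A hw hwH
  rcases hf1 with rfl | rfl <;> rcases hf2 with rfl | rfl <;> rcases hf3 with rfl | rfl <;>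
    rcases hf4 with rfl | rfl <;> omega

theorem le_bor_of_mem {u x : X} (hu : orderOf u = p) (hx : SS p x) (hxB : x ∈ bor u) :
    A.T x ≤ bor u := fun y hy =>
  (mem_bor A hu).mpr (A.borel u x y hu hx ((mem_bor A hu).mp hxB) hy)

theorem not_dvd_tor {x : X} (hx : SS p x) : ¬ p ∣ Nat.card (tor A H x) := fun h => by
  obtain ⟨⟨y, hy⟩, hyo⟩ := exists_prime_orderOf_dvd_card' (G := tor A H x) p h
  rw [Subgroup.orderOf_mk] at hyo
  by_cases hy1 : y = 1
  · rw [hy1, orderOf_one] at hyo
    exact (Fact.out : p.Prime).ne_one hyo.symm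
  · exact (A.T_eq x y hx hy.2 hy1).1.2 (dvd_of_eq hyo.symm)

/-- A complement to the elements of order `p` in a Borel subgroup of `H`. -/
theorem borel_compl {u : X} (huH : u ∈ H) (hu : orderOf u = p) :
    ∃ (K : Subgroup X) (D : ℕ), Nat.card K = D ∧
      Nat.card (H ⊓ bor u : Subgroup X) = Nat.card (H ⊓ cent u : Subgroup X) * D ∧
      D ∣ Nat.card (H ⊓ cent u : Subgroup X) - 1 ∧ (2 ≤ D → ∃ x, SS p x ∧ x ∈ H ∧
        Nat.card (tor A H x) = D) := by
  classical
  have hpr : p.Prime := Fact.out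
  obtain ⟨n, Q, hQ, hQ2, hn1, -, hh, -, -, ⟨m, hm⟩, hndvd⟩ := sylow_data A huH hu
  set N := (H ⊓ cent u).subgroupOf (H ⊓ bor u) with hN
  have hle : H ⊓ cent u ≤ H ⊓ bor u := inf_le_inf_left H (cent_le_bor A u)
  have hNn : N.Normal := ⟨fun y hy g => by
    refine Subgroup.mem_subgroupOf.mpr ⟨(g * y * g⁻¹).2.1, ?_⟩
    exact (Subgroup.mem_normalizer_iff.mp g.2.2 _).mp (Subgroup.mem_subgroupOf.mp hy).2⟩
  have hNc : Nat.card N = Q := by
    rw [hN, Nat.card_congr (Subgroup.subgroupOfEquivOfLe hle).toEquiv, hQ]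
  have hidx : ¬ p ∣ N.index := fun hd => hndvd (by
    have h1 := ((H ⊓ cent u).subgroupOf H).card_mul_index
    rw [Nat.card_congr (Subgroup.subgroupOfEquivOfLe (show H ⊓ cent u ≤ H from inf_le_left)).toEquiv,
      hQ, hh, ← N.card_mul_index, hNc] at h1
    have h2 : ((H ⊓ cent u).subgroupOf H).index = n * N.index :=
      Nat.eq_of_mul_eq_mul_left (show 0 < Q by omega) (by linarith)
    exact h2 ▸ dvd_mul_of_dvd_right hd n)
  have hco : Nat.Coprime (Nat.card N) N.index := by
    rw [hNc, hm]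
    exact Nat.Coprime.pow_left _ (hpr.coprime_iff_not_dvd.mpr hidx)
  obtain ⟨K0, hK0⟩ := Subgroup.exists_right_complement'_of_coprime hco
  set K := K0.map (H ⊓ bor u).subtype with hK
  have hKc : Nat.card K = N.index := by
    rw [hK, Subgroup.card_map_of_injective (H ⊓ bor u).subtype_injective, (show Subgroup.IsComplement' K0 N from Subgroup.IsComplement'.symm hK0).index_eq_card]
  have hKle : K ≤ H ⊓ bor u := Subgroup.map_subtype_le K0
  have hSS : ∀ k ∈ K, k ≠ 1 → SS p k := fun k hk h1 => (A.order_cases k h1).resolve_right fun e =>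
    hidx (hKc ▸ e ▸ K.orderOf_dvd_natCard hk)
  refine ⟨K, N.index, hKc, by rw [← N.card_mul_index, hNc, hQ], ?_, fun hD => ?_⟩
  · have hcard : Nat.card {v : (H ⊓ cent u : Subgroup X) // v ≠ 1} = Q - 1 := by
      have := Fintype.ofFinite (H ⊓ cent u : Subgroup X)
      rw [← hQ, Nat.card_eq_fintype_card, Nat.card_eq_fintype_card, Fintype.card_subtype_compl,
        Fintype.card_subtype_eq]
    rw [← hKc, hQ, ← hcard]
    have hin : ∀ (k : K) (v : (H ⊓ cent u : Subgroup X)),
        (k : X) * v * (k : X)⁻¹ ∈ H ⊓ cent u := fun k v =>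
      ⟨H.mul_mem (H.mul_mem (hKle k.2).1 v.2.1) (H.inv_mem (hKle k.2).1),
        (Subgroup.mem_normalizer_iff.mp (hKle k.2).2 _).mp v.2.2⟩
    refine dvd_of_free (fun k v => ⟨⟨_, hin k v.1⟩, fun e => v.2 (Subtype.ext ?_)⟩) ?_ ?_ ?_
    · have e' : (k : X) * (v.1 : X) * (k : X)⁻¹ = 1 := congrArg Subtype.val e
      rw [mul_inv_eq_one, mul_eq_left] at e'
      exact e'
    · intro v
      exact Subtype.ext (Subtype.ext (by simp))
    · intro g g' v
      exact Subtype.ext (Subtype.ext (by simp [mul_assoc]))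
    · intro k v e
      have e' : (k : X) * (v.1 : X) * (k : X)⁻¹ = (v.1 : X) :=
        congrArg (fun w : {v : (H ⊓ cent u : Subgroup X) // v ≠ 1} => ((w.1 : _) : X)) e
      by_contra hk
      have hk' : (k : X) ≠ 1 := fun e1 => hk (Subtype.ext e1)
      have hv : orderOf (v.1 : X) = p :=
        orderOf_of_cent A hu v.1.2.2 fun e1 => v.2 (Subtype.ext e1)
      exact not_commute_of_SS A hv (hSS _ k.2 hk') (mul_inv_eq_iff_eq_mul.mp e')
  · obtain ⟨x, hxK, hx1⟩ : ∃ x ∈ K, x ≠ 1 := by
      by_contra hcon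
      push Not at hcon
      have : K = ⊥ := (Subgroup.eq_bot_iff_forall K).mpr hcon
      rw [this, Subgroup.card_bot] at hKc
      omega
    have hx := hSS x hxK hx1
    have hxH : x ∈ H := (hKle hxK).1
    have hKt : K ≤ tor A H x := by
      intro y hy
      by_cases hy1 : y = 1
      · exact hy1 ▸ one_mem _
      refine ⟨(hKle hy).1, A.borel_torus u x y hu hx (hSS y hy hy1)
        ((mem_bor A hu).mp (hKle hxK).2) ((mem_bor A hu).mp (hKle hy).2) ?_⟩
      have hcm : y * x * y⁻¹ * x⁻¹ = 1 := by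
        by_contra hne
        exact not_commute_of_SS A hu
          (hSS _ (K.mul_mem (K.mul_mem (K.mul_mem hy hxK) (K.inv_mem hy)) (K.inv_mem hxK)) hne)
          (A.borel_comm u y x hu ((mem_bor A hu).mp (hKle hy).2) ((mem_bor A hu).mp (hKle hxK).2))
      rw [mul_inv_eq_one, mul_inv_eq_iff_eq_mul] at hcm
      exact hcm
    have hle' : tor A H x ≤ H ⊓ bor u :=
      le_inf inf_le_left (inf_le_right.trans (le_bor_of_mem A hu hx (hKle hxK).2))
    refine ⟨x, hx, hxH, Nat.dvd_antisymm ?_ (hKc ▸ Subgroup.card_dvd_of_le hKt)⟩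
    have h1 : Nat.card (tor A H x) ∣ Q * N.index := by
      rw [← hNc, N.card_mul_index]
      exact Subgroup.card_dvd_of_le hle'
    refine Nat.Coprime.dvd_of_dvd_mul_left ?_ h1
    rw [hm]
    exact (Nat.Coprime.pow_left _ (hpr.coprime_iff_not_dvd.mpr (not_dvd_tor A hx))).symm

/-- The shapes of a subgroup with an element of order `p`. -/
theorem kind_unipotent {u : X} (huH : u ∈ H) (hu : orderOf u = p) : Kind A H := by
  classical
  obtain ⟨n, Q, hQ, hQ2, hn1, ⟨k, hnk⟩, hh, hU, hSn, ⟨m, hm⟩, -⟩ := sylow_data A huH hu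
  obtain ⟨K, D, hKD, hB, hDQ, hx⟩ := borel_compl A huH hu
  rw [hQ] at hB hDQ
  rw [hB] at hh
  rcases (show n = 1 ∨ 2 ≤ n by omega) with rfl | hn2
  · refine .borel u huH hu ?_
    have : H ⊓ bor u = H := Subgroup.eq_of_le_of_card_ge inf_le_left (by rw [hh, hB, one_mul])
    exact inf_eq_left.mp this
  have hk1 : 1 ≤ k := by
    rcases Nat.eq_zero_or_pos k with rfl | h
    · omega
    · exact h
  have hv : ∃ v ∈ H, orderOf v = p ∧ ¬ Commute v u := by
    by_contra hcon
    push Not at hcon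
    have hs : uset p H ⊆ ((H ⊓ cent u : Subgroup X) : Set X) \ {1} := fun v hv =>
      ⟨⟨hv.1, mem_cent.mpr (hcon v hv.1 hv.2)⟩, fun e => by
        have h := hv.2
        rw [Set.mem_singleton_iff.mp e, orderOf_one] at h
        exact (Fact.out : p.Prime).ne_one h.symm⟩
    have := Set.ncard_le_ncard hs
    rw [hU, Set.ncard_diff_singleton_of_mem (one_mem _), ← Nat.card_coe_set_eq] at this
    change _ ≤ Nat.card (H ⊓ cent u : Subgroup X) - 1 at this
    rw [hQ] at this
    have : 2 * (Q - 1) ≤ n * (Q - 1) := Nat.mul_le_mul_right _ hn2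
    omega
  have hs := card_split A H
  rw [hU, ← rest_nil A] at hs
  have hD1 : 1 ≤ D := by rw [← hKD]; exact Nat.card_pos
  have hDle : D ≤ Q - 1 := Nat.le_of_dvd (by omega) hDQ
  have hN : n * (Q - 1) + n = n * Q := by
    obtain ⟨Q', rfl⟩ : ∃ Q', Q = Q' + 1 := ⟨Q - 1, by omega⟩
    rw [Nat.add_sub_cancel]; ring
  have h2n : n * 2 ≤ n * Q := Nat.mul_le_mul_left n hQ2
  rcases (show D = 1 ∨ 2 ≤ D by omega) with rfl | hD2
  · rw [mul_one] at hh hB
    rcases rest_step A (H := H) [] (by simp) with h0 | ⟨y, hy, hyH, -, h1⟩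
    · omega
    obtain ⟨c, f, hc, hnc, hc2, hf, -, he, hb, -, -⟩ := class_data A hy hyH
    rcases rest_step A (H := H) [y] (by simp [hy]) with h0 | ⟨z, hz, hzH, -, h2⟩
    · obtain rfl : f = 2 := hf.resolve_left (by rintro rfl; omega)
      have hQ3 : Q ≤ 3 := by
        by_contra hlt
        have := Nat.mul_le_mul_left n (show 4 ≤ Q by omega)
        omega
      have hY : (cls A H y).ncard + 1 = n := by omega
      generalize (cls A H y).ncard = Y at he hb hY h1
      subst hY
      rw [hh] at he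
      rcases (show Q = 2 ∨ Q = 3 by omega) with rfl | rfl
      · have hc1 : c = Y + 1 := by linarith
        exact .dihedral y hy hyH (dihedral_of_half hy hyH (by rw [hh, hc, hc1]; ring))
      · rcases (show c = 2 ∨ 3 ≤ c by omega) with rfl | hc3
        · have hY3 : Y = 3 := by linarith
          subst hY3
          refine .a4 (a4_of_three ((H ⊓ cent u).subgroupOf H) hh ?_ ?_)
          · rw [Nat.card_congr (Subgroup.subgroupOfEquivOfLe (show H ⊓ cent u ≤ H from inf_le_left)).toEquiv, hQ]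
          · intro hnorm
            obtain ⟨S, hS⟩ := exists_sylow A huH hu
            have hun := Sylow.unique_of_normal S (hS.symm ▸ hnorm)
            rw [Nat.card_unique] at hSn
            omega
        · exfalso
          have := Nat.mul_le_mul_left (Y + 1) hc3
          linarith
    · exfalso
      obtain ⟨-, g, -, -, -, hg, -, -, hbz, -, -⟩ := class_data A hz hzH
      rcases hf with rfl | rfl <;> rcases hg with rfl | rfl <;> omega
  obtain ⟨x, hxs, hxH, hxc⟩ := hx hD2
  obtain ⟨D', f, hc', hnx, -, hf, -, he, -, -, -⟩ := class_data A hxs hxH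
  obtain rfl : D = D' := hxc.symm.trans hc'
  have hQ3 : 3 ≤ Q := by omega
  have hM2 : n * Q * 2 ≤ n * Q * D := Nat.mul_le_mul_left _ hD2
  have hX : f * (cls A H x).ncard + n * Q = n * Q * D := by
    refine Nat.eq_of_mul_eq_mul_right (show 0 < D by omega) ?_
    rw [hh] at he
    linarith
  rw [← mul_assoc] at hh
  have hxrest : ∀ y, y ∈ H → SS p y → y ∈ cls A H x → y ∈ rest A H [] := fun y h1 h2 _ =>
    ⟨h1, h2, by simp⟩
  have hsplit : (rest A H []).ncard = (cls A H x).ncard + (rest A H [x]).ncard := by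
    rw [← Set.ncard_union_eq (s := cls A H x) (t := rest A H [x])
      (Set.disjoint_left.mpr fun z h h' => h'.2.2 x (by simp) h)]
    congr 1
    ext z
    constructor
    · intro h
      by_cases hz : z ∈ cls A H x
      · exact Or.inl hz
      · exact Or.inr ⟨h.1, h.2.1, by simpa using hz⟩
    · rintro (h | h)
      · exact hxrest z h.1 h.2.1 h
      · exact ⟨h.1, h.2.1, by simp⟩
  rcases rest_step A (H := H) [x] (by simp [hxs]) with h0 | ⟨y, hy, hyH, -, h1⟩
  · exfalso
    rcases hf with rfl | rfl <;> omega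
  obtain ⟨c, g, hc, hnc, hc2, hg, -, hey, hb, -, -⟩ := class_data A hy hyH
  have h6 : n * 6 ≤ n * Q * D := by
    rw [mul_assoc]; exact Nat.mul_le_mul_left n (Nat.mul_le_mul hQ3 hD2)
  obtain rfl : f = 2 := hf.resolve_left (by rintro rfl; rcases hg with rfl | rfl <;> omega)
  obtain rfl : g = 2 := hg.resolve_left (by rintro rfl; omega)
  rcases rest_step A (H := H) [y, x] (by simp [hxs, hy]) with h0 | ⟨z, hz, hzH, -, h2⟩
  · have hY : 2 * (cls A H y).ncard + n * Q + 2 = n * Q * D + 2 * n := by omega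
    have E0 : n * Q * D + 2 * c * n = c * (n * Q) + 2 * c := by
      rw [hh] at hey
      zify at hey hY ⊢
      linear_combination hey - (c : ℤ) * hY
    obtain ⟨q, rfl⟩ : ∃ q, Q = q + 2 := ⟨Q - 2, by omega⟩
    subst hnk
    have E : (k * (q + 2) + 1) * D = c * (k * q + 1) := by
      refine Nat.eq_of_mul_eq_mul_right (show 0 < q + 2 by omega) ?_
      linarith
    obtain ⟨v, hvH, hv, huv⟩ := hv
    have hall : ∀ z ∈ H, SS p z → Nat.card (tor A H z) = D ∨ Nat.card (tor A H z) = c := by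
      intro z hzH hzs
      by_cases h : z ∈ cls A H x
      · exact Or.inl ((tor_card_eq A hxs h).trans hxc)
      by_cases h' : z ∈ cls A H y
      · exact Or.inr ((tor_card_eq A hy h').trans hc)
      exfalso
      have hz : z ∈ rest A H [y, x] := ⟨hzH, hzs, by simp [h, h']⟩
      rw [(Set.ncard_eq_zero (Set.toFinite _)).mp h0] at hz
      exact hz
    rcases sylow_num (by omega) hk1 hD1 (by omega) E with ⟨rfl, h2D⟩ | ⟨rfl, rfl⟩ | ⟨rfl, rfl, rfl, rfl⟩
    · have h2c : 2 * c = q + 3 := by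
        refine Nat.eq_of_mul_eq_mul_right (show 0 < q + 1 by omega) ?_
        zify at E h2D ⊢
        linear_combination (-2 : ℤ) * E + ((q : ℤ) + 3) * h2D
      refine .field u v huH hu hvH hv huv _ hQ hQ3 (by rw [hh, hB]; ring) (Or.inl ?_)
        fun z hz hzs => by rcases hall z hz hzs with h | h <;> omega
      rw [hB, show q + 2 - 1 = q + 1 by omega, ← h2D]; ring
    · have h2c : c = q + 3 := by
        refine Nat.eq_of_mul_eq_mul_right (show 0 < q + 1 by omega) ?_
        linarith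
      refine .field u v huH hu hvH hv huv _ hQ hQ3 (by rw [hh, hB]; ring) (Or.inr ?_)
        fun z hz hzs => by rcases hall z hz hzs with h | h <;> omega
      rw [hB, show q + 2 - 1 = q + 1 by omega]
    · exact .a5 (a5_of_data hy hyH (by norm_num [hh]) hc (by norm_num [hnc]))
  · exfalso
    obtain ⟨-, g, -, -, -, hg, -, -, hbz, -, -⟩ := class_data A hz hzH
    rcases hg with rfl | rfl <;> omega

/-- Dickson's case division. -/
theorem kind (H : Subgroup X) : Kind A H := by
  by_cases h : ∃ u ∈ H, orderOf u = p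
  · obtain ⟨u, huH, hu⟩ := h
    exact kind_unipotent A huH hu
  · push Not at h
    exact kind_semisimple A h

end CfsgLib.DicksonFull
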