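import Mathlib
import Cfsg.Agent.Lib.DicksonFull.Abstract
import Cfsg.Agent.Lib.Dickson.Basic
import Cfsg.Agent.Lib.PSL2.Aut
import Cfsg.Agent.Lib.SL2Orders

/-!
`PSL₂(q)` is partitioned by its tori and the centralisers of its elements of order `p`.
-/

set_option autoImplicit false

namespace CfsgLib.DicksonFull

open Matrix
open CfsgLib.PSL2 (mk mk_eq_mk)

variable {F : Type*} [Field F]

local notation "M2" => Matrix (Fin 2) (Fin 2) F
local notation "SL" => Matrix.SpecialLinearGroup (Fin 2) F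
local notation "PSL" => Matrix.ProjectiveSpecialLinearGroup (Fin 2) F

/-- The image in `PSL₂` of a centraliser in `SL₂`. -/
def cT (g : SL) : Subgroup PSL := (Subgroup.centralizer ({g} : Set SL)).map mk

theorem mk_surj : Function.Surjective (mk : SL → PSL) := QuotientGroup.mk'_surjective _

theorem mk_neg (g : SL) : mk (-g) = mk g :=
  mk_eq_mk.mpr (Or.inr (by simp))

theorem eq_or_neg {a b : SL} (h : mk a = mk b) : b = a ∨ b = -a := by
  rcases mk_eq_mk.mp h with e | e
  · exact Or.inl (Subtype.ext e)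
  · exact Or.inr (Subtype.ext (by simpa using e))

theorem mk_eq_one {a : SL} (h : mk a = 1) : a = 1 ∨ a = -1 :=
  eq_or_neg (show mk 1 = mk a by rw [h, map_one])

theorem trace_sq_eq {a b : SL} (h : mk a = mk b) : a.1.trace ^ 2 = b.1.trace ^ 2 := by
  rcases eq_or_neg h with rfl | rfl
  · rfl
  · rw [Dickson.neg_one_trace, neg_sq]

theorem cT_congr {a b : SL} (h : mk a = mk b) : cT a = cT b := by
  rcases eq_or_neg h with rfl | rfl
  · rfl
  · rw [cT, cT]
    congr 1
    ext x
    simp [Subgroup.mem_centralizer_singleton_iff]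

theorem mem_cT {g h : SL} : mk h ∈ cT g ↔ h * g = g * h := by
  rw [cT, Subgroup.mem_map]
  constructor
  · rintro ⟨k, hk, e⟩
    rw [Subgroup.mem_centralizer_singleton_iff] at hk
    rcases eq_or_neg e with rfl | rfl
    · exact hk
    · simp [hk]
  · exact fun hh => ⟨h, Subgroup.mem_centralizer_singleton_iff.mpr hh, rfl⟩

theorem not_scalar_of_ne_one {g : SL} (hg : mk g ≠ 1) (a : F) : g.1 ≠ a • (1 : M2) := by
  intro e
  have hd := g.2
  rw [e] at hd
  simp [Matrix.det_smul] at hd
  rcases hd with rfl | rfl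
  · exact hg (by rw [show g = 1 from Subtype.ext (by simpa using e), map_one])
  · exact hg (by rw [show g = -1 from Subtype.ext (by simpa using e), mk_neg, map_one])

theorem trace_sq_of_lin {g h : SL} {s t : F} (he : h.1 = s • (1 : M2) + t • g.1) :
    h.1.trace ^ 2 - 4 = t ^ 2 * (g.1.trace ^ 2 - 4) := by
  have hdet : s * s + g.1.trace * s * t + t * t = 1 := by
    rw [← SL2Centralizer.det_lin g s t, ← he]; exact h.2
  rw [he, Dickson.trace_lin]
  linear_combination 4 * hdet

/-- Conjugate elements of a torus are equal or inverse. -/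
theorem eq_or_eq_inv' {g h : SL} (hg : g.1.trace ^ 2 ≠ 4) (hh : h.1.trace = g.1.trace)
    (hc : h * g = g * h) : h = g ∨ h = g⁻¹ := by
  by_cases h2 : (2 : F) = 0
  swap
  · exact Dickson.eq_or_eq_inv h2 hg hh hc
  have hdbl : ∀ x : F, -x = x := fun x => by linear_combination (-x) * h2
  obtain ⟨s, t, he⟩ := Dickson.exists_of_commute hg hc
  have hdet : s * s + g.1.trace * s * t + t * t = 1 := by
    rw [← SL2Centralizer.det_lin g s t, ← he]; exact h.2
  have hq := trace_sq_of_lin he
  rw [hh] at hq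
  have ht : t = 1 := by
    have h1 : (g.1.trace ^ 2 - 4) * ((t - 1) * (t - 1)) = 0 := by
      linear_combination -hq - (g.1.trace ^ 2 - 4) * (t - 1) * h2
    rcases mul_eq_zero.mp h1 with e | e
    · exact absurd (sub_eq_zero.mp e) hg
    · exact sub_eq_zero.mp (mul_self_eq_zero.mp e)
  subst ht
  have hs : s * (s + g.1.trace) = 0 := by linear_combination hdet
  rcases mul_eq_zero.mp hs with e | e
  · left
    apply Subtype.ext
    rw [he, e]
    simp
  · right
    have hs' : s = g.1.trace := by linear_combination e - g.1.trace * h2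
    obtain ⟨i00, i01, i10, i11⟩ := Dickson.inv_entries g
    have htr := Matrix.trace_fin_two g.1
    apply Dickson.ext_entries
    · rw [i00, he]; simp; linear_combination hs' + htr + g.1 0 0 * h2
    · rw [i01, he]; simp; exact (hdbl _).symm
    · rw [i10, he]; simp; exact (hdbl _).symm
    · rw [i11, he]; simp; linear_combination hs' + htr + g.1 1 1 * h2

section

variable [Fintype F] (p : ℕ) [Fact p.Prime] [CharP F p]

theorem pow_eq_one_of_trace_sq {g : SL} (h : g.1.trace ^ 2 = 4) : mk g ^ p = 1 := by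
  rcases Dickson.trace_sq_eq_four h with e | e
  · rw [← map_pow, Dickson.pow_prime_of_trace p e, map_one]
  · rw [← mk_neg g, ← map_pow,
      Dickson.pow_prime_of_trace p (by rw [Dickson.neg_one_trace, e, neg_neg]), map_one]

theorem ss_iff {g : SL} : SS p (mk g) ↔ g.1.trace ^ 2 ≠ 4 := by
  have hp : p.Prime := Fact.out
  constructor
  · rintro ⟨h1, h2⟩ e
    rcases (Nat.dvd_prime hp).mp (orderOf_dvd_of_pow_eq_one (pow_eq_one_of_trace_sq p e)) with h | h
    · exact h1 (orderOf_eq_one_iff.mp h)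
    · exact h2 (dvd_of_eq h.symm)
  · intro hg
    refine ⟨fun e => hg ?_, fun hd => hg ?_⟩
    · rcases mk_eq_one e with rfl | rfl <;>
        simp [Matrix.trace_fin_two] <;> ring
    obtain ⟨k, hk⟩ := hd
    set h : SL := g ^ k with hh
    have hk0 : 0 < orderOf (mk g) := orderOf_pos _
    have hkpos : 0 < k := by
      rcases Nat.eq_zero_or_pos k with rfl | h0
      · rw [mul_zero] at hk; omega
      · exact h0
    have hne : mk h ≠ 1 := by
      rw [hh, map_pow]
      exact pow_ne_one_of_lt_orderOf (by omega) (by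
        rw [hk]; exact lt_mul_of_one_lt_left hkpos hp.one_lt)
    have hp1 : mk h ^ p = 1 := by
      rw [hh, map_pow, ← pow_mul, mul_comm, ← hk, pow_orderOf_eq_one]
    obtain ⟨s, t, he⟩ := Dickson.exists_of_commute hg
      ((Commute.refl g).pow_left k).eq
    have hq := trace_sq_of_lin he
    have ht : t = 0 := by
      by_contra ht
      have hh4 : h.1.trace ^ 2 ≠ 4 := fun e => hg (by
        rw [e, sub_self, eq_comm, mul_eq_zero] at hq
        exact sub_eq_zero.mp (hq.resolve_left (pow_ne_zero 2 ht)))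
      -- an element of order `p` has trace `±2`
      have hpow : mk h ^ p ^ 1 = 1 := by rw [pow_one]; exact hp1
      rcases mk_eq_one (a := h ^ p ^ 1) (by rw [map_pow]; exact hpow) with e | e
      · exact hh4 (by rw [Dickson.trace_of_pow p e]; norm_num)
      · have e' : (-h) ^ p ^ 1 = 1 := by
          rcases hp.eq_two_or_odd' with rfl | hodd
          · have h1 : (-1 : SL) = 1 := Subtype.ext (by
              simp [CharTwo.neg_eq])
            rw [← neg_one_mul h, h1, one_mul, e, h1]
          · rw [(hodd.pow).neg_pow, e, neg_neg]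
        have := Dickson.trace_of_pow p e'
        rw [Dickson.neg_one_trace] at this
        exact hh4 (by rw [← neg_sq, this]; norm_num)
    subst ht
    exfalso
    refine not_scalar_of_ne_one hne s ?_
    rw [he]
    simp

theorem orderOf_eq_iff_trace {g : SL} (hg : mk g ≠ 1) : orderOf (mk g) = p ↔ g.1.trace ^ 2 = 4 := by
  constructor
  · intro h
    by_contra hne
    exact ((ss_iff p).mpr hne).2 (dvd_of_eq h.symm)
  · intro h
    exact orderOf_eq_prime (pow_eq_one_of_trace_sq p h) hg

/-- An element of order `p` has a lift `1 + N` with `N ≠ 0`, `N² = 0`. -/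
theorem exists_lift {u : PSL} (hu : orderOf u = p) :
    ∃ c : SL, mk c = u ∧ c.1.trace = 2 ∧ (c.1 - 1) * (c.1 - 1) = 0 ∧
      ∀ a : F, c.1 - 1 ≠ a • (1 : M2) := by
  obtain ⟨c, rfl⟩ := mk_surj u
  have hne : mk c ≠ 1 := fun e => by
    rw [e, orderOf_one] at hu
    exact (Fact.out : p.Prime).ne_one hu.symm
  have key : ∀ c : SL, mk c ≠ 1 → c.1.trace = 2 →
      (c.1 - 1) * (c.1 - 1) = 0 ∧ ∀ a : F, c.1 - 1 ≠ a • (1 : M2) := fun c hne h =>
    ⟨Dickson.sub_one_sq h, fun a e => not_scalar_of_ne_one hne (a + 1) (by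
      rw [add_smul, one_smul, ← e, sub_add_cancel])⟩
  rcases Dickson.trace_sq_eq_four ((orderOf_eq_iff_trace p hne).mp hu) with e | e
  · exact ⟨c, rfl, e, key c hne e⟩
  · exact ⟨-c, mk_neg c, by rw [Dickson.neg_one_trace, e, neg_neg],
      key (-c) (by rwa [mk_neg]) (by rw [Dickson.neg_one_trace, e, neg_neg])⟩

end

/-- A matrix annihilating a non-zero square-zero matrix on both sides is a multiple of it. -/
theorem eq_smul_of_mul_eq_zero {N Q : M2} (hN : ∀ a : F, N ≠ a • (1 : M2)) (hN2 : N * N = 0)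
    (h1 : Q * N = 0) (h2 : N * Q = 0) : ∃ b : F, Q = b • N := by
  obtain ⟨a, b, he⟩ := SL2Centralizer.exists_of_commute hN (show Commute Q N from h1.trans h2.symm)
  refine ⟨b, ?_⟩
  rw [he, Matrix.add_mul, Matrix.smul_mul, Matrix.smul_mul, hN2, smul_zero, add_zero, one_mul] at h1
  rcases smul_eq_zero.mp h1 with rfl | h
  · simpa using he
  · exact absurd h (by simpa using hN 0)

theorem inv_coe (d : SL) : (d⁻¹).1 = d.1.trace • (1 : M2) - d.1 := by
  obtain ⟨i00, i01, i10, i11⟩ := Dickson.inv_entries d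
  ext i j
  fin_cases i <;> fin_cases j <;> simp [i00, i01, i10, i11, Matrix.trace_fin_two]

theorem coe_conj (d c : SL) : (d * c * d⁻¹).1 - 1 = d.1 * (c.1 - 1) * (d⁻¹).1 := by
  rw [Matrix.SpecialLinearGroup.coe_mul, Matrix.SpecialLinearGroup.coe_mul, Matrix.mul_sub,
    Matrix.sub_mul, mul_one, ← Matrix.SpecialLinearGroup.coe_mul d d⁻¹, mul_inv_cancel,
    Matrix.SpecialLinearGroup.coe_one]

theorem mul_inv_coe (d : SL) : d.1 * (d⁻¹).1 = 1 ∧ (d⁻¹).1 * d.1 = 1 :=
  ⟨by rw [← Matrix.SpecialLinearGroup.coe_mul, mul_inv_cancel, Matrix.SpecialLinearGroup.coe_one],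
   by rw [← Matrix.SpecialLinearGroup.coe_mul, inv_mul_cancel, Matrix.SpecialLinearGroup.coe_one]⟩

/-- Commuting with the image of a unipotent element lifts. -/
theorem commute_lift {c d : SL} (hc : c.1.trace = 2) (h : Commute (mk d) (mk c)) :
    d * c = c * d := by
  have e : mk c = mk (d * c * d⁻¹) := by
    rw [map_mul, map_mul, map_inv, h.eq, mul_inv_cancel_right]
  rcases eq_or_neg e with e' | e'
  · exact mul_inv_eq_iff_eq_mul.mp e'
  · have ht : (d * c * d⁻¹).1.trace = (-c).1.trace := by rw [e']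
    rw [Dickson.trace_conj, Dickson.neg_one_trace, hc] at ht
    have hneg : -c = c := Subtype.ext (by
      rw [Matrix.SpecialLinearGroup.coe_neg]
      ext i j
      rw [Matrix.neg_apply]
      have h4 : (4 : F) = 0 := by linear_combination ht
      have h2 : (2 : F) = 0 := mul_self_eq_zero.mp (by linear_combination h4)
      linear_combination (-(c.1 i j)) * h2)
    rw [hneg] at e'
    exact mul_inv_eq_iff_eq_mul.mp e'

theorem borel_iff {c d : SL} (hc : c.1.trace = 2) (hN : ∀ a : F, c.1 - 1 ≠ a • (1 : M2)) :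
    Commute (mk d * mk c * (mk d)⁻¹) (mk c) ↔ (c.1 - 1) * d.1 * (c.1 - 1) = 0 := by
  have hN2 : (c.1 - 1) * (c.1 - 1) = 0 := Dickson.sub_one_sq hc
  obtain ⟨N, hN'⟩ : ∃ N, c.1 - 1 = N := ⟨_, rfl⟩
  rw [hN'] at hN hN2 ⊢
  have hinv : N * (d⁻¹).1 * N = -(N * d.1 * N) := by
    rw [inv_coe, Matrix.mul_sub, Matrix.sub_mul, Matrix.mul_smul, Matrix.smul_mul, mul_one, hN2,
      smul_zero, zero_sub]
  constructor
  · intro h
    rw [← map_inv, ← map_mul, ← map_mul] at h
    have h' := congrArg Subtype.val (commute_lift hc h)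
    simp only [Matrix.SpecialLinearGroup.coe_mul] at h'
    have hcm : Commute (d.1 * N * (d⁻¹).1) N := by
      rw [← hN', ← coe_conj]
      exact (Commute.sub_left (Commute.sub_right (by
        simp only [Matrix.SpecialLinearGroup.coe_mul]; exact h') (Commute.one_right _))
        (Commute.one_left _))
    obtain ⟨a, b, he⟩ := SL2Centralizer.exists_of_commute hN hcm
    have hQ2 : (d.1 * N * (d⁻¹).1) * (d.1 * N * (d⁻¹).1) = 0 := by
      calc _ = d.1 * (N * ((d⁻¹).1 * d.1) * N) * (d⁻¹).1 := by simp only [Matrix.mul_assoc]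
        _ = 0 := by rw [(mul_inv_coe d).2, mul_one, hN2, mul_zero, zero_mul]
    rw [he] at hQ2
    simp only [Matrix.add_mul, Matrix.mul_add, Matrix.smul_mul, Matrix.mul_smul, one_mul, mul_one,
      hN2, smul_zero, add_zero] at hQ2
    have ha : a = 0 := by
      have h2 := congrArg (· * N) hQ2
      simp only [Matrix.add_mul, Matrix.smul_mul, smul_smul, one_mul, hN2, smul_zero, add_zero,
        zero_mul] at h2
      rcases smul_eq_zero.mp h2 with e | e
      · exact mul_self_eq_zero.mp e
      · exact absurd e (by simpa using hN 0)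
    rw [ha, zero_smul, zero_add] at he
    have h3 : d.1 * N = b • (N * d.1) := by
      rw [← Matrix.smul_mul, ← he, Matrix.mul_assoc, (mul_inv_coe d).2, mul_one]
    rw [Matrix.mul_assoc, h3, Matrix.mul_smul, ← Matrix.mul_assoc, hN2, zero_mul, smul_zero]
  · intro h
    have h1 : d.1 * N * (d⁻¹).1 * N = 0 := by
      rw [Matrix.mul_assoc d.1, Matrix.mul_assoc d.1, hinv, h, neg_zero, mul_zero]
    have h2 : N * (d.1 * N * (d⁻¹).1) = 0 := by
      rw [← Matrix.mul_assoc, ← Matrix.mul_assoc, h, zero_mul]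
    rw [← map_inv, ← map_mul, ← map_mul]
    refine Commute.map (show d * c * d⁻¹ * c = c * (d * c * d⁻¹) from Subtype.ext ?_) mk
    have hQ : Commute ((d * c * d⁻¹).1 - 1) (c.1 - 1) := by rw [coe_conj, hN']; exact h1.trans h2.symm
    have := (hQ.add_left (Commute.one_left _)).add_right (Commute.one_right _)
    simpa using this.eq

theorem borel_scal {c d : SL} (hc : c.1.trace = 2) (hN : ∀ a : F, c.1 - 1 ≠ a • (1 : M2))
    (h : (c.1 - 1) * d.1 * (c.1 - 1) = 0) :
    (∃ l : F, l ≠ 0 ∧ d.1 * (c.1 - 1) = l • (c.1 - 1)) ∧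
      ∃ b : F, d.1 * (c.1 - 1) * (d⁻¹).1 = b • (c.1 - 1) := by
  have hN2 : (c.1 - 1) * (c.1 - 1) = 0 := Dickson.sub_one_sq hc
  obtain ⟨N, hN'⟩ : ∃ N, c.1 - 1 = N := ⟨_, rfl⟩
  rw [hN'] at hN hN2 h ⊢
  have hinv : N * (d⁻¹).1 * N = 0 := by
    rw [inv_coe, Matrix.mul_sub, Matrix.sub_mul, Matrix.mul_smul, Matrix.smul_mul, mul_one, hN2,
      smul_zero, zero_sub, h, neg_zero]
  refine ⟨?_, eq_smul_of_mul_eq_zero hN hN2 ?_ ?_⟩
  · obtain ⟨l, hl⟩ := eq_smul_of_mul_eq_zero hN hN2 (Q := d.1 * N)
      (by rw [Matrix.mul_assoc, hN2, mul_zero]) (by rw [← Matrix.mul_assoc, h])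
    refine ⟨l, ?_, hl⟩
    rintro rfl
    rw [zero_smul] at hl
    have := congrArg ((d⁻¹).1 * ·) hl
    simp only [mul_zero, ← Matrix.mul_assoc, (mul_inv_coe d).2, one_mul] at this
    exact absurd this (by simpa using hN 0)
  · rw [Matrix.mul_assoc d.1, Matrix.mul_assoc d.1, hinv, mul_zero]
  · rw [← Matrix.mul_assoc, ← Matrix.mul_assoc, h, zero_mul]

theorem isCyclic_cT [Fintype F] {g : SL} (hg : g.1.trace ^ 2 ≠ 4) : IsCyclic (cT g) := by
  classical
  let K := AlgebraicClosure F
  let ι : F →+* K := algebraMap F K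
  set τ := g.1.trace with hτ
  obtain ⟨r, hr⟩ := IsAlgClosed.exists_root
    (Polynomial.C (1 : K) * Polynomial.X ^ 2 + Polynomial.C (-ι τ) * Polynomial.X + Polynomial.C 1)
    (by rw [Polynomial.degree_quadratic one_ne_zero]; norm_num)
  have hr' : r * r - ι τ * r + 1 = 0 := by
    rw [Polynomial.IsRoot.def] at hr
    simp at hr
    linear_combination hr
  have hns := SL2Centralizer.not_scalar_of_trace hg
  have hco : ∀ x : Subgroup.centralizer ({g} : Set SL), ∃ st : F × F,
      x.1.1 = st.1 • (1 : M2) + st.2 • g.1 := fun x => by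
    obtain ⟨s, t, h⟩ := Dickson.exists_of_commute hg (Subgroup.mem_centralizer_singleton_iff.mp x.2)
    exact ⟨(s, t), h⟩
  choose co hcoe using hco
  have huniq : ∀ x (s t : F), x.1.1 = s • (1 : M2) + t • g.1 → co x = (s, t) := fun x s t h => by
    obtain ⟨h1, h2⟩ := SL2Centralizer.lin_injective hns ((hcoe x).symm.trans h)
    exact Prod.ext h1 h2
  let φ : Subgroup.centralizer ({g} : Set SL) →* K :=
    { toFun := fun x => ι (co x).1 + ι (co x).2 * r
      map_one' := by
        rw [huniq 1 1 0 (by simp)]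
        simp
      map_mul' := fun x y => by
        rw [huniq (x * y) ((co x).1 * (co y).1 - (co x).2 * (co y).2)
          ((co x).1 * (co y).2 + (co x).2 * (co y).1 + (co x).2 * (co y).2 * τ) ?_]
        · simp only [map_sub, map_mul, map_add]
          linear_combination (-(ι (co x).2 * ι (co y).2)) * hr'
        · rw [Subgroup.coe_mul, Matrix.SpecialLinearGroup.coe_mul, hcoe x, hcoe y]
          simp only [Matrix.add_mul, Matrix.mul_add, Matrix.smul_mul, Matrix.mul_smul, one_mul,
            mul_one, SL2Orders.sq_eq, ← hτ]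
          module }
  have hφ : Function.Injective φ := by
    rw [injective_iff_map_eq_one]
    intro x hx
    have hx' : ι (co x).1 + ι (co x).2 * r = 1 := hx
    have hdet : (co x).1 * (co x).1 + τ * (co x).1 * (co x).2 + (co x).2 * (co x).2 = 1 := by
      rw [hτ, ← SL2Centralizer.det_lin g, ← hcoe x]; exact x.1.2
    have hdet' := congrArg ι hdet
    simp only [map_add, map_mul, map_one] at hdet'
    have h1 : ι (co x).1 + ι (co x).2 * (ι τ - r) = 1 := by
      linear_combination hdet' - (ι (co x).1 + ι (co x).2 * (ι τ - r)) * hx' - (ι (co x).2) ^ 2 * hr'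
    have ht : (co x).2 = 0 := by
      have h2 : ι (co x).2 * (2 * r - ι τ) = 0 := by linear_combination hx' - h1
      rcases mul_eq_zero.mp h2 with e | e
      · exact ι.injective (by rw [e, map_zero])
      · exfalso
        apply hg
        apply ι.injective
        rw [map_pow, map_ofNat]
        linear_combination (-(4 : K)) * hr' + (2 * r - ι τ) * e
    have hs : (co x).1 = 1 := ι.injective (by
      rw [ht, map_zero, zero_mul, add_zero] at hx'; rw [hx', map_one])
    apply Subtype.ext
    apply Subtype.ext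
    rw [hcoe x, ht, hs]
    simp
  haveI := isCyclic_of_subgroup_isDomain φ hφ
  exact isCyclic_of_surjective _ (MonoidHom.subgroupMap_surjective mk _)

variable [Fintype F] (p : ℕ) [Fact p.Prime] [CharP F p]

/-- `PSL₂(q)` as an ambient group for Dickson's case division. -/
noncomputable def psl : Amb PSL p where
  T x := cT x.out
  order_cases x hx := by
    obtain ⟨g, rfl⟩ := mk_surj x
    by_cases h : g.1.trace ^ 2 = 4
    · exact Or.inr ((orderOf_eq_iff_trace p hx).mpr h)
    · exact Or.inl ((ss_iff p).mpr h)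
  mem_T x _ := by
    have e : mk x.out = x := QuotientGroup.out_eq' x
    have := (mem_cT (g := x.out) (h := x.out)).mpr rfl
    rwa [e] at this
  T_eq x y hx hy hy1 := by
    obtain ⟨g, rfl⟩ := mk_surj x
    obtain ⟨h, rfl⟩ := mk_surj y
    rw [cT_congr (show mk (mk g).out = mk g from QuotientGroup.out_eq' _)] at hy ⊢
    rw [cT_congr (show mk (mk h).out = mk h from QuotientGroup.out_eq' _)]
    rw [ss_iff] at hx
    rw [mem_cT] at hy
    obtain ⟨s, t, he⟩ := Dickson.exists_of_commute hx hy
    have ht : t ≠ 0 := fun e => not_scalar_of_ne_one hy1 s (by rw [he, e]; simp)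
    have hh : h.1.trace ^ 2 ≠ 4 := fun e => hx (by
      have hq := trace_sq_of_lin he
      rw [e, sub_self, eq_comm, mul_eq_zero] at hq
      exact sub_eq_zero.mp (hq.resolve_left (pow_ne_zero 2 ht)))
    refine ⟨(ss_iff p).mpr hh, Subgroup.ext fun z => ?_⟩
    obtain ⟨k, rfl⟩ := mk_surj z
    rw [mem_cT, mem_cT]
    exact ⟨fun hk => Dickson.commute_of_commute hh hk hy.symm,
      fun hk => Dickson.commute_of_commute hx hk hy⟩
  T_cyclic x hx := by
    obtain ⟨g, rfl⟩ := mk_surj x
    rw [cT_congr (show mk (mk g).out = mk g from QuotientGroup.out_eq' _)]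
    exact isCyclic_cT ((ss_iff p).mp hx)
  T_conj x a y _ := by
    obtain ⟨g, rfl⟩ := mk_surj x
    obtain ⟨b, rfl⟩ := mk_surj a
    obtain ⟨k, rfl⟩ := mk_surj y
    rw [cT_congr (show mk (mk g).out = mk g from QuotientGroup.out_eq' _),
      cT_congr (show mk (mk b * mk g * (mk b)⁻¹).out = mk (b * g * b⁻¹) by
        rw [map_mul, map_mul, map_inv]; exact QuotientGroup.out_eq' _),
      ← map_inv, ← map_mul, ← map_mul, mem_cT, mem_cT]
    constructor <;> intro h
    · calc b⁻¹ * k * b * g = b⁻¹ * (k * (b * g * b⁻¹)) * b := by group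
        _ = g * (b⁻¹ * k * b) := by rw [h]; group
    · calc k * (b * g * b⁻¹) = b * ((b⁻¹ * k * b) * g) * b⁻¹ := by group
        _ = b * g * b⁻¹ * k := by rw [h]; group
  T_norm x a hx h1 h2 := by
    obtain ⟨g, rfl⟩ := mk_surj x
    obtain ⟨b, rfl⟩ := mk_surj a
    simp only [cT_congr (show mk (mk g).out = mk g from QuotientGroup.out_eq' _)] at h1 h2 ⊢
    rw [ss_iff] at hx
    have key : ∀ b : SL, mk b * mk g * (mk b)⁻¹ ∈ cT g → mk b ∉ cT g → b * g * b⁻¹ = g⁻¹ := by
      intro b h1 h2
      rw [← map_inv, ← map_mul, ← map_mul, mem_cT] at h1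
      rw [mem_cT] at h2
      rcases eq_or_eq_inv' hx (Dickson.trace_conj b g) h1 with e | e
      · exact absurd (mul_inv_eq_iff_eq_mul.mp e) h2
      · exact e
    have hb := key b h1 h2
    refine ⟨fun y hy => ?_, fun c h1' h2' => ?_⟩
    · obtain ⟨k, rfl⟩ := mk_surj y
      rw [mem_cT] at hy
      obtain ⟨s, t, he⟩ := Dickson.exists_of_commute hx hy
      rw [← map_inv, ← map_inv, ← map_mul, ← map_mul]
      congr 1
      apply Subtype.ext
      have hb' : b.1 * g.1 * (b⁻¹).1 = (g⁻¹).1 := by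
        rw [← Matrix.SpecialLinearGroup.coe_mul, ← Matrix.SpecialLinearGroup.coe_mul, hb]
      rw [Matrix.SpecialLinearGroup.coe_mul, Matrix.SpecialLinearGroup.coe_mul, inv_coe k, he,
        Dickson.trace_lin, Matrix.mul_add, Matrix.add_mul, Matrix.mul_smul, Matrix.mul_smul,
        Matrix.smul_mul, Matrix.smul_mul, mul_one, (mul_inv_coe b).1, hb', inv_coe g]
      module
    · obtain ⟨c, rfl⟩ := mk_surj c
      have hc := key c h1' h2'
      rw [← map_inv, ← map_mul, mem_cT]
      have e : b * g * b⁻¹ = c * g * c⁻¹ := hb.trans hc.symm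
      calc b⁻¹ * c * g = b⁻¹ * (c * g * c⁻¹) * c := by group
        _ = g * (b⁻¹ * c) := by rw [← e]; group
  u_cen u y z hu hy hz := by
    obtain ⟨c, rfl, hc, -, hN⟩ := exists_lift p hu
    obtain ⟨a, rfl⟩ := mk_surj y
    obtain ⟨b, rfl⟩ := mk_surj z
    have hns : ∀ r : F, c.1 ≠ r • (1 : M2) := fun r e => hN (r - 1) (by
      rw [e, sub_smul, one_smul])
    have ha := congrArg Subtype.val (commute_lift hc hy)
    have hb := congrArg Subtype.val (commute_lift hc hz)
    simp only [Matrix.SpecialLinearGroup.coe_mul] at ha hb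
    obtain ⟨s, t, hea⟩ := SL2Centralizer.exists_of_commute hns ha
    obtain ⟨s', t', heb⟩ := SL2Centralizer.exists_of_commute hns hb
    refine ⟨Commute.map (show a * b = b * a from Subtype.ext ?_) mk, pow_eq_one_of_trace_sq p ?_⟩
    · rw [Matrix.SpecialLinearGroup.coe_mul, Matrix.SpecialLinearGroup.coe_mul, hea, heb]
      simp only [Matrix.add_mul, Matrix.mul_add, Matrix.smul_mul, Matrix.mul_smul, one_mul, mul_one]
      module
    · have hq := trace_sq_of_lin hea
      rw [hc] at hq
      linear_combination hq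
  borel u x y hu hx hxu hy := by
    obtain ⟨c, rfl, hc, hN2, hN⟩ := exists_lift p hu
    obtain ⟨b, rfl⟩ := mk_surj x
    obtain ⟨d, rfl⟩ := mk_surj y
    rw [cT_congr (show mk (mk b).out = mk b from QuotientGroup.out_eq' _), mem_cT] at hy
    rw [borel_iff hc hN] at hxu ⊢
    obtain ⟨s, t, he⟩ := Dickson.exists_of_commute ((ss_iff p).mp hx) hy
    rw [he, Matrix.mul_add, Matrix.add_mul, Matrix.mul_smul, Matrix.smul_mul, mul_one, hN2,
      Matrix.mul_smul, Matrix.smul_mul, hxu, smul_zero, smul_zero, add_zero]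
  borel_comm u y z hu hy hz := by
    obtain ⟨c, rfl, hc, -, hN⟩ := exists_lift p hu
    obtain ⟨a, rfl⟩ := mk_surj y
    obtain ⟨b, rfl⟩ := mk_surj z
    rw [borel_iff hc hN] at hy hz
    obtain ⟨-, α, hα⟩ := borel_scal hc hN hy
    obtain ⟨-, β, hβ⟩ := borel_scal hc hN hz
    rw [← map_inv, ← map_inv, ← map_mul, ← map_mul, ← map_mul]
    refine Commute.map ?_ mk
    have key : ∀ (d : SL) (r : F), d.1 * (c.1 - 1) * (d⁻¹).1 = r • (c.1 - 1) →
        d.1 * (c.1 - 1) = r • ((c.1 - 1) * d.1) := fun d r h => by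
      rw [← Matrix.smul_mul, ← h, Matrix.mul_assoc _ (d⁻¹).1, (mul_inv_coe d).2, mul_one]
    have ka := key a α hα
    have kb := key b β hβ
    have hα0 : α ≠ 0 := fun e => by
      rw [e, zero_smul] at ka
      have := congrArg ((a⁻¹).1 * ·) ka
      simp only [mul_zero, ← Matrix.mul_assoc, (mul_inv_coe a).2, one_mul] at this
      exact hN 0 (by simpa using this)
    obtain ⟨N, hN'⟩ : ∃ N, c.1 - 1 = N := ⟨_, rfl⟩
    rw [hN'] at hN ka kb
    have ka' : (a⁻¹).1 * N = α⁻¹ • (N * (a⁻¹).1) := by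
      have h1 : N = α • ((a⁻¹).1 * N * a.1) := by
        calc N = (a⁻¹).1 * (a.1 * N) := by rw [← Matrix.mul_assoc, (mul_inv_coe a).2, one_mul]
          _ = _ := by rw [ka, Matrix.mul_smul, Matrix.mul_assoc]
      conv_rhs => rw [h1, Matrix.smul_mul, smul_smul, inv_mul_cancel₀ hα0, one_smul,
        Matrix.mul_assoc, (mul_inv_coe a).1, mul_one]
    have hβ0 : β ≠ 0 := fun e => by
      rw [e, zero_smul] at kb
      have := congrArg ((b⁻¹).1 * ·) kb
      simp only [mul_zero, ← Matrix.mul_assoc, (mul_inv_coe b).2, one_mul] at this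
      exact hN 0 (by simpa using this)
    have kb' : (b⁻¹).1 * N = β⁻¹ • (N * (b⁻¹).1) := by
      have h1 : N = β • ((b⁻¹).1 * N * b.1) := by
        calc N = (b⁻¹).1 * (b.1 * N) := by rw [← Matrix.mul_assoc, (mul_inv_coe b).2, one_mul]
          _ = _ := by rw [kb, Matrix.mul_smul, Matrix.mul_assoc]
      conv_rhs => rw [h1, Matrix.smul_mul, smul_smul, inv_mul_cancel₀ hβ0, one_smul,
        Matrix.mul_assoc, (mul_inv_coe b).1, mul_one]
    have hw : Commute (a * b * a⁻¹ * b⁻¹).1 N := by
      show _ * _ = _ * _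
      simp only [Matrix.SpecialLinearGroup.coe_mul]
      rw [Matrix.mul_assoc _ _ N, kb', Matrix.mul_smul, ← Matrix.mul_assoc _ N,
        Matrix.mul_assoc _ _ N, ka', Matrix.mul_smul, ← Matrix.mul_assoc _ N,
        Matrix.mul_assoc a.1 b.1 N, kb, Matrix.mul_smul, ← Matrix.mul_assoc a.1 N, ka]
      simp only [Matrix.smul_mul, smul_smul, ← Matrix.mul_assoc]
      rw [show β⁻¹ * (α⁻¹ * (β * α)) = 1 by field_simp, one_smul]
    apply Subtype.ext
    have := hw.add_right (Commute.one_right _)
    rw [← hN', sub_add_cancel] at this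
    exact this.eq
  borel_torus u x y hu hx hy hxu hyu hxy := by
    obtain ⟨c, rfl, hc, -, hN⟩ := exists_lift p hu
    obtain ⟨a, rfl⟩ := mk_surj x
    obtain ⟨b, rfl⟩ := mk_surj y
    rw [borel_iff hc hN] at hxu hyu
    rw [cT_congr (show mk (mk a).out = mk a from QuotientGroup.out_eq' _), mem_cT]
    rcases eq_or_neg (show mk (a * b) = mk (b * a) by rw [map_mul, map_mul, hxy.eq]) with e | e
    · exact e
    obtain ⟨⟨l, hl0, hl⟩, -⟩ := borel_scal hc hN hxu
    obtain ⟨⟨m, hm0, hm⟩, -⟩ := borel_scal hc hN hyu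
    have e' := congrArg (fun z : SL => z.1 * (c.1 - 1)) e
    simp only [Matrix.SpecialLinearGroup.coe_neg, Matrix.SpecialLinearGroup.coe_mul,
      Matrix.neg_mul, Matrix.mul_assoc, hl, hm, Matrix.mul_smul, smul_smul] at e'
    have h2 : (2 : F) = 0 := by
      have e'' : (m * l + l * m) • (c.1 - 1) = (0 : F) • (1 : M2) := by
        rw [zero_smul, add_smul]
        nth_rw 1 [show m * l = l * m from mul_comm m l]
        first | (rw [e']; simp) | (rw [mul_comm l m] at e' ⊢; rw [e']; simp) | linear_combination (norm := module) e'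
      rw [zero_smul] at e''
      rcases smul_eq_zero.mp e'' with h | h
      · have : (2 : F) * (m * l) = 0 := by linear_combination h
        exact (mul_eq_zero.mp this).resolve_right (mul_ne_zero hm0 hl0)
      · exact absurd h (by simpa using hN 0)
    rw [e]
    refine Subtype.ext ?_
    rw [Matrix.SpecialLinearGroup.coe_neg]
    ext i j
    rw [Matrix.neg_apply]
    linear_combination (-((a * b).1 i j)) * h2

theorem orderOf_dvd_of_ss {x : PSL} (hx : SS p x) :
    orderOf x ∣ (Fintype.card F + 1) / Nat.gcd 2 (Fintype.card F - 1) ∨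
      orderOf x ∣ (Fintype.card F - 1) / Nat.gcd 2 (Fintype.card F - 1) := by
  have hnp : ¬ x ^ p = 1 := fun e => by
    rcases (Nat.dvd_prime (Fact.out : p.Prime)).mp (orderOf_dvd_of_pow_eq_one e) with h | h
    · exact hx.1 (orderOf_eq_one_iff.mp h)
    · exact hx.2 (dvd_of_eq h.symm)
  rcases Nat.even_or_odd (Fintype.card F) with he | ho
  · have h1 : Nat.gcd 2 (Fintype.card F - 1) = 1 := by
      have := Fintype.one_lt_card (α := F)
      obtain ⟨m, hm⟩ := he
      exact (Nat.coprime_two_left.mpr ⟨m - 1, by omega⟩)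
    rw [h1, Nat.div_one, Nat.div_one]
    have hp2 : p = 2 := by
      obtain ⟨n, -, hn⟩ := FiniteField.card F p
      exact ((Nat.prime_dvd_prime_iff_eq Nat.prime_two Fact.out).mp
        (Nat.prime_two.dvd_of_dvd_pow (hn ▸ he.two_dvd))).symm
    subst hp2
    obtain ⟨g, rfl⟩ := mk_surj x
    rcases SL2Orders.pow_cases_char_two g with h | h | h
    · exact Or.inr (orderOf_dvd_of_pow_eq_one (by rw [← map_pow, h, map_one]))
    · exact Or.inl (orderOf_dvd_of_pow_eq_one (by rw [← map_pow, h, map_one]))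
    · exact absurd (by rw [← map_pow, h, map_one]) hnp
  · have h1 : Nat.gcd 2 (Fintype.card F - 1) = 2 := by
      obtain ⟨m, hm⟩ := ho
      exact Nat.gcd_eq_left ⟨m, by omega⟩
    rw [h1]
    rcases SL2Orders.psl_pow_cases p ho x with h | h | h
    · exact Or.inr (orderOf_dvd_of_pow_eq_one h)
    · exact Or.inl (orderOf_dvd_of_pow_eq_one h)
    · exact absurd h hnp

/-- The order of the part of a torus in a subgroup divides one of `(q ± 1) / d`. -/
theorem card_tor_dvd {H : Subgroup PSL} {x : PSL} (hx : SS p x) :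
    Nat.card (tor (psl p) H x) ∣ (Fintype.card F + 1) / Nat.gcd 2 (Fintype.card F - 1) ∨
      Nat.card (tor (psl p) H x) ∣ (Fintype.card F - 1) / Nat.gcd 2 (Fintype.card F - 1) := by
  have := (psl (F := F) p).T_cyclic x hx
  haveI : IsCyclic (tor (psl p) H x) :=
    Subgroup.isCyclic_of_le (inf_le_right : tor (psl p) H x ≤ (psl p).T x)
  obtain ⟨⟨t, ht⟩, htg⟩ := IsCyclic.exists_generator (α := tor (psl p) H x)
  have hc : Nat.card (tor (psl p) H x) = orderOf t := by
    rw [← orderOf_eq_card_of_forall_mem_zpowers htg, Subgroup.orderOf_mk]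
  rw [hc]
  by_cases ht1 : t = 1
  · rw [ht1, orderOf_one]; exact Or.inl (one_dvd _)
  · exact orderOf_dvd_of_ss p ((psl p).T_eq x t hx ht.2 ht1).1

end CfsgLib.DicksonFull
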