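import Mathlib
import Cfsg.Agent.Lib.DicksonFull.Tori
import Cfsg.Agent.Lib.DicksonFull.Cases
import Cfsg.Agent.Lib.Dickson.Main

/-!
The last case of Dickson's division: a subgroup with `Q + 1` Sylow `p`-subgroups of order `Q` is
`PSL₂` or `PGL₂` of the field with `Q` elements.
-/

set_option autoImplicit false
set_option maxHeartbeats 400000

namespace CfsgLib.DicksonFull

open Matrix
open CfsgLib.Dickson (up lo ext_entries mul_entry det_eq inv_entries param nG)
open CfsgLib.PSL2 (mk conjSL diagAut dil dSL)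

variable {F : Type*} [Field F]

local notation "M2" => Matrix (Fin 2) (Fin 2) F
local notation "SL" => Matrix.SpecialLinearGroup (Fin 2) F
local notation "PSL" => Matrix.ProjectiveSpecialLinearGroup (Fin 2) F

/-- The monomial element exchanging `0` and `∞`. -/
def wel (r : F) (hr : r ≠ 0) : SL :=
  ⟨!![0, -r⁻¹; r, 0], by simp [Matrix.det_fin_two, hr]⟩

/-- The fractions `g₀₀/g₁₀` of the elements of `G`. -/
def pts (G : Subgroup SL) : Set F := {β | ∃ h ∈ G, h.1 1 0 ≠ 0 ∧ β = h.1 0 0 / h.1 1 0}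

theorem coe_wel (r : F) (hr : r ≠ 0) : (wel r hr).1 = !![0, -r⁻¹; r, 0] := rfl

theorem pts_add {G : Subgroup SL} {β t : F} (hβ : β ∈ pts G) (ht : t ∈ param G) : β + t ∈ pts G := by
  obtain ⟨h, hh, h10, rfl⟩ := hβ
  refine ⟨up t * h, G.mul_mem ht hh, ?_, ?_⟩
  · rw [mul_entry]; simpa using h10
  · rw [mul_entry, mul_entry]
    simp
    field_simp

/-- The number of these fractions. -/
theorem pts_ncard [Finite F] (G : Subgroup SL) : (pts G).ncard + 1 = (nG G).index := by
  classical
  set W : Set (G ⧸ nG G) := {x | x ≠ ((1 : G) : G ⧸ nG G)} with hW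
  have hWS : W.ncard = (pts G).ncard := by
    have hout : ∀ x ∈ W, ((x.out : G) : SL).1 1 0 ≠ 0 := by
      intro x hx h0
      apply hx
      rw [← QuotientGroup.out_eq' x, QuotientGroup.eq, mul_one]
      exact (nG G).inv_mem h0
    refine Set.ncard_congr (fun x _ => ((x.out : G) : SL).1 0 0 / ((x.out : G) : SL).1 1 0)
      (fun x hx => ⟨_, (x.out : G).2, hout x hx, rfl⟩) (fun x y hx hy e => ?_) ?_
    · rw [← QuotientGroup.out_eq' x, ← QuotientGroup.out_eq' y, QuotientGroup.eq]
      show (((x.out⁻¹ * y.out : G) : SL)).1 1 0 = 0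
      simp only [Subgroup.coe_mul, Subgroup.coe_inv]
      rw [mul_entry, (inv_entries _).2.2.1, (inv_entries _).2.2.2]
      rw [div_eq_div_iff (hout x hx) (hout y hy)] at e
      linear_combination e
    · rintro β ⟨h, hh, h10, rfl⟩
      obtain ⟨m, hm⟩ := QuotientGroup.mk_out_eq_mul (nG G) ⟨h, hh⟩
      have hm0 : ((m : G) : SL).1 1 0 = 0 := m.2
      have hd := det_eq ((m : G) : SL)
      rw [hm0, mul_zero, sub_zero] at hd
      refine ⟨((⟨h, hh⟩ : G) : G ⧸ nG G), fun e => h10 ?_, ?_⟩
      · rw [QuotientGroup.eq, mul_one] at e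
        exact (Subgroup.inv_mem_iff (nG G)).1 e
      · show (((((⟨h, hh⟩ : G) : G ⧸ nG G).out : G)) : SL).1 0 0 / _ = _
        rw [hm, Subgroup.coe_mul, mul_entry, mul_entry, hm0, mul_zero, mul_zero, add_zero, add_zero,
          mul_div_mul_right _ _ (left_ne_zero_of_mul_eq_one hd)]
  have := Set.ncard_add_ncard_compl ({((1 : G) : G ⧸ nG G)} : Set (G ⧸ nG G))
  rw [Set.ncard_singleton] at this
  rw [← hWS, Subgroup.index, ← this, add_comm]
  rfl

theorem conj_diag_up (M : GL (Fin 2) F) (lam σ : F) (hM : M.1 = !![lam, -(lam * σ); 0, 1])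
    (g : SL) : (conjSL M g).1 0 0 = g.1 0 0 - σ * g.1 1 0 ∧ lam * (conjSL M g).1 1 0 = g.1 1 0 := by
  have h1 : (conjSL M g).1 * M.1 = M.1 * g.1 := by
    rw [PSL2.coe_conjSL]; simp [Matrix.mul_assoc]
  rw [hM] at h1
  have e00 := congrFun (congrFun h1 0) 0
  have e10 := congrFun (congrFun h1 1) 0
  simp [Matrix.mul_apply, Fin.sum_univ_two] at e00 e10
  have hl : lam ≠ 0 := fun h => by
    have := (Matrix.isUnit_iff_isUnit_det _).mp M.isUnit
    rw [hM] at this
    simp [Matrix.det_fin_two, h] at this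
  refine ⟨mul_left_cancel₀ hl ?_, ?_⟩
  · linear_combination e00
  · linear_combination e10

variable [Fintype F] (p : ℕ) [Fact p.Prime] [CharP F p]

/-- The normal form of the field case: a preimage in `SL₂` containing `up 1` and a monomial element,
whose fractions are parameters of its unipotent part. -/
theorem normal_form {H : Subgroup PSL} {u v : PSL} (huH : u ∈ H) (hu : orderOf u = p)
    (hvH : v ∈ H) (hv : orderOf v = p) (huv : ¬ Commute v u) (Q : ℕ)
    (hQ : Nat.card (H ⊓ cent u : Subgroup PSL) = Q)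
    (hh : Nat.card H = (Q + 1) * Nat.card (H ⊓ bor u : Subgroup PSL)) :
    ∃ (G : Subgroup SL) (π : G →* H) (r : F) (hr : r ≠ 0), Function.Surjective π ∧
      (∀ g, π g = 1 ↔ ((g : SL) = 1 ∨ (g : SL) = -1)) ∧ -1 ∈ G ∧ up 1 ∈ G ∧ wel r hr ∈ G ∧
      (∀ β ∈ pts G, β ∈ param G) ∧ Nat.card (param G) = Q ∧
      (∀ (g : G) (k : SL), mk k = (π g : PSL) → k.1.trace ^ 2 = (g : SL).1.trace ^ 2) ∧
      ∃ N : GL (Fin 2) F, ∀ g : G, diagAut N (π g : PSL) = mk (g : SL) := by
  classical
  obtain ⟨c₁, rfl, hc₁, -, -⟩ := exists_lift p hu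
  obtain ⟨c₂, rfl, hc₂, -, -⟩ := exists_lift p hv
  obtain ⟨M₀, b₀, c, hb₀, hc, hMu, hMv⟩ := Dickson.exists_conj_up_lo hc₁ hc₂
    (fun e => huv (show mk c₂ * mk c₁ = mk c₁ * mk c₂ by rw [← map_mul, ← map_mul, e]))
  have hconj : ∀ g : SL, Dickson.conjBy M₀ g = conjSL M₀ g := fun g => Subtype.ext rfl
  rw [hconj] at hMu hMv
  -- first normal form
  let e₁ : PSL ≃* PSL := diagAut M₀
  let G₁ : Subgroup SL := (H.map e₁.toMonoidHom).comap mk
  have he₁ : ∀ g : SL, e₁ (mk g) = mk (conjSL M₀ g) := PSL2.diagAut_apply M₀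
  have hG₁ : ∀ {g : SL}, g ∈ G₁ → e₁.symm (mk g) ∈ H := fun {g} hg => by
    obtain ⟨x, hx, e⟩ := hg
    rw [← e]; simpa using hx
  have hG₁' : ∀ {g : SL}, e₁.symm (mk g) ∈ H → g ∈ G₁ := fun {g} hg =>
    ⟨_, hg, e₁.apply_symm_apply _⟩
  let π₁ : G₁ →* H :=
    { toFun := fun g => ⟨e₁.symm (mk (g : SL)), hG₁ g.2⟩
      map_one' := Subtype.ext (by simp)
      map_mul' := fun a b => Subtype.ext (by simp) }
  have hπ₁ : Function.Surjective π₁ := fun x => by
    obtain ⟨g, hg⟩ := mk_surj (e₁ x)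
    exact ⟨⟨g, ⟨x, x.2, hg.symm⟩⟩, Subtype.ext (by
      show e₁.symm (mk g) = x
      rw [hg, e₁.symm_apply_apply])⟩
  have hu' : e₁ (mk c₁) = mk (up b₀) := by rw [he₁, hMu]
  have hb₀G : up b₀ ∈ G₁ := hG₁' (by rw [← hu', e₁.symm_apply_apply]; exact huH)
  have hcG : lo c ∈ G₁ := hG₁' (by
    rw [← hMv, ← he₁, e₁.symm_apply_apply]; exact hvH)
  have hN : ∀ a : F, (up b₀).1 - 1 ≠ a • (1 : M2) := fun a e => hb₀ (by
    simpa using congrFun (congrFun e 0) 1)
  have hpar : Nat.card (param G₁) = Q := by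
    rw [← hQ]
    refine Nat.card_eq_of_bijective (fun t => (⟨(π₁ ⟨up t.1, t.2⟩ : PSL), (π₁ ⟨up t.1, t.2⟩).2,
      mem_cent.mpr (by
        have h : Commute (mk (up t.1)) (mk (up b₀)) := by
          refine Commute.map (show up t.1 * up b₀ = up b₀ * up t.1 by
            rw [Dickson.up_mul, Dickson.up_mul, add_comm]) mk
        have := h.map e₁.symm
        rwa [← hu', e₁.symm_apply_apply] at this)⟩ : (H ⊓ cent (mk c₁) : Subgroup PSL))) ⟨?_, ?_⟩
    · intro s t e
      have e' : e₁.symm (mk (up s.1)) = e₁.symm (mk (up t.1)) := congrArg Subtype.val e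
      rcases eq_or_neg (e₁.symm.injective e') with e'' | e''
      · exact Subtype.ext (by simpa using congrArg (fun g : SL => g.1 0 1) e''.symm)
      · have h1 := congrArg (fun g : SL => g.1 0 0) e''
        have h2 := congrArg (fun g : SL => g.1 0 1) e''
        simp at h1 h2
        exact Subtype.ext (by linear_combination -h2 + s.1 * h1)
    · rintro ⟨x, hxH, hxc⟩
      obtain ⟨a, ha⟩ := mk_surj (e₁ x)
      have h : Commute (mk a) (mk (up b₀)) := by
        rw [ha, ← hu']; exact (mem_cent.mp hxc).map e₁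
      have h' := commute_lift (Dickson.trace_up b₀) h
      have e00 := congrArg (fun g : SL => g.1 0 0) h'
      have e01 := congrArg (fun g : SL => g.1 0 1) h'
      simp [mul_entry] at e00 e01
      have h10 : a.1 1 0 = 0 := by
        exact e00.resolve_left hb₀
      have h11 : a.1 1 1 = a.1 0 0 := mul_left_cancel₀ hb₀ (by linear_combination -e01)
      have hd := det_eq a
      rw [h10, h11, mul_zero, sub_zero] at hd
      obtain ⟨t, ht⟩ : ∃ t, mk (up t) = mk a := by
        rcases mul_self_eq_one_iff.mp hd with h00 | h00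
        · exact ⟨a.1 0 1, congrArg mk (ext_entries (by simp [h00]) (by simp) (by simp [h10])
            (by simp [h11, h00]))⟩
        · refine ⟨-a.1 0 1, ?_⟩
          rw [← mk_neg a]
          exact congrArg mk (ext_entries (by simp [h00]) (by simp) (by simp [h10])
            (by simp [h11, h00]))
      have htG : up t ∈ G₁ := hG₁' (by rw [ht, ha, e₁.symm_apply_apply]; exact hxH)
      refine ⟨⟨t, htG⟩, Subtype.ext ?_⟩
      show e₁.symm (mk (up t)) = x
      rw [ht, ha, e₁.symm_apply_apply]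
  have hidx : (nG G₁).index = Q + 1 := by
    have hn : nG G₁ = ((H ⊓ bor (mk c₁)).subgroupOf H).comap π₁ := by
      ext g
      rw [Subgroup.mem_comap, Subgroup.mem_subgroupOf]
      have key : (e₁.symm (mk (g : SL)) ∈ bor (mk c₁)) ↔ (g : SL).1 1 0 = 0 := by
        rw [mem_bor (psl p) hu]
        have hk : Commute (e₁.symm (mk (g : SL)) * mk c₁ * (e₁.symm (mk (g : SL)))⁻¹) (mk c₁) ↔
            Commute (mk (g : SL) * mk (up b₀) * (mk (g : SL))⁻¹) (mk (up b₀)) := by
          constructor <;> intro h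
          · have := h.map e₁
            simpa [← hu'] using this
          · have := h.map e₁.symm
            simpa [← hu'] using this
        rw [hk, borel_iff (Dickson.trace_up b₀) hN]
        constructor
        · intro h
          have := congrFun (congrFun h 0) 1
          simpa [Matrix.mul_apply, Fin.sum_univ_two, hb₀] using this
        · intro h
          ext i j
          fin_cases i <;> fin_cases j <;> simp [Matrix.mul_apply, Fin.sum_univ_two, h]
      exact ⟨fun h => ⟨(π₁ g).2, key.mpr h⟩, fun h => key.mp h.2⟩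
    rw [hn, Subgroup.index_comap_of_surjective _ hπ₁]
    have h1 := ((H ⊓ bor (mk c₁)).subgroupOf H).card_mul_index
    rw [Nat.card_congr (Subgroup.subgroupOfEquivOfLe (show H ⊓ bor (mk c₁) ≤ H from inf_le_left)).toEquiv,
      hh, mul_comm (Q + 1)] at h1
    exact Nat.eq_of_mul_eq_mul_left Nat.card_pos h1
  -- the fractions form one coset of the parameters
  set σ := c⁻¹ with hσ
  have hσS : σ ∈ pts G₁ := ⟨lo c, hcG, by simpa using hc, by simp [hσ]⟩
  have hS : ∀ β ∈ pts G₁, β - σ ∈ param G₁ := by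
    have hsub : (fun t => σ + t) '' (param G₁ : Set F) ⊆ pts G₁ := by
      rintro _ ⟨t, ht, rfl⟩
      exact pts_add hσS ht
    have hc1 := pts_ncard G₁
    rw [hidx] at hc1
    have heq := Set.eq_of_subset_of_ncard_le hsub (by
      rw [Set.ncard_image_of_injective _ (add_right_injective σ)]
      have hc2 : (param G₁ : Set F).ncard = Q := (Nat.card_coe_set_eq _).symm.trans hpar
      omega)
    intro β hβ
    rw [← heq] at hβ
    obtain ⟨t, ht, rfl⟩ := hβ
    simpa using ht
  -- second normal form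
  let M : GL (Fin 2) F := Matrix.GeneralLinearGroup.mkOfDetNeZero !![b₀⁻¹, -(b₀⁻¹ * σ); 0, 1]
    (by simp [Matrix.det_fin_two, hb₀])
  have hM : M.1 = !![b₀⁻¹, -(b₀⁻¹ * σ); 0, 1] := rfl
  let φ : SL ≃* SL := conjSL M
  let G : Subgroup SL := G₁.map φ.toMonoidHom
  have hφup : ∀ t, φ (up t) = up (b₀⁻¹ * t) := fun t => by
    have h1 : (φ (up t)).1 * M.1 = M.1 * (up t).1 := by
      show (conjSL M (up t)).1 * M.1 = _
      rw [PSL2.coe_conjSL]; simp [Matrix.mul_assoc]
    have h2 : (up (b₀⁻¹ * t)).1 * M.1 = M.1 * (up t).1 := by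
      rw [hM]; simp [Matrix.mul_fin_two, add_comm]
    refine Subtype.ext ?_
    exact M.isUnit.mul_left_injective (h1.trans h2.symm)
  have hGp : ∀ t, t ∈ param G ↔ b₀ * t ∈ param G₁ := fun t => by
    constructor
    · rintro ⟨g, hg, e⟩
      have e' : φ g = φ (up (b₀ * t)) := by
        rw [hφup, inv_mul_cancel_left₀ hb₀]; exact e
      show up (b₀ * t) ∈ G₁
      rw [← φ.injective e']; exact hg
    · intro h
      refine ⟨_, h, ?_⟩
      show φ (up (b₀ * t)) = up t
      rw [hφup, inv_mul_cancel_left₀ hb₀]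
  have hpts : ∀ β ∈ pts G, β ∈ param G := by
    rintro _ ⟨_, ⟨g, hg, rfl⟩, h10, rfl⟩
    rw [hGp]
    obtain ⟨e00, e10⟩ := conj_diag_up M b₀⁻¹ σ hM g
    have hg10 : g.1 1 0 ≠ 0 := by
      rw [← e10]; exact mul_ne_zero (inv_ne_zero hb₀) h10
    have := hS _ ⟨g, hg, hg10, rfl⟩
    convert this using 1
    show b₀ * ((conjSL M g).1 0 0 / (conjSL M g).1 1 0) = _
    have e10' : (conjSL M g).1 1 0 = b₀ * g.1 1 0 := by
      rw [← e10, mul_inv_cancel_left₀ hb₀]
    rw [e00, e10']
    field_simp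
  -- the monomial element
  obtain ⟨hlG, hl00, hl10⟩ : φ (lo c) ∈ G ∧ (φ (lo c)).1 0 0 = 0 ∧ (φ (lo c)).1 1 0 ≠ 0 := by
    obtain ⟨e00, e10⟩ := conj_diag_up M b₀⁻¹ σ hM (lo c)
    refine ⟨⟨_, hcG, rfl⟩, ?_, fun e => hc ?_⟩
    · show (conjSL M (lo c)).1 0 0 = 0
      rw [e00]; simp [hσ, hc]
    · rw [show (conjSL M (lo c)).1 1 0 = 0 from e, mul_zero] at e10
      simpa using e10.symm
  set h₀ := φ (lo c) with hh₀
  have hs : -(h₀.1 1 1) / h₀.1 1 0 ∈ param G := by
    refine hpts _ ⟨h₀⁻¹, G.inv_mem hlG, ?_, ?_⟩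
    · rw [(inv_entries h₀).2.2.1]; simpa using hl10
    · rw [(inv_entries h₀).2.2.1, (inv_entries h₀).1]; field_simp
  have hw : h₀ * up (-(h₀.1 1 1) / h₀.1 1 0) = wel (h₀.1 1 0) hl10 := by
    have hd := det_eq h₀
    rw [hl00, zero_mul, zero_sub] at hd
    apply ext_entries <;> simp [coe_wel, mul_entry, hl00]
    · field_simp
      linear_combination -hd
    · field_simp
      ring
  let π : G →* H := π₁.comp (G₁.equivMapOfInjective φ.toMonoidHom φ.injective).symm.toMonoidHom
  refine ⟨G, π, h₀.1 1 0, hl10, hπ₁.comp (MulEquiv.surjective _), fun g => ?_, ?_, ?_, ?_, hpts, ?_, fun g k hk => ?_, M * M₀, fun g => ?_⟩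
  · obtain ⟨⟨g₁, hg₁⟩, rfl⟩ := (G₁.equivMapOfInjective φ.toMonoidHom φ.injective).surjective g
    simp only [π, MonoidHom.comp_apply, MulEquiv.coe_toMonoidHom, MulEquiv.symm_apply_apply]
    show (⟨e₁.symm (mk g₁), _⟩ : H) = 1 ↔ φ g₁ = 1 ∨ φ g₁ = -1
    have hneg : φ (-1) = -1 := Subtype.ext (by
      show (conjSL M (-1)).1 = _
      rw [PSL2.coe_conjSL, Matrix.SpecialLinearGroup.coe_neg, Matrix.SpecialLinearGroup.coe_one]
      simp)
    constructor
    · intro h
      rcases mk_eq_one (a := g₁) (e₁.symm.injective (by rw [map_one]; exact congrArg Subtype.val h)) with rfl | rfl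
      · exact Or.inl (map_one φ)
      · exact Or.inr hneg
    · rintro (h | h)
      · rw [← map_one φ] at h
        obtain rfl := φ.injective h
        exact Subtype.ext (by simp)
      · rw [← hneg] at h
        obtain rfl := φ.injective h
        exact Subtype.ext (by
          show e₁.symm (mk (-1 : SL)) = 1
          rw [mk_neg, map_one, map_one])
  · refine ⟨-1, hG₁' ?_, Subtype.ext ?_⟩
    · rw [mk_neg, map_one, map_one]; exact H.one_mem
    · show (conjSL M (-1)).1 = _
      rw [PSL2.coe_conjSL, Matrix.SpecialLinearGroup.coe_neg, Matrix.SpecialLinearGroup.coe_one]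
      simp
  · show (1 : F) ∈ param G
    rw [hGp, mul_one]
    exact hb₀G
  · rw [← hw]; exact G.mul_mem hlG hs
  · rw [← hpar]
    refine Nat.card_congr ((Equiv.mulLeft₀ b₀ hb₀).subtypeEquiv fun t => ?_)
    exact hGp t
  · obtain ⟨⟨g₁, hg₁⟩, rfl⟩ := (G₁.equivMapOfInjective φ.toMonoidHom φ.injective).surjective g
    simp only [π, MonoidHom.comp_apply, MulEquiv.coe_toMonoidHom, MulEquiv.symm_apply_apply] at hk
    have hk' : mk k = e₁.symm (mk g₁) := hk
    have e : mk (conjSL M₀ k) = mk g₁ := by rw [← he₁, hk', e₁.apply_symm_apply]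
    show k.1.trace ^ 2 = (conjSL M g₁).1.trace ^ 2
    rw [PSL2.coe_conjSL M, Matrix.trace_units_conj, ← trace_sq_eq e, PSL2.coe_conjSL,
      Matrix.trace_units_conj]
  · obtain ⟨⟨g₁, hg₁⟩, rfl⟩ := (G₁.equivMapOfInjective φ.toMonoidHom φ.injective).surjective g
    simp only [π, MonoidHom.comp_apply, MulEquiv.coe_toMonoidHom, MulEquiv.symm_apply_apply]
    show diagAut (M * M₀) (e₁.symm (mk g₁)) = mk (conjSL M g₁)
    rw [map_mul, MulAut.mul_apply, show diagAut M₀ (e₁.symm (mk g₁)) = mk g₁ from e₁.apply_symm_apply _,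
      PSL2.diagAut_apply]

include p in
/-- A finite additive group closed under `x ↦ k/x` and containing `1` and `k` is a subfield. -/
theorem exists_subfield (A : AddSubgroup F) (h1 : (1 : F) ∈ A) {k : F} (hk0 : k ≠ 0) (hkA : k ∈ A)
    (hinv : ∀ x ∈ A, x ≠ 0 → k / x ∈ A) : ∃ K : Subfield F, (K : Set F) = A := by
  have hua : ∀ a ∈ A, ∀ b ∈ A, a ^ 2 * b / k ∈ A := by
    intro a ha b hb
    by_cases ha0 : a = 0
    · simp [ha0]
    by_cases hb0 : b = 0
    · simp [hb0]
    by_cases hc0 : k / b - a = 0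
    · convert ha using 1
      rw [sub_eq_zero] at hc0
      rw [← hc0]; field_simp
    have hc := A.sub_mem (hinv b hb hb0) ha
    have hd := A.add_mem (hinv a ha ha0) (hinv _ hc hc0)
    have hd0 : k / a + k / (k / b - a) ≠ 0 := by
      have : k / a + k / (k / b - a) = k * (k / b) / (a * (k / b - a)) := by
        rw [div_add_div _ _ ha0 hc0]; ring
      rw [this]
      exact div_ne_zero (mul_ne_zero hk0 (div_ne_zero hk0 hb0)) (mul_ne_zero ha0 hc0)
    have := A.sub_mem ha (hinv _ hd hd0)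
    convert this using 1
    have e : k / a + k / (k / b - a) = k * (k / b) / (a * (k / b - a)) := by
      rw [div_add_div _ _ ha0 hc0]; ring
    rw [e, div_div_eq_mul_div]
    field_simp
    ring
  have hmul : ∀ a ∈ A, ∀ b ∈ A, a * b ∈ A := by
    by_cases h2 : (2 : F) = 0
    · haveI : CharP F 2 := CharTwo.of_one_ne_zero_of_two_eq_zero one_ne_zero h2
      have hsq : ∀ a ∈ A, a ^ 2 ∈ A := fun a ha => by
        simpa [hk0] using hua a ha k hkA
      have hbij : Function.Surjective (fun a : A => (⟨(a : F) ^ 2, hsq a a.2⟩ : A)) :=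
        Finite.injective_iff_surjective.mp fun a b e => Subtype.ext
          (CharTwo.sq_injective (congrArg Subtype.val e))
      have hcirc : ∀ a ∈ A, ∀ b ∈ A, a * b / k ∈ A := by
        intro a ha b hb
        obtain ⟨⟨c, hc⟩, e⟩ := hbij ⟨a, ha⟩
        rw [← show c ^ 2 = a from congrArg Subtype.val e]
        exact hua c hc b hb
      intro a ha b hb
      have := hcirc _ (hcirc a ha b hb) _ (hsq k hkA)
      convert this using 1
      field_simp
    · have hhalf : ∀ x ∈ A, x / 2 ∈ A := by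
        intro x hx
        have hodd : p % 2 = 1 := by
          rcases (Fact.out : p.Prime).eq_two_or_odd with rfl | h
          · exact absurd (by exact_mod_cast (CharP.cast_eq_zero F 2)) h2
          · exact h
        have hn : (((p + 1) / 2 : ℕ) : F) * 2 = 1 := by
          have : (((p + 1) / 2 : ℕ) : F) * ((2 : ℕ) : F) = ((p + 1 : ℕ) : F) := by
            rw [← Nat.cast_mul]; congr 1; omega
          simpa using this
        have := A.nsmul_mem hx ((p + 1) / 2)
        convert this using 1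
        rw [nsmul_eq_mul, div_eq_iff h2]
        linear_combination (-x) * hn
      intro a ha b hb
      have key : ∀ a ∈ A, ∀ a' ∈ A, ∀ b ∈ A, a * a' * b / k ∈ A := by
        intro a ha a' ha' b hb
        have := hhalf _ (A.sub_mem (A.sub_mem (hua _ (A.add_mem ha ha') b hb) (hua a ha b hb))
          (hua a' ha' b hb))
        convert this using 1
        field_simp
        ring
      simpa [hk0] using key a ha b hb k hkA
  have hkinv : k⁻¹ ∈ A := by simpa using hua 1 h1 1 h1
  refine ⟨{ carrier := A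
            mul_mem' := fun {a b} ha hb => hmul a ha b hb
            one_mem' := h1
            add_mem' := A.add_mem
            zero_mem' := A.zero_mem
            neg_mem' := A.neg_mem
            inv_mem' := fun x hx => ?_ }, rfl⟩
  by_cases hx0 : x = 0
  · simpa [hx0] using A.zero_mem
  · have e : x⁻¹ = k / x * k⁻¹ := by field_simp
    show x⁻¹ ∈ (A : Set F)
    rw [e]
    exact hmul _ (hinv x hx hx0) _ hkinv

omit [Fintype F] in
theorem map_mem_of_transvections {K : Type*} [Field K] (ι : K →+* F) {G : Subgroup SL}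
    (hu : ∀ t, up (ι t) ∈ G) (hl : ∀ t, lo (ι t) ∈ G) (g : Matrix.SpecialLinearGroup (Fin 2) K) :
    Matrix.SpecialLinearGroup.map ι g ∈ G := by
  set C := G.comap (Matrix.SpecialLinearGroup.map (n := Fin 2) ι)
  have hu' : ∀ t : K, up t ∈ C := fun t => by
    show Matrix.SpecialLinearGroup.map ι (up t) ∈ G
    convert hu t using 1
    apply ext_entries <;> simp
  have hl' : ∀ t : K, lo t ∈ C := fun t => by
    show Matrix.SpecialLinearGroup.map ι (lo t) ∈ G
    convert hl t using 1
    apply ext_entries <;> simp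
  have key : ∀ g : Matrix.SpecialLinearGroup (Fin 2) K, g.1 1 0 ≠ 0 → g ∈ C := by
    intro g hc
    have hd := det_eq g
    have : g = up ((g.1 0 0 - 1) / g.1 1 0) * lo (g.1 1 0) * up ((g.1 1 1 - 1) / g.1 1 0) := by
      apply ext_entries <;> simp [mul_entry] <;> field_simp
      · ring
      · linear_combination -hd
      · ring
    rw [this]
    exact C.mul_mem (C.mul_mem (hu' _) (hl' _)) (hu' _)
  by_cases hc : g.1 1 0 = 0
  · have h1 : g * lo 1 ∈ C := key _ (by
      have hd := det_eq g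
      rw [hc, mul_zero, sub_zero] at hd
      simp [mul_entry, hc]
      exact right_ne_zero_of_mul_eq_one hd)
    have := C.mul_mem h1 (C.inv_mem (hl' 1))
    rwa [mul_inv_cancel_right] at this
  · exact key g hc

omit [Fintype F] in
/-- Every element of the normal form is a multiple of a matrix over the subfield. -/
theorem shape {K : Subfield F} {G : Subgroup SL} {r : F} {hr : r ≠ 0} (hw : wel r hr ∈ G)
    (hup : up 1 ∈ G) (hA : ∀ t, t ∈ param G ↔ t ∈ K) (hpts : ∀ β ∈ pts G, β ∈ param G)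
    (hr2 : r ^ 2 ∈ K) {h : SL} (hh : h ∈ G) :
    ∃ a : F, a ≠ 0 ∧ a ^ 2 ∈ K ∧ ∀ i j, h.1 i j / a ∈ K := by
  have hP : ∀ β ∈ pts G, β ∈ K := fun β hβ => (hA β).mp (hpts β hβ)
  have upper : ∀ h ∈ G, h.1 1 0 = 0 →
      h.1 0 0 ≠ 0 ∧ (h.1 0 0) ^ 2 ∈ K ∧ ∀ i j, h.1 i j / h.1 0 0 ∈ K := by
    intro h hh h10
    have hd := det_eq h
    rw [h10, mul_zero, sub_zero] at hd
    have h00 : h.1 0 0 ≠ 0 := left_ne_zero_of_mul_eq_one hd
    have h11 : h.1 1 1 ≠ 0 := right_ne_zero_of_mul_eq_one hd
    have ha2 : (h.1 0 0) ^ 2 ∈ K := by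
      rw [← hA]
      show up _ ∈ G
      convert G.mul_mem (G.mul_mem hh hup) (G.inv_mem hh) using 1
      obtain ⟨c01, c10, c00⟩ := Dickson.conj_up h 1
      refine ext_entries ?_ ?_ ?_ ?_
      · rw [c00, h10]; simp
      · rw [c01]; simp
      · rw [c10, h10]; simp
      · have ht := Dickson.trace_conj h (up 1)
        rw [Matrix.trace_fin_two, Matrix.trace_fin_two, c00, h10] at ht
        simp at ht ⊢
        linear_combination -ht
    have hβ : h.1 0 1 / h.1 1 1 ∈ K := hP _ ⟨h * wel r hr, G.mul_mem hh hw, by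
      simp [mul_entry, coe_wel, h10, h11, hr], by
      simp [mul_entry, coe_wel, h10]
      field_simp⟩
    refine ⟨h00, ha2, fun i j => ?_⟩
    fin_cases i <;> fin_cases j
    · simp [div_self h00, K.one_mem]
    · have := K.div_mem hβ ha2
      convert this using 1
      show h.1 0 1 / h.1 0 0 = _
      field_simp
      linear_combination (h.1 0 1) * hd
    · simp [h10, K.zero_mem]
    · have := K.inv_mem ha2
      convert this using 1
      show h.1 1 1 / h.1 0 0 = _
      field_simp
      linear_combination hd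
  by_cases h10 : h.1 1 0 = 0
  · exact ⟨_, upper h hh h10⟩
  have hβ : h.1 0 0 / h.1 1 0 ∈ K := hP _ ⟨h, hh, h10, rfl⟩
  have hupβ : up (-(h.1 0 0 / h.1 1 0)) ∈ G := (hA _).mpr (K.neg_mem hβ)
  set k := wel r hr * (up (-(h.1 0 0 / h.1 1 0)) * h) with hk
  have k10 : k.1 1 0 = 0 := by
    rw [hk]; simp [mul_entry, coe_wel, h10]
  have k00 : k.1 0 0 = -(h.1 1 0 / r) := by
    rw [hk]; simp [mul_entry, coe_wel, h10]; ring
  have k01 : k.1 0 1 = -(h.1 1 1 / r) := by
    rw [hk]; simp [mul_entry, coe_wel]; ring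
  obtain ⟨hk0, hk2, hke⟩ := upper k (G.mul_mem hw (G.mul_mem hupβ hh)) k10
  have hy : h.1 1 1 / h.1 1 0 ∈ K := by
    have := hke 0 1
    rw [k00, k01] at this
    convert this using 1
    field_simp
  have ha2 : (h.1 1 0) ^ 2 ∈ K := by
    have := K.mul_mem hk2 hr2
    rw [k00] at this
    convert this using 1
    field_simp
  refine ⟨h.1 1 0, h10, ha2, fun i j => ?_⟩
  fin_cases i <;> fin_cases j
  · exact hβ
  · have := K.sub_mem (K.mul_mem hβ hy) (K.inv_mem ha2)
    convert this using 1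
    show h.1 0 1 / h.1 1 0 = _
    have hd := det_eq h
    field_simp
    linear_combination -hd
  · simp [div_self h10, K.one_mem]
  · exact hy

/-- The field case of Dickson's division. -/
theorem field_case {H : Subgroup PSL} {u v : PSL} (huH : u ∈ H) (hu : orderOf u = p)
    (hvH : v ∈ H) (hv : orderOf v = p) (huv : ¬ Commute v u) (Q : ℕ)
    (hQ : Nat.card (H ⊓ cent u : Subgroup PSL) = Q)
    (hh : Nat.card H = (Q + 1) * Nat.card (H ⊓ bor u : Subgroup PSL)) :
    ∃ (K : Type) (_ : Field K) (_ : Fintype K) (m : ℕ),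
      Fintype.card K ^ m = Fintype.card F ∧ Fintype.card K = Q ∧
        (Nonempty (H ≃* Matrix.ProjectiveSpecialLinearGroup (Fin 2) K) ∨
          Nonempty (H ≃* Matrix.ProjGenLinGroup (Fin 2) K)) := by
  classical
  obtain ⟨G, π, r, hr, hπ, hker, hneg, hup, hw, hpts, hcard, -⟩ := normal_form p huH hu hvH hv huv Q hQ hh
  have hinv : ∀ x ∈ param G, x ≠ 0 → (-(r ^ 2)⁻¹) / x ∈ param G := by
    intro x hx hx0
    refine hpts _ ⟨wel r hr * (up x * wel r hr), G.mul_mem hw (G.mul_mem hx hw), ?_, ?_⟩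
    · simp [mul_entry, coe_wel, hr, hx0]
    · simp [mul_entry, coe_wel, hr]
      field_simp
  have hk0 : (-(r ^ 2)⁻¹ : F) ≠ 0 := neg_ne_zero.mpr (inv_ne_zero (pow_ne_zero 2 hr))
  have hkA : (-(r ^ 2)⁻¹ : F) ∈ param G := by simpa using hinv 1 hup one_ne_zero
  obtain ⟨S, hS⟩ := exists_subfield p (param G) hup hk0 hkA hinv
  have hA : ∀ t, t ∈ param G ↔ t ∈ S := fun t => by rw [← SetLike.mem_coe, ← hS]; rfl
  have hr2 : r ^ 2 ∈ S := by
    have := S.inv_mem (S.neg_mem ((hA _).mp hkA))
    simpa using this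
  -- a model of the subfield in `Type`
  obtain ⟨n, -, hn⟩ := FiniteField.card S p
  haveI : CharP S p := inferInstance
  obtain ⟨K, fK, ftK, hKS⟩ : ∃ (K : Type) (_ : Field K) (_ : Fintype K),
      Fintype.card K = Fintype.card S := ⟨GaloisField p n, inferInstance, Fintype.ofFinite _, by
    rw [Fintype.card_eq_nat_card, GaloisField.card p n n.ne_zero, hn]⟩
  let e : K ≃+* S := FiniteField.ringEquivOfCardEq hKS
  let ι : K →+* F := S.subtype.comp e.toRingHom
  have hι : ∀ x, x ∈ S ↔ ∃ y, ι y = x := fun x =>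
    ⟨fun hx => ⟨e.symm ⟨x, hx⟩, by simp [ι]⟩, by rintro ⟨y, rfl⟩; exact (e y).2⟩
  have hKQ : Fintype.card K = Q := by
    rw [hKS, ← hcard, Fintype.card_eq_nat_card]
    exact Nat.card_congr (Equiv.subtypeEquivRight fun t => (hA t).symm)
  letI : Algebra K F := ι.toAlgebra
  refine ⟨K, inferInstance, inferInstance, Module.finrank K F, Module.card_eq_pow_finrank.symm, hKQ, ?_⟩
  -- the group over the subfield
  have hmap : ∀ g : Matrix.SpecialLinearGroup (Fin 2) K, Matrix.SpecialLinearGroup.map ι g ∈ G := by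
    refine map_mem_of_transvections ι (fun t => (hA _).mpr ((hι _).mpr ⟨t, rfl⟩)) fun t => ?_
    have ht : up (-(ι t) / r ^ 2) ∈ G :=
      (hA _).mpr (S.div_mem (S.neg_mem ((hι _).mpr ⟨t, rfl⟩)) hr2)
    convert G.mul_mem (G.mul_mem hw ht) (G.inv_mem hw) using 1
    obtain ⟨i00, i01, i10, i11⟩ := inv_entries (wel r hr)
    apply ext_entries
    all_goals
      simp only [mul_entry, i00, i01, i10, i11]
      simp [coe_wel]
      try field_simp
      try ring
  let ψ : Matrix.SpecialLinearGroup (Fin 2) K →* H :=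
    π.comp ((Matrix.SpecialLinearGroup.map ι).codRestrict G hmap)
  have hmat : ∀ A : Matrix (Fin 2) (Fin 2) K, ι A.det = 1 → ∃ g ∈ G, g.1 = A.map ι :=
    fun A h => ⟨_, hmap ⟨A, ι.injective (h.trans (map_one ι).symm)⟩, rfl⟩
  by_cases hD : ∀ h ∈ G, ∀ i j, h.1 i j ∈ S
  · left
    have hsurj : Function.Surjective ψ := fun x => by
      obtain ⟨⟨h, hh⟩, rfl⟩ := hπ x
      choose f hf using fun i j => (hι _).mp (hD h hh i j)
      let g : Matrix.SpecialLinearGroup (Fin 2) K := ⟨Matrix.of f, ι.injective (by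
        rw [map_one, ← h.2, RingHom.map_det]
        congr 1
        ext i j
        simp [hf])⟩
      refine ⟨g, congrArg π (Subtype.ext (Subtype.ext ?_))⟩
      ext i j
      exact hf i j
    have hk : ψ.ker = Subgroup.center _ := by
      ext g
      rw [MonoidHom.mem_ker, Matrix.SpecialLinearGroup.mem_center_iff]
      show π _ = 1 ↔ _
      rw [hker]
      constructor
      · rintro (h | h)
        · refine ⟨1, one_pow _, ?_⟩
          ext i j
          have e' := congrFun (congrFun (congrArg Subtype.val h) i) j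
          refine ι.injective ?_
          simp at e' ⊢
          rw [e']
          by_cases hij : i = j <;> simp [hij, Matrix.one_apply]
        · refine ⟨-1, by simp, ?_⟩
          ext i j
          have e' := congrFun (congrFun (congrArg Subtype.val h) i) j
          refine ι.injective ?_
          simp at e' ⊢
          rw [e']
          by_cases hij : i = j <;> simp [hij, Matrix.one_apply]
      · rintro ⟨z, hz, hg⟩
        rw [Fintype.card_fin, sq_eq_one_iff] at hz
        rcases hz with rfl | rfl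
        · left
          ext i j
          show ι (g.1 i j) = _
          rw [← hg]
          by_cases hij : i = j <;> simp [hij, Matrix.one_apply]
        · right
          ext i j
          show ι (g.1 i j) = _
          rw [← hg]
          by_cases hij : i = j <;> simp [hij, Matrix.one_apply]
    exact ⟨(QuotientGroup.quotientKerEquivOfSurjective ψ hsurj).symm.trans
      (QuotientGroup.quotientMulEquivOfEq hk)⟩
  right
  push Not at hD
  obtain ⟨h₀, hh₀, i₀, j₀, hne⟩ := hD
  obtain ⟨a₀, ha₀, hν, he₀⟩ := shape hw hup hA hpts hr2 hh₀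
  have ha₀S : a₀ ∉ S := fun h => hne (by
    have := S.mul_mem (he₀ i₀ j₀) h
    rwa [div_mul_cancel₀ _ ha₀] at this)
  -- the diagonal element
  have hdiag : dSL a₀ ha₀ ∈ G := by
    have hd := det_eq h₀
    choose f hf using fun i j => (hι _).mp (he₀ i j)
    obtain ⟨ν, hνe⟩ := (hι _).mp hν
    obtain ⟨g, hg, hge⟩ := hmat !![ν * f 1 1, -(f 0 1); -(ν * f 1 0), f 0 0] (by
      simp [Matrix.det_fin_two, hf, hνe]
      field_simp
      linear_combination hd)
    convert G.mul_mem hh₀ hg using 1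
    apply ext_entries <;> simp [PSL2.coe_dSL, mul_entry, hge, hf, hνe] <;> field_simp
    · linear_combination -hd
    · ring
    · ring
    · linear_combination -hd
  have hsqrt : ∀ d : K, d ≠ 0 → ∃ s : F, s ≠ 0 ∧ s ^ 2 = ι d ∧ (s ∈ S ∨ s / a₀ ∈ S) := by
    intro d hd
    obtain ⟨ν, hνe⟩ := (hι _).mp hν
    have hν0 : ν ≠ 0 := fun e => pow_ne_zero 2 ha₀ (by rw [← hνe, e, map_zero])
    have hνns : ¬ IsSquare ν := by
      rintro ⟨w, hw'⟩
      have : (ι w - a₀) * (ι w + a₀) = 0 := by
        have := congrArg ι hw'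
        rw [hνe, map_mul] at this
        linear_combination -this
      rcases mul_eq_zero.mp this with e | e
      · exact ha₀S ((hι _).mpr ⟨w, sub_eq_zero.mp e⟩)
      · exact ha₀S ((hι _).mpr ⟨-w, by rw [map_neg]; linear_combination -e⟩)
    by_cases hds : IsSquare d
    · obtain ⟨w, rfl⟩ := hds
      exact ⟨ι w, by simpa using (mul_ne_zero_iff.mp hd).1, by rw [map_mul]; ring,
        Or.inl ((hι _).mpr ⟨w, rfl⟩)⟩
    · have hK2 : ringChar K ≠ 2 := fun e => hνns (FiniteField.isSquare_of_char_two e ν)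
      have h1 := (quadraticChar_neg_one_iff_not_isSquare).mpr hds
      have h2 := (quadraticChar_neg_one_iff_not_isSquare).mpr hνns
      obtain ⟨w, hw'⟩ := (quadraticChar_one_iff_isSquare (mul_ne_zero hd hν0)).mp
        (by rw [map_mul, h1, h2]; norm_num)
      have hw0 : w ≠ 0 := fun e => mul_ne_zero hd hν0 (by rw [hw', e, mul_zero])
      refine ⟨ι w / a₀, div_ne_zero (by simpa using hw0) ha₀, ?_, Or.inr ?_⟩
      · have := congrArg ι hw'
        rw [map_mul, map_mul, hνe] at this
        field_simp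
        linear_combination -this
      · have := S.div_mem ((hι _).mpr ⟨w, rfl⟩) hν
        convert this using 1
        field_simp
  choose sr hsr0 hsr hsrS using fun d : Kˣ => hsqrt d d.ne_zero
  have hlift : ∀ M : GL (Fin 2) K, ∃ g ∈ G,
      g.1 = (sr (Matrix.GeneralLinearGroup.det M))⁻¹ • M.1.map ι := by
    intro M
    set s := sr (Matrix.GeneralLinearGroup.det M) with hsd
    have hs0 := hsr0 (Matrix.GeneralLinearGroup.det M)
    have hs2 : s ^ 2 = ι M.1.det := by
      rw [hsd, hsr, Matrix.GeneralLinearGroup.val_det_apply]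
    have hdF : ι M.1.det = ι (M.1 0 0) * ι (M.1 1 1) - ι (M.1 0 1) * ι (M.1 1 0) := by
      rw [Matrix.det_fin_two, map_sub, map_mul, map_mul]
    rcases hsrS (Matrix.GeneralLinearGroup.det M) with h | h
    · obtain ⟨w, hw'⟩ := (hι _).mp h
      rw [← hsd] at hw'
      have hw0 : w ≠ 0 := fun e => hs0 (by rw [← hsd, ← hw', e, map_zero])
      obtain ⟨g, hg, hge⟩ := hmat (w⁻¹ • M.1) (by
        rw [Matrix.det_smul, Fintype.card_fin, map_mul, map_pow, map_inv₀, hw', ← hs2]
        field_simp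
        exact div_self hs0)
      refine ⟨g, hg, ?_⟩
      rw [hge]
      ext i j
      simp [hw']
    · obtain ⟨w, hw'⟩ := (hι _).mp h
      rw [← hsd] at hw'
      obtain ⟨ν, hνe⟩ := (hι _).mp hν
      have hw0 : w ≠ 0 := fun e => by
        rw [e, map_zero, eq_comm, div_eq_zero_iff] at hw'
        exact hw'.elim hs0 ha₀
      have hν0 : ν ≠ 0 := fun e => pow_ne_zero 2 ha₀ (by rw [← hνe, e, map_zero])
      have hsw : s = ι w * a₀ := by rw [hw', div_mul_cancel₀ _ ha₀]
      -- s⁻¹ M = diag (a₀, a₀⁻¹) · g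
      have hιw : ι w ≠ 0 := by simpa using hw0
      obtain ⟨g, hg, hge⟩ := hmat !![w⁻¹ * ν⁻¹ * M.1 0 0, w⁻¹ * ν⁻¹ * M.1 0 1;
          w⁻¹ * M.1 1 0, w⁻¹ * M.1 1 1] (by
        simp only [Matrix.det_fin_two_of, map_sub, map_mul, map_inv₀, hνe]
        rw [hsw, hdF] at hs2
        field_simp
        linear_combination -hs2)
      refine ⟨_, G.mul_mem hdiag hg, ?_⟩
      rw [← Matrix.ext_iff]
      intro i j
      fin_cases i <;> fin_cases j <;>
        simp [PSL2.coe_dSL, mul_entry, hge, hνe, hsw] <;> field_simp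
  choose lf hlfG hlf using hlift
  have hsame : ∀ (x y : G) (s t : F) (N : M2), s ^ 2 = t ^ 2 → s ≠ 0 → (x : SL).1 = s⁻¹ • N →
      (y : SL).1 = t⁻¹ • N → π x = π y := by
    intro x y s t N hst hs hx hy
    refine (mul_inv_eq_one.mp ?_)
    rw [← map_inv, ← map_mul, hker]
    rcases sq_eq_sq_iff_eq_or_eq_neg.mp hst with e | e
    · left
      have : (x : SL) = (y : SL) := Subtype.ext (by rw [hx, hy, e])
      simp [this]
    · right
      have : (x : SL) = -(y : SL) := Subtype.ext (by
        rw [Matrix.SpecialLinearGroup.coe_neg, hx, hy, e, inv_neg, neg_smul])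
      simp [this]
  let Φ : GL (Fin 2) K →* H :=
    MonoidHom.mk' (fun M => π ⟨lf M, hlfG M⟩) (fun M M' => by
      rw [← map_mul]
      refine hsame _ _ (sr (Matrix.GeneralLinearGroup.det (M * M')))
        (sr (Matrix.GeneralLinearGroup.det M) * sr (Matrix.GeneralLinearGroup.det M'))
        (M.1.map ι * M'.1.map ι) ?_ (hsr0 _) ?_ ?_
      · rw [mul_pow, hsr, hsr, hsr, map_mul, Units.val_mul, map_mul]
      · rw [hlf, Units.val_mul, Matrix.map_mul]
      · show (lf M * lf M').1 = _
        rw [Matrix.SpecialLinearGroup.coe_mul, hlf, hlf, Matrix.smul_mul, Matrix.mul_smul, smul_smul,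
          mul_inv])
  have hΦs : Function.Surjective Φ := by
    intro x
    obtain ⟨⟨h, hh⟩, rfl⟩ := hπ x
    obtain ⟨a, ha, ha2, he⟩ := shape hw hup hA hpts hr2 hh
    choose f hf using fun i j => (hι _).mp (he i j)
    have hdet : ι ((Matrix.of f).det) = (a ^ 2)⁻¹ := by
      rw [Matrix.det_fin_two, map_sub, map_mul, map_mul]
      simp only [Matrix.of_apply, hf]
      have hd := det_eq h
      field_simp
      linear_combination hd
    let M : GL (Fin 2) K := Matrix.GeneralLinearGroup.mkOfDetNeZero (Matrix.of f) (fun e => by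
      rw [e, map_zero, eq_comm, inv_eq_zero] at hdet
      exact pow_ne_zero 2 ha hdet)
    refine ⟨M, hsame _ _ (sr (Matrix.GeneralLinearGroup.det M)) a⁻¹ (M.1.map ι) ?_ (hsr0 _) (hlf M) ?_⟩
    · rw [hsr, inv_pow, ← hdet]; rfl
    · ext i j
      show h.1 i j = _
      simp [M, Matrix.GeneralLinearGroup.mkOfDetNeZero, hf]
      field_simp
  have hΦk : Φ.ker = Subgroup.center _ := by
    ext M
    rw [MonoidHom.mem_ker, Matrix.GeneralLinearGroup.center_eq_range_scalar, MonoidHom.mem_range]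
    show π _ = 1 ↔ _
    rw [hker]
    set s := sr (Matrix.GeneralLinearGroup.det M) with hs
    constructor
    · intro h
      have hsc : M.1.map ι = s • (1 : M2) ∨ M.1.map ι = (-s) • (1 : M2) := by
        rcases h with h | h <;> have h' := congrArg Subtype.val h <;> simp only [hlf] at h'
        · left
          rw [← Matrix.SpecialLinearGroup.coe_one, ← h', smul_smul, mul_inv_cancel₀ (hsr0 _), one_smul]
        · right
          rw [neg_smul, ← Matrix.SpecialLinearGroup.coe_one, ← smul_neg,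
            ← Matrix.SpecialLinearGroup.coe_neg, ← h', smul_smul, mul_inv_cancel₀ (hsr0 _), one_smul]
      obtain ⟨z, hz⟩ : ∃ z : F, M.1.map ι = z • (1 : M2) := hsc.elim (fun h => ⟨_, h⟩) fun h => ⟨_, h⟩
      have e : ∀ i j, M.1 i j = if i = j then M.1 0 0 else 0 := by
        intro i j
        have e0 := congrFun (congrFun hz 0) 0
        have e1 := congrFun (congrFun hz i) j
        simp at e0 e1
        by_cases hij : i = j
        · subst hij
          simp at e1
          simpa using ι.injective (e1.trans e0.symm)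
        · simp [hij] at e1 ⊢
          exact e1
      have hM00 : M.1 0 0 ≠ 0 := fun h0 => by
        refine (Matrix.GeneralLinearGroup.det M).ne_zero ?_
        rw [Matrix.GeneralLinearGroup.val_det_apply, Matrix.det_fin_two, e 1 1, e 0 1, h0]
        simp
      refine ⟨Units.mk0 _ hM00, Units.ext ?_⟩
      ext i j
      rw [e i j]
      by_cases hij : i = j <;> simp [hij]
    · rintro ⟨z, rfl⟩
      have hz : s ^ 2 = (ι z) ^ 2 := by
        rw [hs, hsr, Matrix.GeneralLinearGroup.val_det_apply, Matrix.det_fin_two]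
        simp
        ring
      have hzne : ι z ≠ 0 := by simp [z.ne_zero]
      rcases sq_eq_sq_iff_eq_or_eq_neg.mp hz with e | e
      · left
        refine Subtype.ext ?_
        show (lf _).1 = _
        rw [hlf, ← hs, e]
        ext i j
        by_cases hij : i = j <;> simp [hij, hzne]
      · right
        refine Subtype.ext ?_
        show (lf _).1 = _
        rw [hlf, ← hs, e]
        ext i j
        by_cases hij : i = j <;> simp [hij, hzne]
  exact ⟨(QuotientGroup.quotientKerEquivOfSurjective Φ hΦs).symm.trans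
    (QuotientGroup.quotientMulEquivOfEq hΦk)⟩

/-- In the field case the squared traces of the lifts lie in a subfield with `Q` elements. -/
theorem field_trace {H : Subgroup PSL} {u v : PSL} (huH : u ∈ H) (hu : orderOf u = p)
    (hvH : v ∈ H) (hv : orderOf v = p) (huv : ¬ Commute v u) (Q : ℕ)
    (hQ : Nat.card (H ⊓ cent u : Subgroup PSL) = Q)
    (hh : Nat.card H = (Q + 1) * Nat.card (H ⊓ bor u : Subgroup PSL)) :
    ∃ S : Subfield F, Nat.card S = Q ∧ ∀ k : SL, mk k ∈ H → k.1.trace ^ 2 ∈ S := by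
  obtain ⟨G, π, r, hr, hπ, -, -, hup, hw, hpts, hcard, htr, -⟩ := normal_form p huH hu hvH hv huv Q hQ hh
  have hinv : ∀ x ∈ param G, x ≠ 0 → (-(r ^ 2)⁻¹) / x ∈ param G := by
    intro x hx hx0
    refine hpts _ ⟨wel r hr * (up x * wel r hr), G.mul_mem hw (G.mul_mem hx hw), ?_, ?_⟩
    · simp [mul_entry, coe_wel, hr, hx0]
    · simp [mul_entry, coe_wel, hr]
      field_simp
  have hk0 : (-(r ^ 2)⁻¹ : F) ≠ 0 := neg_ne_zero.mpr (inv_ne_zero (pow_ne_zero 2 hr))
  have hkA : (-(r ^ 2)⁻¹ : F) ∈ param G := by simpa using hinv 1 hup one_ne_zero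
  obtain ⟨S, hS⟩ := exists_subfield p (param G) hup hk0 hkA hinv
  have hA : ∀ t, t ∈ param G ↔ t ∈ S := fun t => by rw [← SetLike.mem_coe, ← hS]; rfl
  have hr2 : r ^ 2 ∈ S := by
    have := S.inv_mem (S.neg_mem ((hA _).mp hkA))
    simpa using this
  refine ⟨S, ?_, fun k hk => ?_⟩
  · rw [← hcard]
    exact Nat.card_congr (Equiv.subtypeEquivRight fun t => (hA t).symm)
  · obtain ⟨g, hg⟩ := hπ ⟨mk k, hk⟩
    rw [htr g k (by rw [hg])]
    obtain ⟨a, ha, ha2, he⟩ := shape hw hup hA hpts hr2 g.2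
    have e : (g : SL).1.trace = a * ((g : SL).1 0 0 / a + (g : SL).1 1 1 / a) := by
      rw [Matrix.trace_fin_two]; field_simp
    rw [e, mul_pow]
    exact S.mul_mem ha2 (S.pow_mem (S.add_mem (he 0 0) (he 1 1)) 2)

end CfsgLib.DicksonFull
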