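import Mathlib
import Cfsg.Agent.Lib.DicksonFull.FieldCase

/-!
Dickson's classification of the subgroups of `PSL₂(q)`.
-/

set_option autoImplicit false

namespace CfsgLib.DicksonFull

open Matrix

variable {F : Type*} [Field F] [Fintype F] (p : ℕ) [Fact p.Prime] [CharP F p]

local notation "PSL" => Matrix.ProjectiveSpecialLinearGroup (Fin 2) F

/-- The centraliser of an element of order `p` is a Sylow `p`-subgroup. -/
theorem exists_sylow_cent {u : PSL} (hu : orderOf u = p) :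
    ∃ P : Sylow p PSL, (P : Subgroup PSL) = cent u := by
  obtain ⟨S, hS⟩ := exists_sylow (psl (F := F) p) (H := ⊤) (Subgroup.mem_top u) hu
  obtain ⟨P, hP⟩ : ∃ P : Sylow p PSL, cent u ≤ (P : Subgroup PSL) := by
    refine IsPGroup.exists_le_sylow fun y => ⟨1, Subtype.ext ?_⟩
    simpa using ((psl (F := F) p).u_cen u _ u hu (mem_cent.mp y.2) (Commute.refl u)).2
  refine ⟨P, le_antisymm (fun y hy => ?_) hP⟩
  have hle : (S : Subgroup (⊤ : Subgroup PSL)) ≤ (P : Subgroup PSL).subgroupOf ⊤ := by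
    rw [hS]
    exact fun z hz => Subgroup.mem_subgroupOf.mpr (hP (Subgroup.mem_subgroupOf.mp hz).2)
  have he := S.is_maximal' (P.2.comap_subtype) hle
  have : (⟨y, trivial⟩ : (⊤ : Subgroup PSL)) ∈ (S : Subgroup (⊤ : Subgroup PSL)) := by
    rw [← he]; exact Subgroup.mem_subgroupOf.mpr hy
  rw [hS] at this
  exact (Subgroup.mem_subgroupOf.mp this).2

/-- Dickson's classification. -/
theorem classification (H : Subgroup PSL) :
    (∃ k : ℕ, (k ∣ (Fintype.card F + 1) / Nat.gcd 2 (Fintype.card F - 1) ∨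
        k ∣ (Fintype.card F - 1) / Nat.gcd 2 (Fintype.card F - 1)) ∧
      ((IsCyclic H ∧ Nat.card H = k) ∨ Nonempty (H ≃* DihedralGroup k))) ∨
    (∃ (P : Sylow p PSL) (K : Subgroup PSL),
      K ≤ Subgroup.normalizer ((P : Subgroup PSL) : Set PSL) ∧ Nonempty (H ≃* K)) ∨
    Nonempty (H ≃* alternatingGroup (Fin 4)) ∨ Nonempty (H ≃* Equiv.Perm (Fin 4)) ∨
    Nonempty (H ≃* alternatingGroup (Fin 5)) ∨
    (∃ (K : Type) (_ : Field K) (_ : Fintype K) (m : ℕ), Fintype.card K ^ m = Fintype.card F ∧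
      (Nonempty (H ≃* Matrix.ProjectiveSpecialLinearGroup (Fin 2) K) ∨
        Nonempty (H ≃* Matrix.ProjGenLinGroup (Fin 2) K))) := by
  rcases kind (psl (F := F) p) H with h | ⟨x, hx, hxH, h⟩ | ⟨x, hx, hxH, h⟩ | h | h | h |
    ⟨u, huH, hu, h⟩ | ⟨u, v, huH, hu, hvH, hv, huv, Q, hQ, h3, hh, hB, -⟩
  · subst h
    exact Or.inl ⟨1, Or.inl (one_dvd _), Or.inl ⟨Subgroup.isCyclic_of_le le_rfl, Subgroup.card_bot⟩⟩
  · have := (psl (F := F) p).T_cyclic x hx
    refine Or.inl ⟨_, card_tor_dvd p (H := H) hx, Or.inl ⟨Subgroup.isCyclic_of_le h, ?_⟩⟩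
    rw [show tor (psl p) H x = H from inf_eq_left.mpr h]
  · exact Or.inl ⟨_, card_tor_dvd p (H := H) hx, Or.inr h⟩
  · exact Or.inr (Or.inr (Or.inl h))
  · exact Or.inr (Or.inr (Or.inr (Or.inl h)))
  · exact Or.inr (Or.inr (Or.inr (Or.inr (Or.inl h))))
  · obtain ⟨P, hP⟩ := exists_sylow_cent p hu
    exact Or.inr (Or.inl ⟨P, H, by rw [hP]; exact h, ⟨MulEquiv.refl _⟩⟩)
  · obtain ⟨K, hK, hK', m, hm, -, hiso⟩ := field_case p huH hu hvH hv huv Q hQ hh
    exact Or.inr (Or.inr (Or.inr (Or.inr (Or.inr ⟨K, hK, hK', m, hm, hiso⟩))))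

end CfsgLib.DicksonFull
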