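import Mathlib
import Cfsg.Agent.Lib.DicksonFull.Main
import Cfsg.Agent.Lib.PSL2Spectrum
import Cfsg.Agent.Lib.PSL2.ClassProduct
import Cfsg.Agent.Lib.SLCard

/-!
Consequences of Dickson's classification: the Borel index, the proper subgroups, the maximal
dihedral subgroups.
-/

set_option autoImplicit false

namespace CfsgLib.DicksonFull

open Matrix
open CfsgLib.PSL2 (mk)
open CfsgLib.Dickson (up lo)

variable {F : Type*} [Field F] [Fintype F] (p : ℕ) [Fact p.Prime] [CharP F p]

local notation "SL" => Matrix.SpecialLinearGroup (Fin 2) F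
local notation "PSL" => Matrix.ProjectiveSpecialLinearGroup (Fin 2) F
local notation "q" => Fintype.card F

theorem card_psl : Nat.gcd 2 (q - 1) * Nat.card PSL = q * (q ^ 2 - 1) := by
  rw [SLCard.gcd_mul_card_PSL (by norm_num), SLCard.card_SL_two]

include p in
theorem gcd_cases : (Nat.gcd 2 (q - 1) = 1 ∧ q % 2 = 0) ∨ (Nat.gcd 2 (q - 1) = 2 ∧ q % 2 = 1) := by
  have := Fintype.one_lt_card (α := F)
  rcases (Nat.dvd_prime Nat.prime_two).mp (Nat.gcd_dvd_left 2 (q - 1)) with h | h
  · refine Or.inl ⟨h, ?_⟩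
    by_contra hne
    have h2 : 2 ∣ Nat.gcd 2 (q - 1) := Nat.dvd_gcd dvd_rfl (by omega)
    omega
  · refine Or.inr ⟨h, ?_⟩
    have h2 : 2 ∣ q - 1 := h ▸ Nat.gcd_dvd_right 2 (q - 1)
    omega

theorem card_uSylow : Nat.card ((PSL2.uSylow (F := F) p : Sylow p PSL) : Subgroup PSL) = q := by
  rw [← Nat.card_eq_fintype_card]
  refine (Nat.card_congr ?_).trans (Nat.card_congr Multiplicative.toAdd)
  exact (MonoidHom.ofInjective (f := (PSL2.uHom : Multiplicative F →* PSL)) fun a b h =>
    Multiplicative.toAdd.injective (PSL2.uu_injective h)).symm.toEquiv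

theorem card_cent {u : PSL} (hu : orderOf u = p) : Nat.card (cent u : Subgroup PSL) = q := by
  obtain ⟨P, hP⟩ := exists_sylow_cent p hu
  rw [← hP, P.card_eq_multiplicity, ← (PSL2.uSylow (F := F) p).card_eq_multiplicity, card_uSylow p]

/-- There are `q + 1` Borel subgroups. -/
theorem index_bor {u : PSL} (hu : orderOf u = p) : (bor u).index = q + 1 := by
  classical
  have key : ∀ u : PSL, orderOf u = p → (bor u).index = Nat.card (Sylow p PSL) := fun u hu => by
    obtain ⟨P, hP⟩ := exists_sylow_cent p hu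
    rw [P.card_eq_index_normalizer, bor, ← hP]
    rfl
  have hN : ∀ a : F, (up (1 : F)).1 - 1 ≠ a • (1 : Matrix (Fin 2) (Fin 2) F) := fun a e => by
    simpa using congrFun (congrFun e 0) 1
  have h1 : orderOf (mk (up (1 : F))) = p := by
    refine (orderOf_eq_iff_trace p fun e => ?_).mpr (by rw [Dickson.trace_up]; norm_num)
    rcases mk_eq_one e with h | h
    · simpa using congrArg (fun g : SL => g.1 0 1) h
    · simpa using congrArg (fun g : SL => g.1 0 1) h
  rw [key u hu, ← key _ h1, ← Subgroup.index_comap_of_surjective _ (mk_surj (F := F))]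
  have hcomap : (bor (mk (up (1 : F)))).comap (mk : SL →* PSL) = Dickson.borel := by
    ext g
    rw [Subgroup.mem_comap, mem_bor (psl p) h1, borel_iff (Dickson.trace_up 1) hN]
    show _ ↔ g.1 1 0 = 0
    constructor
    · intro h
      simpa [Matrix.mul_apply, Fin.sum_univ_two] using congrFun (congrFun h 0) 1
    · intro h
      ext i j
      fin_cases i <;> fin_cases j <;> simp [Matrix.mul_apply, Fin.sum_univ_two, h]
  rw [hcomap]
  have hpts : pts (⊤ : Subgroup SL) = Set.univ := Set.eq_univ_of_forall fun β =>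
    ⟨⟨!![β, -1; 1, 0], by simp [Matrix.det_fin_two]⟩, trivial, by simp, by simp⟩
  have := pts_ncard (⊤ : Subgroup SL)
  rw [hpts, Set.ncard_univ, Nat.card_eq_fintype_card] at this
  rw [this]
  exact (Subgroup.relIndex_top_right _).symm

theorem card_bor {u : PSL} (hu : orderOf u = p) :
    Nat.gcd 2 (q - 1) * Nat.card (bor u : Subgroup PSL) = q * (q - 1) := by
  have h := (bor u).card_mul_index
  rw [index_bor p hu] at h
  have h' := card_psl (F := F)
  rw [← h] at h'
  refine Nat.eq_of_mul_eq_mul_right (show 0 < q + 1 by omega) ?_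
  rw [show q * (q - 1) * (q + 1) = q * (q ^ 2 - 1) by
    rw [← one_pow 2, Nat.sq_sub_sq, one_pow]; ring, ← h']
  ring

theorem exists_order_p : ∃ u : PSL, orderOf u = p := by
  obtain ⟨n, -, hn⟩ := FiniteField.card F p
  refine exists_prime_orderOf_dvd_card' p (dvd_trans ?_
    (Subgroup.card_subgroup_dvd_card ((PSL2.uSylow (F := F) p : Sylow p PSL) : Subgroup PSL)))
  rw [card_uSylow p, hn]
  exact dvd_pow_self p n.ne_zero

/-- The shape of a proper subgroup. -/
theorem proper_cases {H : Subgroup PSL} (hH : H ≠ ⊤) :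
    (∃ k, (k ∣ (q + 1) / Nat.gcd 2 (q - 1) ∨ k ∣ (q - 1) / Nat.gcd 2 (q - 1)) ∧
      ((IsCyclic H ∧ Nat.card H = k) ∨ Nonempty (H ≃* DihedralGroup k))) ∨
    Nonempty (H ≃* alternatingGroup (Fin 4)) ∨ Nonempty (H ≃* Equiv.Perm (Fin 4)) ∨
    Nonempty (H ≃* alternatingGroup (Fin 5)) ∨
    (∃ u : PSL, orderOf u = p ∧ H ≤ bor u) ∨
    (∃ (Q m : ℕ) (K : Type) (_ : Field K) (_ : Fintype K), Fintype.card K = Q ∧ 3 ≤ Q ∧ 2 ≤ m ∧
      Q ^ m = q ∧ Nat.card H ≤ Q * (Q ^ 2 - 1) ∧
      (∀ z ∈ H, SS p z → Nat.card (tor (psl p) H z) ≤ Q + 1) ∧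
      (Nonempty (H ≃* Matrix.ProjectiveSpecialLinearGroup (Fin 2) K) ∨
        Nonempty (H ≃* Matrix.ProjGenLinGroup (Fin 2) K))) := by
  rcases kind (psl (F := F) p) H with h | ⟨x, hx, hxH, h⟩ | ⟨x, hx, hxH, h⟩ | h | h | h |
    ⟨u, huH, hu, h⟩ | ⟨u, v, huH, hu, hvH, hv, huv, Q, hQ, h3, hh, hB, hmax⟩
  · subst h
    exact Or.inl ⟨1, Or.inl (one_dvd _), Or.inl ⟨Subgroup.isCyclic_of_le le_rfl, Subgroup.card_bot⟩⟩
  · have := (psl (F := F) p).T_cyclic x hx
    refine Or.inl ⟨_, card_tor_dvd p (H := H) hx, Or.inl ⟨Subgroup.isCyclic_of_le h, ?_⟩⟩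
    rw [show tor (psl p) H x = H from inf_eq_left.mpr h]
  · exact Or.inl ⟨_, card_tor_dvd p (H := H) hx, Or.inr h⟩
  · exact Or.inr (Or.inl h)
  · exact Or.inr (Or.inr (Or.inl h))
  · exact Or.inr (Or.inr (Or.inr (Or.inl h)))
  · exact Or.inr (Or.inr (Or.inr (Or.inr (Or.inl ⟨u, hu, h⟩))))
  · refine Or.inr (Or.inr (Or.inr (Or.inr (Or.inr ?_))))
    obtain ⟨K, hK, hK', m, hm, hKQ, hiso⟩ := field_case p huH hu hvH hv huv Q hQ hh
    rw [hKQ] at hm
    have hsq : Q * (Q ^ 2 - 1) = (Q + 1) * (Q * (Q - 1)) := by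
      rw [← one_pow 2, Nat.sq_sub_sq, one_pow]; ring
    have hle : Nat.card H ≤ Q * (Q ^ 2 - 1) := by
      rw [hh, hsq]
      exact Nat.mul_le_mul_left _ (by rcases hB with h | h <;> omega)
    refine ⟨Q, m, K, hK, hK', hKQ, h3, ?_, hm, hle, hmax, hiso⟩
    by_contra hm2
    rcases (show m = 0 ∨ m = 1 by omega) with rfl | rfl
    · rw [pow_zero] at hm
      have := Fintype.one_lt_card (α := F)
      omega
    rw [pow_one] at hm
    subst hm
    apply hH
    refine Subgroup.eq_top_of_le_card H ?_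
    have hc := card_psl (F := F)
    obtain ⟨K', D, -, hD, -, -⟩ := borel_compl (psl p) huH hu
    rw [hQ] at hD
    rw [hsq] at hc
    rcases gcd_cases (F := F) p with ⟨hg, hev⟩ | ⟨hg, -⟩ <;> rw [hg] at hc <;>
      rcases hB with h | h
    · exfalso
      rw [hD, show 2 * (q * D) = q * (2 * D) by ring] at h
      have := Nat.eq_of_mul_eq_mul_left (show 0 < q by omega) h
      omega
    · rw [hh, h]; omega
    · rw [hh]
      have h2 : (q + 1) * (q * (q - 1)) = 2 * ((q + 1) * Nat.card (H ⊓ bor u : Subgroup PSL)) := by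
        rw [← h]; ring
      omega
    · rw [hh, h]; omega

/-- A torus of order `n = (q ± 1)/d` with its dihedral normaliser. -/
theorem exists_torus {n : ℕ} (hn2 : 2 ≤ n)
    (hn : n = (q + 1) / Nat.gcd 2 (q - 1) ∨ n = (q - 1) / Nat.gcd 2 (q - 1)) :
    ∃ x : PSL, SS p x ∧ Nat.card ((psl p).T x) = n ∧
      Nat.card (Subgroup.normalizer ((psl p).T x : Set PSL)) = 2 * n ∧
      Nonempty (Subgroup.normalizer ((psl p).T x : Set PSL) ≃* DihedralGroup n) ∧
      ∃ g : PSL, g ∉ (psl p).T x ∧ g * x * g⁻¹ = x⁻¹ ∧ orderOf x = n := by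
  classical
  set d := Nat.gcd 2 (q - 1) with hd
  obtain ⟨x, hx⟩ := (PSL2Spectrum.psl_orders (F := F) p n).mpr (by
    rcases hn with rfl | rfl
    · exact Or.inr (Or.inl dvd_rfl)
    · exact Or.inl dvd_rfl)
  have hq := Fintype.one_lt_card (α := F)
  have hdvd : d ∣ q - 1 := Nat.gcd_dvd_right _ _
  have hdvd' : d ∣ q + 1 := by
    rcases gcd_cases (F := F) p with ⟨hg, -⟩ | ⟨hg, hodd⟩ <;> rw [hd, hg]
    · exact one_dvd _
    · omega
  have hpn : ¬ p ∣ n := by
    obtain ⟨k, -, hk⟩ := FiniteField.card F p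
    have hpq : p ∣ q := hk ▸ dvd_pow_self p k.ne_zero
    intro hp
    have h1 : p ∣ 1 := by
      rcases hn with rfl | rfl
      · have := (Nat.dvd_add_right hpq).mp (hp.trans (Nat.div_dvd_of_dvd hdvd'))
        exact this
      · have h2 := Nat.dvd_sub hpq (hp.trans (Nat.div_dvd_of_dvd hdvd))
        rwa [show q - (q - 1) = 1 by omega] at h2
    exact (Fact.out : p.Prime).ne_one (Nat.dvd_one.mp h1)
  have hxs : SS p x := ⟨fun e => by rw [e, orderOf_one] at hx; omega, hx ▸ hpn⟩
  have hT : Nat.card ((psl p).T x) = n := by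
    have h1 : n ∣ Nat.card ((psl p).T x) :=
      hx ▸ Subgroup.orderOf_dvd_natCard _ ((psl p).mem_T x hxs)
    have h2 : tor (psl p) ⊤ x = (psl p).T x := top_inf_eq _
    have h3 := card_tor_dvd p (H := ⊤) hxs
    rw [h2] at h3
    refine Nat.dvd_antisymm ?_ h1
    rcases h3 with h3 | h3 <;> rcases hn with hn' | hn'
    · rwa [hn']
    · exfalso
      have h4 := Nat.dvd_sub (h1.trans h3) (dvd_of_eq hn')
      rcases gcd_cases (F := F) p with ⟨hg, hev⟩ | ⟨hg, hodd⟩ <;> rw [hd, hg] at h4 hn'
      · rw [Nat.div_one, Nat.div_one, show q + 1 - (q - 1) = 2 by omega] at h4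
        have := Nat.le_of_dvd (by norm_num) h4
        omega
      · rw [show (q + 1) / 2 - (q - 1) / 2 = 1 by omega] at h4
        have := Nat.dvd_one.mp h4
        omega
    · exfalso
      have h4 := Nat.dvd_sub (dvd_of_eq hn') (h1.trans h3)
      rcases gcd_cases (F := F) p with ⟨hg, hev⟩ | ⟨hg, hodd⟩ <;> rw [hd, hg] at h4 hn'
      · rw [Nat.div_one, Nat.div_one, show q + 1 - (q - 1) = 2 by omega] at h4
        have := Nat.le_of_dvd (by norm_num) h4
        omega
      · rw [show (q + 1) / 2 - (q - 1) / 2 = 1 by omega] at h4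
        have := Nat.dvd_one.mp h4
        omega
    · rwa [hn']
  obtain ⟨b, hb⟩ := mk_surj x
  have hbt : b.1.trace ^ 2 ≠ 4 := (ss_iff p).mp (hb ▸ hxs)
  obtain ⟨i00, -, -, i11⟩ := Dickson.inv_entries b
  obtain ⟨a, ha⟩ := isConj_iff.mp (PSL2Product.isConj_of_trace hbt (h := b⁻¹) (by
    rw [Matrix.trace_fin_two, Matrix.trace_fin_two, i00, i11, add_comm]))
  have hconj : mk a * x * (mk a)⁻¹ = x⁻¹ := by
    rw [← hb, ← map_inv, ← map_mul, ← map_mul, ha, map_inv]
  have hTx : (psl p).T x = cT b := by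
    show cT x.out = cT b
    exact cT_congr (by rw [hb]; exact QuotientGroup.out_eq' x)
  have haT : mk a ∉ (psl p).T x := by
    rw [hTx, mem_cT]
    intro hab
    rw [hab, mul_inv_cancel_right] at ha
    have h1 : b * b = 1 := by nth_rw 2 [ha]; exact mul_inv_cancel b
    have h2 := congrArg Subtype.val h1
    rw [Matrix.SpecialLinearGroup.coe_mul, SL2Orders.sq_eq, Matrix.SpecialLinearGroup.coe_one,
      sub_eq_iff_eq_add] at h2
    by_cases hτ : b.1.trace = 0
    · rw [hτ, zero_smul] at h2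
      have h3 : (0 : F) = 1 + 1 := by simpa using congrFun (congrFun h2 0) 0
      refine hbt ?_
      rw [hτ]
      linear_combination (2 : F) * h3
    · refine SL2Centralizer.not_scalar_of_trace hbt (2 / b.1.trace) ?_
      have h3 := congrArg (fun M => b.1.trace⁻¹ • M) h2
      simp only [smul_smul, inv_mul_cancel₀ hτ, one_smul] at h3
      refine h3.trans ?_
      rw [smul_add, ← add_smul, div_eq_mul_inv]
      congr 1
      ring
  have hgx : mk a * x * (mk a)⁻¹ ∈ (psl p).T x := by
    rw [hconj]; exact inv_mem ((psl p).mem_T x hxs)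
  have hgN : mk a ∈ Subgroup.normalizer ((psl p).T x : Set PSL) := mem_norm hxs hgx
  set N := Subgroup.normalizer ((psl p).T x : Set PSL) with hN
  have hN2 : Nat.card N = 2 * n := by
    have hnor : nor (psl p) ⊤ x = N := top_inf_eq _
    have h2 : tor (psl p) ⊤ x = (psl p).T x := top_inf_eq _
    rcases nor_card (A := psl p) (H := ⊤) hxs with h | h <;> rw [hnor, h2] at h
    · exfalso
      exact haT (by rw [Subgroup.eq_of_le_of_card_ge Subgroup.le_normalizer h.le]; exact hgN)
    · rw [h, hT]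
  have hxN : x ∈ N := Subgroup.le_normalizer ((psl p).mem_T x hxs)
  have htN : tor (psl p) N x = (psl p).T x := inf_eq_right.mpr Subgroup.le_normalizer
  refine ⟨x, hxs, hT, hN2, ?_, mk a, haT, hconj, hx⟩
  have := dihedral_of_half (A := psl p) (H := N) hxs hxN (by rw [htN, hN2, hT])
  rwa [htN, hT] at this

theorem a4_orders : ∀ a : alternatingGroup (Fin 4), a ^ 2 = 1 ∨ a ^ 3 = 1 := by decide +kernel

theorem a4_no_inversion :
    ∀ a b : alternatingGroup (Fin 4), a ^ 3 = 1 → b * a * b⁻¹ = a⁻¹ → a = 1 := by decide +kernel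

theorem s4_orders : ∀ a : Equiv.Perm (Fin 4), a ^ 3 = 1 ∨ a ^ 4 = 1 := by decide +kernel

set_option maxRecDepth 8000 in
theorem a5_orders : ∀ a : alternatingGroup (Fin 5), a ^ 2 = 1 ∨ a ^ 3 = 1 ∨ a ^ 5 = 1 := by
  decide +kernel

include p in
/-- The dihedral normalisers of the tori are maximal, apart from small exceptions. -/
theorem coatom_dihedral {n : ℕ} (hn2 : 2 ≤ n)
    (hn : n = (q + 1) / Nat.gcd 2 (q - 1) ∨ n = (q - 1) / Nat.gcd 2 (q - 1))
    (hsmall : n ≤ 5 → 3 ≤ q ∧ q ≤ 5 ∧ (n = 2 → q = 3)) :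
    ∃ H : Subgroup PSL, IsCoatom H ∧ Nonempty (H ≃* DihedralGroup n) := by
  classical
  obtain ⟨x, hx, hT, hN2, hdih, g, hgT, hgx, hxn⟩ := exists_torus p hn2 hn
  set N := Subgroup.normalizer ((psl p).T x : Set PSL) with hN
  have hq := Fintype.one_lt_card (α := F)
  have hq3 : 3 ≤ q := by
    by_contra h
    rcases (show n ≤ 5 ∨ 6 ≤ n by omega) with h5 | h6
    · have := hsmall h5; omega
    · rcases hn with rfl | rfl <;>
        have := Nat.div_le_self (q + 1) (Nat.gcd 2 (q - 1)) <;>
        have := Nat.div_le_self (q - 1) (Nat.gcd 2 (q - 1)) <;> omega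
  have hcard := card_psl (F := F)
  have hxN : x ∈ N := Subgroup.le_normalizer ((psl p).mem_T x hx)
  have hgN : g ∈ N := mem_norm hx (by rw [hgx]; exact inv_mem ((psl p).mem_T x hx))
  have hsm : q ∈ ({3, 4, 5} : Finset ℕ) → Nat.card PSL = if q = 3 then 12 else 60 := by
    intro h
    simp only [Finset.mem_insert, Finset.mem_singleton] at h
    rcases h with h | h | h <;> rw [h] at hcard ⊢ <;> norm_num at hcard ⊢ <;> omega
  refine ⟨N, ⟨fun htop => ?_, fun H hlt => ?_⟩, hdih⟩
  · rw [htop, Subgroup.card_top] at hN2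
    rw [hN2] at hcard
    have hbig : q * 8 ≤ q * (q ^ 2 - 1) := Nat.mul_le_mul_left _ (by
      have : 9 ≤ q ^ 2 := by nlinarith
      omega)
    rcases gcd_cases (F := F) p with ⟨hg, -⟩ | ⟨hg, -⟩ <;> rw [hg] at hcard hn <;>
      rcases hn with rfl | rfl <;> omega
  · by_contra hHtop
    have hTH : (psl p).T x ≤ H := Subgroup.le_normalizer.trans hlt.le
    have hxH : x ∈ H := hlt.le hxN
    have hgH : g ∈ H := hlt.le hgN
    have hdvd : 2 * n ∣ Nat.card H := hN2 ▸ Subgroup.card_dvd_of_le hlt.le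
    have hltc : 2 * n < Nat.card H := by
      refine lt_of_le_of_ne (Nat.le_of_dvd Nat.card_pos hdvd) fun e => hlt.ne ?_
      exact Subgroup.eq_of_le_of_card_ge hlt.le (by rw [hN2, e])
    have hHdvd : Nat.card H ∣ Nat.card PSL := Subgroup.card_subgroup_dvd_card H
    have hHlt : Nat.card H < Nat.card PSL := lt_of_le_of_ne (Nat.le_of_dvd Nat.card_pos hHdvd)
      fun e => hHtop (Subgroup.eq_top_of_le_card H e.ge)
    have htor : Nat.card (tor (psl p) H x) = n := by
      rw [show tor (psl p) H x = (psl p).T x from inf_eq_right.mpr hTH, hT]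
    have hordH : orderOf (⟨x, hxH⟩ : H) = n := (Subgroup.orderOf_mk _ _).trans hxn
    have hpow : ∀ k, (⟨x, hxH⟩ : H) ^ k = 1 → 0 < k → n ∣ k := fun k h _ =>
      hordH ▸ orderOf_dvd_of_pow_eq_one h
    rcases proper_cases p hHtop with ⟨k, hk, ⟨hcyc, -⟩ | e⟩ | e | e | e | ⟨u, hu, hub⟩ |
      ⟨Q, m, K, _, _, -, hQ3, hm, hQm, -, hmax, -⟩
    · -- cyclic: the inverting element would centralise `x`
      have hcm := congrArg Subtype.val
        ((IsCyclic.commGroup (α := H)).mul_comm ⟨g, hgH⟩ ⟨x, hxH⟩)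
      have h' : g * x = x * g := hcm
      obtain ⟨b, rfl⟩ := mk_surj x
      obtain ⟨a, rfl⟩ := mk_surj g
      rcases eq_or_neg (show mk (a * b) = mk (b * a) by rw [map_mul, map_mul, h']) with e | e
      · refine hgT ?_
        rw [show (psl p).T (mk b) = cT b from cT_congr (QuotientGroup.out_eq' _), mem_cT]
        exact e.symm
      · -- `n = 2`
        have h2 : (mk b) ^ 2 = 1 := by
          rw [pow_two]
          nth_rw 1 [show mk b = (mk b)⁻¹ by rw [← hgx, h', mul_inv_cancel_right]]
          exact inv_mul_cancel _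
        have hn' : n = 2 := le_antisymm
          (Nat.le_of_dvd (by norm_num) (hxn ▸ orderOf_dvd_of_pow_eq_one h2)) hn2
        have := (psl (F := F) p).T_cyclic _ hx
        obtain ⟨⟨y, hy⟩, hygen⟩ := IsCyclic.exists_generator (α := H)
        have hyo : orderOf y = Nat.card H := by
          rw [← orderOf_eq_card_of_forall_mem_zpowers hygen, Subgroup.orderOf_mk]
        have hy1 : y ≠ 1 := fun e1 => by rw [e1, orderOf_one] at hyo; omega
        rcases (psl (F := F) p).order_cases y hy1 with hys | hyp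
        · have hHy : H ≤ (psl p).T y := by
            intro z hz
            obtain ⟨i, hi⟩ := hygen ⟨z, hz⟩
            have : y ^ i = z := congrArg Subtype.val hi
            exact this ▸ zpow_mem ((psl p).mem_T y hys) i
          obtain ⟨-, hTy⟩ := (psl (F := F) p).T_eq y _ hys (hHy hxH) hx.1
          exact hgT (hTy ▸ hHy hgH)
        · have hp2 : p = 2 := by
            rw [hyp] at hyo
            have h2p : 2 ∣ p := hyo ▸ (dvd_mul_right 2 n).trans hdvd
            exact ((Nat.prime_dvd_prime_iff_eq Nat.prime_two Fact.out).mp h2p).symm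
          omega
    · -- dihedral
      obtain ⟨e⟩ := e
      have hc : Nat.card H = 2 * k := by
        rw [Nat.card_congr e.toEquiv, DihedralGroup.nat_card]
      rw [hc] at hdvd hltc
      have hnk : n ∣ k := Nat.dvd_of_mul_dvd_mul_left (by norm_num) hdvd
      have hk0 : 0 < k := by omega
      rcases gcd_cases (F := F) p with ⟨hg, hev⟩ | ⟨hg, hodd⟩ <;> rw [hg] at hn hk <;>
        rcases hn with rfl | rfl <;> rcases hk with hk | hk
      all_goals first
        | (have := Nat.le_of_dvd (by omega) hk; omega)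
        | (have h4 := Nat.dvd_sub (hnk.trans hk) (dvd_refl _)
           rw [show (q + 1) / 1 - (q - 1) / 1 = 2 by omega] at h4
           have := Nat.le_of_dvd (by norm_num) h4
           omega)
        | (have h4 := Nat.dvd_sub (hnk.trans hk) (dvd_refl _)
           rw [show (q + 1) / 2 - (q - 1) / 2 = 1 by omega] at h4
           have := Nat.le_of_dvd (by norm_num) h4
           omega)
    · -- A4
      obtain ⟨e⟩ := e
      have hc : Nat.card H = 12 := by
        rw [Nat.card_congr e.toEquiv, Nat.card_eq_fintype_card]; rfl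
      have h23 : n ∣ 2 ∨ n ∣ 3 := by
        rcases a4_orders (e ⟨x, hxH⟩) with h | h
        · exact Or.inl (hpow 2 (e.injective (by rw [map_pow, h, map_one])) (by norm_num))
        · exact Or.inr (hpow 3 (e.injective (by rw [map_pow, h, map_one])) (by norm_num))
      rcases h23 with h | h
      · have hn' := Nat.le_of_dvd (by norm_num) h
        have hq5 := hsmall (by omega)
        have hqq : q = 3 := hq5.2.2 (by omega)
        rw [hsm (by simp [hqq]), if_pos hqq, hc] at hHlt
        omega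
      · have h1 := a4_no_inversion (e ⟨x, hxH⟩) (e ⟨g, hgH⟩)
          (by rw [← map_pow, ← map_one e]; congr 1
              exact orderOf_dvd_iff_pow_eq_one.mp (hordH ▸ h))
          (by rw [← map_inv, ← map_mul, ← map_mul, ← map_inv]; congr 1; exact Subtype.ext hgx)
        exact hx.1 (congrArg Subtype.val (e.injective (by rw [h1, map_one]) : (⟨x, hxH⟩ : H) = 1))
    · -- S4
      obtain ⟨e⟩ := e
      have hc : Nat.card H = 24 := by
        rw [Nat.card_congr e.toEquiv, Nat.card_eq_fintype_card, Fintype.card_perm, Fintype.card_fin]; rfl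
      have hn' : n ≤ 5 := by
        rcases s4_orders (e ⟨x, hxH⟩) with h | h
        · have := Nat.le_of_dvd (by norm_num) (hpow 3 (e.injective (by rw [map_pow, h, map_one])) (by norm_num))
          omega
        · have := Nat.le_of_dvd (by norm_num) (hpow 4 (e.injective (by rw [map_pow, h, map_one])) (by norm_num))
          omega
      have hq5 := hsmall hn'
      rw [hsm (by simp; omega), hc] at hHdvd hHlt
      split_ifs at hHdvd hHlt with h3
      · omega
      · norm_num at hHdvd
    · -- A5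
      obtain ⟨e⟩ := e
      have hc : Nat.card H = 60 := by
        rw [Nat.card_congr e.toEquiv, Nat.card_eq_fintype_card]; rfl
      have hn' : n ≤ 5 := by
        rcases a5_orders (e ⟨x, hxH⟩) with h | h | h
        · have := Nat.le_of_dvd (by norm_num) (hpow 2 (e.injective (by rw [map_pow, h, map_one])) (by norm_num))
          omega
        · have := Nat.le_of_dvd (by norm_num) (hpow 3 (e.injective (by rw [map_pow, h, map_one])) (by norm_num))
          omega
        · exact Nat.le_of_dvd (by norm_num) (hpow 5 (e.injective (by rw [map_pow, h, map_one])) (by norm_num))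
      have hq5 := hsmall hn'
      rw [hsm (by simp; omega), hc] at hHlt
      split_ifs at hHlt <;> omega
    · -- Borel
      have hxb := (mem_bor (psl p) hu).mp (hub hxH)
      have hgb := (mem_bor (psl p) hu).mp (hub hgH)
      have hcm := (psl (F := F) p).borel_comm u g x hu hgb hxb
      rw [hgx] at hcm
      have hx2 : x⁻¹ * x⁻¹ = 1 := by
        by_contra hne
        exact not_commute_of_SS (psl p) hu
          ((psl p).T_eq x _ hx (mul_mem (inv_mem ((psl p).mem_T x hx))
            (inv_mem ((psl p).mem_T x hx))) hne).1 hcm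
      have hxinv : x⁻¹ = x := by
        rw [mul_eq_one_iff_eq_inv, inv_inv] at hx2; exact hx2
      rw [hxinv, mul_inv_eq_iff_eq_mul] at hgx
      have hg1 : g ≠ 1 := fun e1 => hgT (e1 ▸ one_mem _)
      rcases (psl (F := F) p).order_cases g hg1 with hgs | hgp
      · exact hgT ((psl p).borel_torus u x g hu hx hgs hxb hgb hgx)
      · exact not_commute_of_SS (psl p) hgp hx hgx.symm
    · -- subfield
      have hle := hmax x hxH hx
      rw [htor] at hle
      have hQ2 : Q ^ 2 ≤ q := hQm ▸ Nat.pow_le_pow_right (by omega) hm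
      have h1 : Q * 3 ≤ Q ^ 2 := by rw [pow_two]; exact Nat.mul_le_mul_left _ hQ3
      rcases (show Q = 3 ∨ 4 ≤ Q by omega) with rfl | hQ4
      · rcases gcd_cases (F := F) p with ⟨hg, hev⟩ | ⟨hg, hodd⟩ <;> rw [hg] at hn <;>
          rcases hn with rfl | rfl <;> omega
      · have h4 : Q * 4 ≤ Q ^ 2 := by rw [pow_two]; exact Nat.mul_le_mul_left _ hQ4
        rcases gcd_cases (F := F) p with ⟨hg, hev⟩ | ⟨hg, hodd⟩ <;> rw [hg] at hn <;>
          rcases hn with rfl | rfl <;> omega

include p in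
/-- Galois: the minimal index of a proper subgroup. -/
theorem min_index (hq : q ∉ ({2, 3, 5, 7, 9, 11} : Finset ℕ)) {H : Subgroup PSL} (hH : H ≠ ⊤) :
    q + 1 ≤ H.index := by
  classical
  simp only [Finset.mem_insert, Finset.mem_singleton, not_or] at hq
  obtain ⟨u0, hu0⟩ := exists_order_p (F := F) p
  have hb := card_bor p hu0
  have hm := (bor u0).card_mul_index
  rw [index_bor p hu0] at hm
  have hH' := H.card_mul_index
  have hone := Fintype.one_lt_card (α := F)
  suffices hle : Nat.card H ≤ Nat.card (bor u0 : Subgroup PSL) by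
    have h1 := Nat.mul_le_mul_right (q + 1) hle
    rw [hm, ← hH'] at h1
    exact Nat.le_of_mul_le_mul_left h1 Nat.card_pos
  have hHdvd : Nat.card H ∣ Nat.card PSL := Subgroup.card_subgroup_dvd_card H
  have hHlt : Nat.card H < Nat.card PSL := lt_of_le_of_ne (Nat.le_of_dvd Nat.card_pos hHdvd)
    fun e => hH (Subgroup.eq_top_of_le_card H e.ge)
  generalize hB : Nat.card (bor u0 : Subgroup PSL) = B at hb hm ⊢
  have hBbig : q = 4 ∨ q = 8 ∨ 60 ≤ B := by
    rcases gcd_cases (F := F) p with ⟨hg, hev⟩ | ⟨hg, hodd⟩ <;> rw [hg] at hb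
    · rcases (show q = 4 ∨ q = 6 ∨ q = 8 ∨ 9 ≤ q by omega) with h | h | h | h
      · exact Or.inl h
      · exfalso
        obtain ⟨k, -, hk⟩ := FiniteField.card F p
        have h2 : IsPrimePow q := hk ▸ (Fact.out : p.Prime).isPrimePow.pow k.ne_zero
        rw [h] at h2
        revert h2
        rw [isPrimePow_nat_iff_bounded]
        decide
      · exact Or.inr (Or.inl h)
      · have := Nat.mul_le_mul h (show 8 ≤ q - 1 by omega)
        omega
    · have := Nat.mul_le_mul (show 13 ≤ q by omega) (show 12 ≤ q - 1 by omega)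
      omega
  rcases proper_cases p hH with ⟨k, hk, hkk⟩ | e | e | e | ⟨u, hu, hub⟩ |
    ⟨Q, m, K, _, _, -, hQ3, hm2, hQm, hHQ, -, -⟩
  · have hle : Nat.card H ≤ 2 * k := by
      rcases hkk with ⟨-, h⟩ | e
      · omega
      · obtain ⟨e⟩ := e
        rw [Nat.card_congr e.toEquiv, DihedralGroup.nat_card]
    have h4 : 4 * (q - 1) ≤ q * (q - 1) := Nat.mul_le_mul_right _ (by omega)
    rcases gcd_cases (F := F) p with ⟨hg, hev⟩ | ⟨hg, hodd⟩ <;> rw [hg] at hb hk <;>
      rcases hk with hk | hk <;> have := Nat.le_of_dvd (by omega) hk <;> omega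
  · obtain ⟨e⟩ := e
    have hc : Nat.card H = 12 := by
      rw [Nat.card_congr e.toEquiv, Nat.card_eq_fintype_card]; rfl
    rcases hBbig with h | h | h
    · rw [h] at hb; norm_num at hb; omega
    · rw [h] at hb; norm_num at hb; omega
    · omega
  · obtain ⟨e⟩ := e
    have hc : Nat.card H = 24 := by
      rw [Nat.card_congr e.toEquiv, Nat.card_eq_fintype_card, Fintype.card_perm, Fintype.card_fin]; rfl
    rcases hBbig with h | h | h
    · exfalso
      have hcard := card_psl (F := F)
      rw [h] at hcard; norm_num [-Nat.card_eq_fintype_card] at hcard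
      rw [hc, hcard] at hHdvd; norm_num at hHdvd
    · rw [h] at hb; norm_num at hb; omega
    · omega
  · obtain ⟨e⟩ := e
    have hc : Nat.card H = 60 := by
      rw [Nat.card_congr e.toEquiv, Nat.card_eq_fintype_card]; rfl
    rcases hBbig with h | h | h
    · exfalso
      have hcard := card_psl (F := F)
      rw [h] at hcard; norm_num [-Nat.card_eq_fintype_card] at hcard
      omega
    · exfalso
      have hcard := card_psl (F := F)
      rw [h] at hcard; norm_num [-Nat.card_eq_fintype_card] at hcard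
      rw [hc, hcard] at hHdvd; norm_num at hHdvd
    · omega
  · have h1 := Nat.le_of_dvd Nat.card_pos (Subgroup.card_dvd_of_le hub)
    have h2 := card_bor p hu
    rw [← hB] at hb ⊢
    have h3 : Nat.card (bor u : Subgroup PSL) = Nat.card (bor u0 : Subgroup PSL) :=
      Nat.eq_of_mul_eq_mul_left (Nat.gcd_pos_of_pos_left _ (by norm_num)) (h2.trans (by rw [← hb]))
    omega
  · have hQ2 : Q ^ 2 ≤ q := hQm ▸ Nat.pow_le_pow_right (by omega) hm2
    have h1 : 2 * (Q * (Q ^ 2 - 1)) ≤ q * (q - 1) :=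
      calc 2 * (Q * (Q ^ 2 - 1)) = (2 * Q) * (Q ^ 2 - 1) := by ring
        _ ≤ q * (q - 1) := Nat.mul_le_mul (by rw [pow_two] at hQ2; nlinarith) (by omega)
    rcases gcd_cases (F := F) p with ⟨hg, hev⟩ | ⟨hg, hodd⟩ <;> rw [hg] at hb <;> omega

end CfsgLib.DicksonFull
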