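import Mathlib
import Cfsg.Agent.Lib.DicksonFull.Subgroups
import Cfsg.Agent.S0810

/-!
Tools for counting the elements that generate a solvable subgroup with a given one in `PSL₂(q)`.
-/

set_option autoImplicit false

namespace CfsgLib.DicksonFull

section General

variable {G : Type*} [Group G]

/-- The elements generating a solvable subgroup with `x`. -/
def Sol (x : G) : Set G := {y | Group.IsSolvable ↥(Subgroup.closure ({x, y} : Set G))}

theorem mem_sol_iff (hall : ∀ M : Subgroup G, M ≠ ⊤ → Group.IsSolvable M) (hG : ¬ Group.IsSolvable G)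
    {x y : G} : y ∈ Sol x ↔ ∃ M : Subgroup G, M ≠ ⊤ ∧ x ∈ M ∧ y ∈ M := by
  constructor
  · intro h
    refine ⟨_, fun e => hG ?_, Subgroup.subset_closure (Set.mem_insert x {y}),
      Subgroup.subset_closure (Set.mem_insert_of_mem x rfl)⟩
    have h' : Group.IsSolvable (⊤ : Subgroup G) := e ▸ h
    exact Group.isSolvable_of_isSolvable_injective (f := (Subgroup.topEquiv (G := G)).symm.toMonoidHom)
      (Subgroup.topEquiv (G := G)).symm.injective
  · rintro ⟨M, hM, hx, hy⟩
    have := hall M hM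
    have hle : Subgroup.closure ({x, y} : Set G) ≤ M :=
      (Subgroup.closure_le _).mpr (Set.insert_subset hx (Set.singleton_subset_iff.mpr hy))
    exact Group.isSolvable_of_isSolvable_injective (f := Subgroup.inclusion hle)
      (Subgroup.inclusion_injective hle)

theorem card_sol_conj (x g : G) : (Sol (g * x * g⁻¹)).ncard = (Sol x).ncard := by
  have key : ∀ x g y : G, y ∈ Sol x → g * y * g⁻¹ ∈ Sol (g * x * g⁻¹) := by
    intro x g y h
    have := (show Group.IsSolvable ↥(Subgroup.closure ({x, y} : Set G)) from h)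
    have e : (Subgroup.closure ({x, y} : Set G)).map (MulAut.conj g).toMonoidHom =
        Subgroup.closure ({g * x * g⁻¹, g * y * g⁻¹} : Set G) := by
      rw [MonoidHom.map_closure, Set.image_pair]; rfl
    show Group.IsSolvable ↥(Subgroup.closure ({g * x * g⁻¹, g * y * g⁻¹} : Set G))
    rw [← e]
    exact Group.isSolvable_of_isSolvable_injective
      (f := ((Subgroup.closure ({x, y} : Set G)).equivMapOfInjective (MulAut.conj g).toMonoidHom
        (MulAut.conj g).injective).symm.toMonoidHom) (MulEquiv.injective _)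
  symm
  refine Set.ncard_congr (fun y _ => g * y * g⁻¹) (key x g) (fun a b _ _ h => by simpa using h) ?_
  intro z hz
  refine ⟨g⁻¹ * z * g, ?_, by group⟩
  have := key _ g⁻¹ z hz
  rw [inv_inv, show g⁻¹ * (g * x * g⁻¹) * g = x by group] at this
  exact this

/-- Elements satisfying the relations of `A₄` generate a proper subgroup. -/
theorem a4_proper [IsSimpleGroup G] (hnc : ∃ a b : G, a * b ≠ b * a) {x y : G}
    (hx : x ^ 2 = 1) (hx1 : x ≠ 1) (hy : y ^ 3 = 1) (hxy : (x * y) ^ 3 = 1) :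
    ∃ M : Subgroup G, M ≠ ⊤ ∧ x ∈ M ∧ y ∈ M := by
  set b := y * x * y⁻¹ with hb
  have hxx : x * x = 1 := by rw [← pow_two]; exact hx
  have hbb : b * b = 1 := by rw [hb, show y * x * y⁻¹ * (y * x * y⁻¹) = y * (x * x) * y⁻¹ by group,
    hxx, mul_one, mul_inv_cancel]
  have hyi : y⁻¹ = y * y := inv_eq_of_mul_eq_one_right (by rw [← mul_assoc, ← pow_three']; exact hy)
  have hc : y * b * y⁻¹ = b * x := by
    have h1 : x * y * (x * y) * (x * y) = 1 := by rw [← pow_three']; exact hxy
    have h2 : x * b * (y * b * y⁻¹) = 1 := by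
      rw [hb, ← h1]
      simp only [hyi]
      calc x * (y * x * (y * y)) * (y * (y * x * (y * y)) * (y * y)) =
            x * y * x * (y * y * y) * (y * x * (y * y * y) * y) := by group
        _ = x * y * (x * y) * (x * y) := by
            rw [show y * y * y = y ^ 3 by rw [pow_three'], hy]; group
    calc y * b * y⁻¹ = (x * b)⁻¹ := eq_inv_of_mul_eq_one_right h2
      _ = b * x := by rw [_root_.mul_inv_rev, inv_eq_of_mul_eq_one_right hxx, inv_eq_of_mul_eq_one_right hbb]
  have hcc : b * x * (b * x) = 1 := by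
    rw [← hc, show y * b * y⁻¹ * (y * b * y⁻¹) = y * (b * b) * y⁻¹ by group, hbb, mul_one, mul_inv_cancel]
  have hcomm : Commute x b := by
    have h3 := eq_inv_of_mul_eq_one_right hcc
    rw [_root_.mul_inv_rev, inv_eq_of_mul_eq_one_right hxx, inv_eq_of_mul_eq_one_right hbb] at h3
    exact h3.symm
  set V := Subgroup.closure ({x, b} : Set G) with hV
  have hVc : IsMulCommutative V := by
    refine Subgroup.isMulCommutative_closure ?_
    simp only [Set.mem_insert_iff, Set.mem_singleton_iff]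
    rintro _ (rfl | rfl) _ (rfl | rfl) <;> first | rfl | exact hcomm | exact hcomm.symm
  have hxV : x ∈ V := Subgroup.subset_closure (Or.inl rfl)
  have hbV : b ∈ V := Subgroup.subset_closure (Or.inr rfl)
  have hmap : V.map (MulAut.conj y).toMonoidHom = V := by
    refine le_antisymm ?_ ?_
    · rw [hV, MonoidHom.map_closure, Subgroup.closure_le]
      rintro _ ⟨z, (rfl | rfl), rfl⟩
      · exact hbV
      · show y * b * y⁻¹ ∈ V
        rw [hc]; exact mul_mem hbV hxV
    · conv_lhs => rw [hV]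
      rw [Subgroup.closure_le]
      have hxm : x ∈ V.map (MulAut.conj y).toMonoidHom := by
        refine ⟨b * x, mul_mem hbV hxV, ?_⟩
        show y * (b * x) * y⁻¹ = x
        rw [show y * (b * x) * y⁻¹ = y * b * y⁻¹ * (y * x * y⁻¹) by group, hc, ← hb,
          mul_assoc, hcomm.eq, ← mul_assoc, hbb, one_mul]
      rintro _ (rfl | rfl)
      · exact hxm
      · exact ⟨x, hxV, rfl⟩
  refine ⟨Subgroup.normalizer (V : Set G), fun htop => ?_, Subgroup.le_normalizer hxV,
    Subgroup.mem_normalizer_iff.mpr fun z => ?_⟩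
  · have hn : V.Normal := Subgroup.normalizer_eq_top_iff.mp htop
    rcases hn.eq_bot_or_eq_top with e | e
    · exact hx1 (Subgroup.mem_bot.mp (e ▸ hxV))
    · obtain ⟨a, c, hac⟩ := hnc
      exact hac (congrArg Subtype.val (hVc.is_comm.comm ⟨a, e ▸ trivial⟩ ⟨c, e ▸ trivial⟩))
  · constructor
    · intro hz
      rw [← hmap]
      exact ⟨z, hz, rfl⟩
    · intro hz
      have hz' : y * z * y⁻¹ ∈ V.map (MulAut.conj y).toMonoidHom := hmap.symm ▸ hz
      obtain ⟨w, hw, e⟩ := hz'
      have : w = z := (MulAut.conj y).injective e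
      exact this ▸ hw

theorem ncard_three [Finite G] (A B C W : Set G) (hAB : A ∩ B = W) (hAC : A ∩ C = W) (hBC : B ∩ C = W) :
    (A ∪ B ∪ C).ncard + 2 * W.ncard = A.ncard + B.ncard + C.ncard := by
  have h1 := Set.ncard_union_add_ncard_inter A B
  have h2 := Set.ncard_union_add_ncard_inter (A ∪ B) C
  rw [hAB] at h1
  rw [Set.union_inter_distrib_right, hAC, hBC, Set.union_self] at h2
  omega

end General

section Abstract

variable {X : Type*} [Group X] {p : ℕ} [Fact p.Prime] (A : Amb X p)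
include A

/-- An element inverting a torus from outside is an involution. -/
theorem inverter_sq {x g : X} (hx : SS p x) (h : g * x * g⁻¹ ∈ A.T x) (hg : g ∉ A.T x) : g ^ 2 = 1 := by
  by_contra hne
  have hgi : g⁻¹ ∉ A.T x := fun h' => hg (inv_inv g ▸ inv_mem h')
  have hinv := (A.T_norm x g hx h hg).1
  have h2 : g⁻¹ * x * g⁻¹⁻¹ ∈ A.T x := by
    rw [inv_inv]; exact (Subgroup.mem_normalizer_iff''.mp (mem_norm hx h) x).mp (A.mem_T x hx)
  have hgg : g ^ 2 ∈ A.T x := by
    have := inv_mem ((A.T_norm x g hx h hg).2 g⁻¹ h2 hgi)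
    rwa [_root_.mul_inv_rev, inv_inv, ← pow_two] at this
  obtain ⟨hs, hT⟩ := A.T_eq x _ hx hgg hne
  have hg1 : g ≠ 1 := fun e => hne (by rw [e, one_pow])
  rcases A.order_cases g hg1 with hgs | hgp
  · obtain ⟨-, hT'⟩ := A.T_eq g _ hgs (pow_mem (A.mem_T g hgs) 2) hne
    exact hg (hT ▸ hT' ▸ A.mem_T g hgs)
  · have h1 : (g ^ 2) ^ p = 1 := by rw [← pow_mul, mul_comm, pow_mul, ← hgp, pow_orderOf_eq_one, one_pow]
    rcases (Nat.dvd_prime (Fact.out : p.Prime)).mp (orderOf_dvd_of_pow_eq_one h1) with e | e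
    · exact hne (orderOf_eq_one_iff.mp e)
    · exact hs.2 (dvd_of_eq e.symm)

/-- A torus contains at most one involution. -/
theorem involution_unique [Finite X] {x t : X} (hx : SS p x) (hx2 : x ^ 2 = 1) (ht : t ∈ A.T x) (ht2 : t ^ 2 = 1) :
    t = 1 ∨ t = x := by
  classical
  have := A.T_cyclic x hx
  have := Fintype.ofFinite (A.T x)
  have hle := IsCyclic.card_pow_eq_one_le (α := A.T x) (show 0 < 2 by norm_num)
  by_contra hc
  rw [not_or] at hc
  have hsub : ({1, ⟨x, A.mem_T x hx⟩, ⟨t, ht⟩} : Finset (A.T x)) ⊆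
      (Finset.univ.filter fun a => a ^ 2 = 1) := by
    intro a ha
    simp only [Finset.mem_insert, Finset.mem_singleton] at ha
    simp only [Finset.mem_filter, Finset.mem_univ, true_and]
    rcases ha with rfl | rfl | rfl
    · simp
    · exact Subtype.ext hx2
    · exact Subtype.ext ht2
  have := (Finset.card_le_card hsub).trans hle
  rw [Finset.card_insert_of_notMem (by
      simp only [Finset.mem_insert, Finset.mem_singleton, Subtype.ext_iff, OneMemClass.coe_one, not_or]
      exact ⟨fun e => hx.1 e.symm, fun e => hc.1 e.symm⟩),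
    Finset.card_insert_of_notMem (by
      simp only [Finset.mem_singleton, Subtype.ext_iff]
      exact fun e => hc.2 e.symm), Finset.card_singleton] at this
  omega

/-- A semisimple non-involution normalising a torus lies in it. -/
theorem same_torus {x x0 : X} (hx : SS p x) (hx2 : x ^ 2 ≠ 1) (hx0 : SS p x0)
    (h : x ∈ Subgroup.normalizer (A.T x0 : Set X)) : A.T x0 = A.T x := by
  have hxT : x ∈ A.T x0 := by
    by_contra hn
    exact hx2 (inverter_sq A hx0 ((mem_norm_iff hx0).mp h) hn)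
  exact (A.T_eq x0 x hx0 hxT hx.1).2.symm

/-- A torus normaliser and a Borel subgroup through a non-involution meet in the torus. -/
theorem norm_inf_bor {u x : X} (hu : orderOf u = p) (hx : SS p x) (hx2 : x ^ 2 ≠ 1) (hxu : x ∈ bor u) :
    (Subgroup.normalizer (A.T x : Set X) : Set X) ∩ bor u = A.T x := by
  ext g
  refine ⟨fun ⟨hg, hgu⟩ => ?_, fun hg => ⟨Subgroup.le_normalizer hg, (mem_bor A hu).mpr ?_⟩⟩
  · by_contra hgT
    have hi := (A.T_norm x g hx ((mem_norm_iff hx).mp hg) hgT).1 x (A.mem_T x hx)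
    have hc := A.borel_comm u g x hu ((mem_bor A hu).mp hgu) ((mem_bor A hu).mp hxu)
    rw [hi] at hc
    have hne : x⁻¹ * x⁻¹ ≠ 1 := fun e => hx2 (by
      rw [pow_two, ← inv_inv (x * x), _root_.mul_inv_rev, e, inv_one])
    exact not_commute_of_SS A hu
      (A.T_eq x _ hx (mul_mem (inv_mem (A.mem_T x hx)) (inv_mem (A.mem_T x hx))) hne).1 hc
  · exact A.borel u x g hu hx ((mem_bor A hu).mp hxu) hg

/-- A dihedral, cyclic or trivial `H` with torus `x` normalises it. -/
theorem le_norm_of_half [Finite X] {H : Subgroup X} {x : X} (hx : SS p x) (hxH : x ∈ H)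
    (hh : Nat.card H = 2 * Nat.card (tor A H x)) : H ≤ Subgroup.normalizer (A.T x : Set X) := by
  intro g hg
  have hC : ((tor A H x).subgroupOf H).Normal := by
    refine Subgroup.normal_of_index_eq_two ?_
    have h1 := ((tor A H x).subgroupOf H).card_mul_index
    rw [Nat.card_congr (Subgroup.subgroupOfEquivOfLe (show tor A H x ≤ H from inf_le_left)).toEquiv, hh,
      mul_comm 2 (Nat.card (tor A H x))] at h1
    exact Nat.eq_of_mul_eq_mul_left Nat.card_pos h1
  exact mem_norm hx (hC.conj_mem ⟨x, hxH⟩ (self_mem_tor hx hxH) ⟨g, hg⟩).2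

end Abstract

section Matrices

open Matrix
open CfsgLib.PSL2 (mk)
open CfsgLib.Dickson (up lo)

variable {F : Type*} [Field F] [Fintype F] (p : ℕ) [Fact p.Prime] [CharP F p]

local notation "SL" => Matrix.SpecialLinearGroup (Fin 2) F
local notation "PSL" => Matrix.ProjectiveSpecialLinearGroup (Fin 2) F
local notation "q" => Fintype.card F

/-- A set in `PSL₂` and its preimage in `SL₂`. -/
theorem card_lift (P : PSL → Prop) :
    Nat.card {g : SL // P (mk g)} = Nat.gcd 2 (q - 1) * Nat.card {y : PSL // P y} := by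
  set K := Subgroup.center SL
  have hK : Nat.card K = Nat.gcd 2 (q - 1) := by
    have h := K.card_eq_card_quotient_mul_card_subgroup
    have h' := SLCard.gcd_mul_card_PSL (F := F) (n := 2) (by norm_num)
    rw [h, mul_comm (Nat.card (SL ⧸ K))] at h'
    exact (Nat.eq_of_mul_eq_mul_right Nat.card_pos h').symm
  refine (Nat.card_congr (QuotientGroup.preimageMkEquivSubgroupProdSet K {y | P y})).trans ?_
  rw [Nat.card_prod, hK]
  rfl

theorem sol_setting (hall : ∀ M : Subgroup PSL, M ≠ ⊤ → Group.IsSolvable M) (hq : 4 ≤ q) {x y : PSL} :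
    y ∈ Sol x ↔ ∃ M : Subgroup PSL, M ≠ ⊤ ∧ x ∈ M ∧ y ∈ M :=
  mem_sol_iff hall (Cfsg.Agent.S0810.not_solvable hq)

theorem bor_ne_top {u : PSL} (hu : orderOf u = p) : bor u ≠ ⊤ := fun e => by
  have h := index_bor p hu
  rw [e, Subgroup.index_top] at h
  have := Fintype.one_lt_card (α := F)
  omega

theorem norm_ne_top (hq : 4 ≤ q) {x : PSL} (hx : SS p x) :
    Subgroup.normalizer ((psl p).T x : Set PSL) ≠ ⊤ := fun e => by
  have h := nor_card (A := psl p) (H := ⊤) hx
  have hT : tor (psl p) ⊤ x = (psl p).T x := top_inf_eq _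
  rw [show nor (psl p) ⊤ x = ⊤ from (top_inf_eq _).trans e, Subgroup.card_top, hT] at h
  have ht := card_tor_dvd p (H := ⊤) hx
  rw [hT] at ht
  have hle : Nat.card ((psl p).T x) ≤ q + 1 := by
    rcases gcd_cases (F := F) p with ⟨hg, -⟩ | ⟨hg, -⟩ <;> rw [hg] at ht <;> rcases ht with ht | ht <;>
      exact (Nat.le_of_dvd (by omega) ht).trans (by omega)
  have hc := card_psl (F := F)
  have hg2 : Nat.gcd 2 (q - 1) ≤ 2 := Nat.le_of_dvd (by norm_num) (Nat.gcd_dvd_left _ _)
  have h2 : Nat.card PSL ≤ 2 * (q + 1) := by rcases h with h | h <;> omega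
  have h3 : q * (q ^ 2 - 1) ≤ 2 * (2 * (q + 1)) := hc ▸ Nat.mul_le_mul hg2 h2
  rw [← one_pow 2, Nat.sq_sub_sq] at h3
  nlinarith [Nat.mul_le_mul_left q (show 3 ≤ q - 1 by omega)]

/-- Every semisimple element is inverted outside its torus. -/
theorem exists_inverter {x : PSL} (hx : SS p x) :
    ∃ g : PSL, g ∉ (psl p).T x ∧ g * x * g⁻¹ = x⁻¹ := by
  obtain ⟨b, rfl⟩ := mk_surj x
  have hbt : b.1.trace ^ 2 ≠ 4 := (ss_iff p).mp hx
  obtain ⟨i00, -, -, i11⟩ := Dickson.inv_entries b
  obtain ⟨a, ha⟩ := isConj_iff.mp (PSL2Product.isConj_of_trace hbt (h := b⁻¹) (by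
    rw [Matrix.trace_fin_two, Matrix.trace_fin_two, i00, i11, add_comm]))
  refine ⟨mk a, ?_, by rw [← map_inv, ← map_mul, ← map_mul, ha, map_inv]⟩
  rw [show (psl p).T (mk b) = cT b from cT_congr (QuotientGroup.out_eq' _), mem_cT]
  intro hab
  rw [hab, mul_inv_cancel_right] at ha
  have h1 : b * b = 1 := by nth_rw 2 [ha]; exact mul_inv_cancel b
  have h2 := congrArg Subtype.val h1
  rw [Matrix.SpecialLinearGroup.coe_mul, SL2Orders.sq_eq, Matrix.SpecialLinearGroup.coe_one,
    sub_eq_iff_eq_add] at h2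
  by_cases hτ : b.1.trace = 0
  · rw [hτ, zero_smul] at h2
    have h3 : (0 : F) = 1 + 1 := by simpa using congrFun (congrFun h2 0) 0
    refine hbt ?_
    rw [hτ]
    linear_combination (2 : F) * h3
  · refine SL2Centralizer.not_scalar_of_trace hbt (2 / b.1.trace) ?_
    have h3 := congrArg (fun M => b.1.trace⁻¹ • M) h2
    simp only [smul_smul, inv_mul_cancel₀ hτ, one_smul] at h3
    refine h3.trans ?_
    rw [smul_add, ← add_smul, div_eq_mul_inv]
    congr 1
    ring

theorem card_norm {x : PSL} (hx : SS p x) :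
    Nat.card (Subgroup.normalizer ((psl p).T x : Set PSL)) = 2 * Nat.card ((psl p).T x) := by
  obtain ⟨g, hgT, hg⟩ := exists_inverter p hx
  have hgN : g ∈ Subgroup.normalizer ((psl p).T x : Set PSL) :=
    mem_norm hx (hg ▸ inv_mem ((psl p).mem_T x hx))
  rcases nor_card (A := psl p) (H := ⊤) hx with h | h <;>
    rw [show nor (psl p) ⊤ x = Subgroup.normalizer ((psl p).T x : Set PSL) from top_inf_eq _,
      show tor (psl p) ⊤ x = (psl p).T x from top_inf_eq _] at h
  · exact absurd (by rwa [Subgroup.eq_of_le_of_card_ge Subgroup.le_normalizer h.le]) hgT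
  · exact h

/-- A torus is split or not. -/
theorem card_torus {b : SL} (hb : b.1.trace ^ 2 ≠ 4) :
    ((¬ ∃ s : F, s * s + b.1.trace * s + 1 = 0) ∧ Nat.gcd 2 (q - 1) * Nat.card (cT b) = q + 1) ∨
    ((∃ s : F, s * s + b.1.trace * s + 1 = 0) ∧ Nat.gcd 2 (q - 1) * Nat.card (cT b) = q - 1) := by
  have hc : Nat.gcd 2 (q - 1) * Nat.card (cT b) = Nat.card (Subgroup.centralizer ({b} : Set SL)) := by
    rw [show Nat.card (cT b) = Nat.card {y : PSL // y ∈ cT b} from rfl, ← card_lift (F := F) (fun y => y ∈ cT b)]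
    exact Nat.card_congr (Equiv.subtypeEquivRight fun g => by
      rw [mem_cT, Subgroup.mem_centralizer_singleton_iff])
  have h1 := SL2Centralizer.card_conic hb
  rw [← SL2Centralizer.card_centralizer_eq_conic (SL2Centralizer.not_scalar_of_trace hb), ← hc] at h1
  rcases SL2Centralizer.card_roots hb with h0 | h0 <;> rw [h0] at h1
  · refine Or.inl ⟨fun ⟨s, hs⟩ => ?_, h1⟩
    have : Nonempty {s : F // s * s + b.1.trace * s + 1 = 0} := ⟨⟨s, hs⟩⟩
    have := Nat.card_pos (α := {s : F // s * s + b.1.trace * s + 1 = 0})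
    omega
  · refine Or.inr ⟨?_, by omega⟩
    have := (Nat.card_pos_iff.mp (h0 ▸ (by norm_num : 0 < 2))).1
    obtain ⟨⟨s, hs⟩⟩ := this
    exact ⟨s, hs⟩

theorem order_p_mk_up {t : F} (ht : t ≠ 0) : orderOf (mk (up t)) = p := by
  refine (orderOf_eq_iff_trace p fun e => ?_).mpr (by rw [Dickson.trace_up]; norm_num)
  rcases mk_eq_one e with h | h <;> exact ht (by simpa using congrArg (fun g : SL => g.1 0 1) h)

theorem order_p_mk_lo {t : F} (ht : t ≠ 0) : orderOf (mk (lo t)) = p := by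
  refine (orderOf_eq_iff_trace p fun e => ?_).mpr (by simp [Matrix.trace_fin_two]; norm_num)
  rcases mk_eq_one e with h | h <;> exact ht (by simpa using congrArg (fun g : SL => g.1 1 0) h)

include p in
theorem mem_bor_up {t : F} (ht : t ≠ 0) {g : SL} : mk g ∈ bor (mk (up t)) ↔ g.1 1 0 = 0 := by
  rw [mem_bor (psl p) (order_p_mk_up p ht), borel_iff (Dickson.trace_up t) (fun a e => ht (by
    simpa using congrFun (congrFun e 0) 1))]
  constructor
  · intro h
    simpa [Matrix.mul_apply, Fin.sum_univ_two, ht] using congrFun (congrFun h 0) 1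
  · intro h
    ext i j
    fin_cases i <;> fin_cases j <;> simp [Matrix.mul_apply, Fin.sum_univ_two, h]

include p in
theorem mem_bor_lo {t : F} (ht : t ≠ 0) {g : SL} : mk g ∈ bor (mk (lo t)) ↔ g.1 0 1 = 0 := by
  rw [mem_bor (psl p) (order_p_mk_lo p ht), borel_iff (by simp [Matrix.trace_fin_two]; norm_num) (fun a e => ht (by
    simpa using congrFun (congrFun e 1) 0))]
  constructor
  · intro h
    simpa [Matrix.mul_apply, Fin.sum_univ_two, ht] using congrFun (congrFun h 1) 0
  · intro h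
    ext i j
    fin_cases i <;> fin_cases j <;> simp [Matrix.mul_apply, Fin.sum_univ_two, h]

/-- A Borel subgroup through `x` yields an eigenvalue of a lift. -/
theorem root_of_mem_bor {u : PSL} {b : SL} (hu : orderOf u = p) (h : mk b ∈ bor u) :
    ∃ s : F, s * s + b.1.trace * s + 1 = 0 := by
  obtain ⟨c, rfl, hc, -, hN⟩ := exists_lift p hu
  obtain ⟨⟨l, -, hl⟩, -⟩ := borel_scal hc hN ((borel_iff hc hN).mp ((mem_bor (psl p) hu).mp h))
  refine ⟨-l, ?_⟩
  have h2 : (b.1 * b.1) * (c.1 - 1) = (l * l) • (c.1 - 1) := by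
    rw [Matrix.mul_assoc, hl, Matrix.mul_smul, hl, smul_smul]
  rw [SL2Orders.sq_eq, Matrix.sub_mul, Matrix.smul_mul, hl, smul_smul, one_mul] at h2
  have h3 : (l * l - b.1.trace * l + 1) • (c.1 - 1) = 0 := by
    linear_combination (norm := module) -h2
  rcases smul_eq_zero.mp h3 with e | e
  · linear_combination e
  · exact absurd e (by simpa using hN 0)

/-- The Borel subgroups through a diagonal element. -/
theorem bor_diag {u : PSL} {b : SL} (hu : orderOf u = p) (h : mk b ∈ bor u)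
    (hb01 : b.1 0 1 = 0) (hb10 : b.1 1 0 = 0) (hne : b.1 0 0 ≠ b.1 1 1) :
    bor u = bor (mk (up (1 : F))) ∨ bor u = bor (mk (lo (1 : F))) := by
  obtain ⟨c, rfl, hc, hN2, hN⟩ := exists_lift p hu
  have h0 := (borel_iff hc hN).mp ((mem_bor (psl p) hu).mp h)
  have hco : c.1 0 0 + c.1 1 1 = 2 := by rw [← Matrix.trace_fin_two]; exact hc
  have e0 := congrFun (congrFun h0 0) 0
  have e0' := congrFun (congrFun hN2 0) 0
  simp [Matrix.mul_apply, Fin.sum_univ_two, hb01, hb10] at e0 e0'
  have ha : c.1 0 0 = 1 := by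
    have : (c.1 0 0 - 1) * (c.1 0 0 - 1) * (b.1 0 0 - b.1 1 1) = 0 := by
      linear_combination e0 - b.1 1 1 * e0'
    exact sub_eq_zero.mp (mul_self_eq_zero.mp ((mul_eq_zero.mp this).resolve_right (sub_ne_zero.mpr hne)))
  have hd : c.1 1 1 = 1 := by linear_combination hco - ha
  have hbc : c.1 0 1 * c.1 1 0 = 0 := by
    rw [ha] at e0'; linear_combination e0'
  rcases mul_eq_zero.mp hbc with e | e
  · right
    unfold bor
    rw [cent_eq (psl p) (order_p_mk_lo p one_ne_zero) hu (Commute.map (show Commute c (lo (1 : F)) from by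
      apply Dickson.ext_entries <;> simp [Dickson.mul_entry, ha, hd, e, add_comm]) mk)]
  · left
    unfold bor
    rw [cent_eq (psl p) (order_p_mk_up p one_ne_zero) hu (Commute.map (show Commute c (up (1 : F)) from by
      apply Dickson.ext_entries <;> simp [Dickson.mul_entry, ha, hd, e, add_comm]) mk)]

theorem mem_cT_diag {b g : SL} (hb01 : b.1 0 1 = 0) (hb10 : b.1 1 0 = 0) (hne : b.1 0 0 ≠ b.1 1 1) :
    mk g ∈ cT b ↔ g.1 0 1 = 0 ∧ g.1 1 0 = 0 := by
  rw [mem_cT]
  constructor
  · intro e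
    have e1 := congrArg (fun z : SL => z.1 0 1) e
    have e2 := congrArg (fun z : SL => z.1 1 0) e
    simp [Dickson.mul_entry, hb01, hb10] at e1 e2
    refine ⟨?_, ?_⟩
    · exact (mul_eq_zero.mp (show (b.1 0 0 - b.1 1 1) * g.1 0 1 = 0 by linear_combination -e1)).resolve_left
        (sub_ne_zero.mpr hne)
    · exact (mul_eq_zero.mp (show (b.1 0 0 - b.1 1 1) * g.1 1 0 = 0 by linear_combination e2)).resolve_left
        (sub_ne_zero.mpr hne)
  · rintro ⟨e1, e2⟩
    apply Dickson.ext_entries <;> simp [Dickson.mul_entry, hb01, hb10, e1, e2, mul_comm]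

/-- The count at a semisimple element of order at least three. -/
theorem card_sol_torus (hall : ∀ M : Subgroup PSL, M ≠ ⊤ → Group.IsSolvable M) (hq : 4 ≤ q)
    (hover : ∀ M : Subgroup PSL, M ≠ ⊤ → (∃ u, orderOf u = p ∧ M ≤ bor u) ∨
      (∃ x0, SS p x0 ∧ M ≤ Subgroup.normalizer ((psl (F := F) p).T x0 : Set PSL)) ∨
      ∀ z ∈ M, SS p z → z ^ 2 = 1)
    {x : PSL} (hx : SS p x) (hx2 : x ^ 2 ≠ 1) :
    Nat.gcd 2 (q - 1) * (Sol x).ncard =
      if orderOf x ∣ q - 1 then 2 * (q * (q - 1)) else 2 * (q + 1) := by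
  classical
  obtain ⟨b, rfl⟩ := mk_surj x
  have hbt : b.1.trace ^ 2 ≠ 4 := (ss_iff p).mp hx
  have hTx : (psl p).T (mk b) = cT b := cT_congr (QuotientGroup.out_eq' _)
  have hsol : ∀ y : PSL, y ∈ Sol (mk b) ↔ y ∈ Subgroup.normalizer ((psl p).T (mk b) : Set PSL) ∨
      ∃ u, orderOf u = p ∧ mk b ∈ bor u ∧ y ∈ bor u := by
    intro y
    rw [sol_setting hall hq]
    constructor
    · rintro ⟨M, hM, hxM, hyM⟩
      rcases hover M hM with ⟨u, hu, hle⟩ | ⟨x0, hx0, hle⟩ | h
      · exact Or.inr ⟨u, hu, hle hxM, hle hyM⟩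
      · refine Or.inl ?_
        rw [← same_torus (psl p) hx hx2 hx0 (hle hxM)]
        exact hle hyM
      · exact absurd (h _ hxM hx) hx2
    · rintro (h | ⟨u, hu, h1, h2⟩)
      · exact ⟨_, norm_ne_top p hq hx, Subgroup.le_normalizer ((psl p).mem_T _ hx), h⟩
      · exact ⟨_, bor_ne_top p hu, h1, h2⟩
  have hord : orderOf (mk b) ∣ Nat.card (cT b) :=
    hTx ▸ Subgroup.orderOf_dvd_natCard _ ((psl p).mem_T _ hx)
  rcases card_torus hbt with ⟨hno, hc⟩ | ⟨hyes, hc⟩
  · have hnd : ¬ orderOf (mk b) ∣ q - 1 := fun h => hx2 (orderOf_dvd_iff_pow_eq_one.mp (by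
      have h' := Nat.dvd_sub (hord.trans (hc ▸ dvd_mul_left _ _)) h
      rwa [show q + 1 - (q - 1) = 2 by omega] at h'))
    have e : Sol (mk b) = (Subgroup.normalizer ((psl p).T (mk b) : Set PSL) : Set PSL) := by
      ext y
      rw [hsol]
      exact ⟨fun h => h.resolve_right fun ⟨u, hu, h1, _⟩ => hno (root_of_mem_bor p hu h1), Or.inl⟩
    rw [if_neg hnd, e, ← Nat.card_coe_set_eq, show Nat.card ((Subgroup.normalizer ((psl p).T (mk b) : Set PSL) :
      Subgroup PSL) : Set PSL) = _ from card_norm p hx, hTx, ← hc]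
    ring
  · have hd : orderOf (mk b) ∣ q - 1 := hord.trans (hc ▸ dvd_mul_left _ _)
    rw [if_pos hd]
    clear hsol
    obtain ⟨s, hs⟩ := hyes
    have hs0 : s ≠ 0 := fun e => by simp [e] at hs
    have hdet : (!![-s, 0; 0, -s⁻¹] : Matrix (Fin 2) (Fin 2) F).det = 1 := by
      simp [Matrix.det_fin_two, hs0]
    obtain ⟨D, hD⟩ : ∃ D : SL, D.1 = !![-s, 0; 0, -s⁻¹] := ⟨⟨_, hdet⟩, rfl⟩
    obtain ⟨a, ha⟩ := isConj_iff.mp (PSL2Product.isConj_of_trace hbt (h := D) (by
      rw [hD]; simp [Matrix.trace_fin_two]; field_simp; linear_combination -hs + s * Matrix.trace_fin_two b.1))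
    rw [← card_sol_conj (mk b) (mk a), ← map_inv, ← map_mul, ← map_mul, ha]
    have hx' : SS p (mk D) := by rw [← ha, map_mul, map_mul, map_inv]; exact hx.conj _
    have hx2' : mk D ^ 2 ≠ 1 := fun e => hx2 (by
      rw [← ha, map_mul, map_mul, map_inv, show (mk a * mk b * (mk a)⁻¹) ^ 2 = mk a * (mk b) ^ 2 * (mk a)⁻¹ by
        rw [pow_two, pow_two]; group, mul_inv_eq_one, mul_eq_left] at e
      exact e)
    have hD01 : D.1 0 1 = 0 := by simp [hD]
    have hD10 : D.1 1 0 = 0 := by simp [hD]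
    have hDt : D.1.trace ^ 2 ≠ 4 := (ss_iff p).mp hx'
    have hne : D.1 0 0 ≠ D.1 1 1 := fun e => hDt (by
      have hd := D.2
      rw [Matrix.det_fin_two, hD01, e] at hd
      rw [Matrix.trace_fin_two, e]
      linear_combination (4 : F) * hd)
    have hTD : (psl p).T (mk D) = cT D := cT_congr (QuotientGroup.out_eq' _)
    have hxu : mk D ∈ bor (mk (up (1 : F))) := (mem_bor_up p one_ne_zero).mpr hD10
    have hxl : mk D ∈ bor (mk (lo (1 : F))) := (mem_bor_lo p one_ne_zero).mpr hD01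
    have hu1 := order_p_mk_up (F := F) p one_ne_zero
    have hl1 := order_p_mk_lo (F := F) p one_ne_zero
    have e : Sol (mk D) = ((Subgroup.normalizer ((psl p).T (mk D) : Set PSL) : Set PSL) ∪
        bor (mk (up (1 : F)))) ∪ bor (mk (lo (1 : F))) := by
      ext y
      rw [sol_setting hall hq]
      constructor
      · rintro ⟨M, hM, hxM, hyM⟩
        rcases hover M hM with ⟨u, hu, hle⟩ | ⟨x0, hx0, hle⟩ | h
        · rcases bor_diag p hu (hle hxM) hD01 hD10 hne with e | e
          · exact Or.inl (Or.inr (e ▸ hle hyM))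
          · exact Or.inr (e ▸ hle hyM)
        · refine Or.inl (Or.inl ?_)
          rw [← same_torus (psl p) hx' hx2' hx0 (hle hxM)]
          exact hle hyM
        · exact absurd (h _ hxM hx') hx2'
      · rintro ((h | h) | h)
        · exact ⟨_, norm_ne_top p hq hx', Subgroup.le_normalizer ((psl p).mem_T _ hx'), h⟩
        · exact ⟨_, bor_ne_top p hu1, hxu, h⟩
        · exact ⟨_, bor_ne_top p hl1, hxl, h⟩
    have hBB : ((bor (mk (up (1 : F))) : Subgroup PSL) : Set PSL) ∩ bor (mk (lo (1 : F))) =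
        ((psl p).T (mk D) : Set PSL) := by
      ext y
      obtain ⟨g, rfl⟩ := mk_surj y
      rw [Set.mem_inter_iff, SetLike.mem_coe, SetLike.mem_coe, SetLike.mem_coe, mem_bor_up p one_ne_zero,
        mem_bor_lo p one_ne_zero, hTD, mem_cT_diag hD01 hD10 hne]
      exact and_comm
    have h3 := ncard_three _ _ _ _ (norm_inf_bor (psl p) hu1 hx' hx2' hxu)
      (norm_inf_bor (psl p) hl1 hx' hx2' hxl) hBB
    simp only [← Nat.card_coe_set_eq, SetLike.coe_sort_coe] at h3
    rw [card_norm p hx'] at h3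
    rw [e, ← Nat.card_coe_set_eq]
    have b1 := card_bor p hu1
    have b2 := card_bor p hl1
    rw [show 2 * (q * (q - 1)) = q * (q - 1) + q * (q - 1) by ring]
    nth_rw 1 [← b1]
    rw [← b2, ← Nat.mul_add]
    congr 1
    omega

/-- The field case of a proper subgroup. -/
theorem field_proper {H : Subgroup PSL} {u v : PSL} (hH : H ≠ ⊤) (huH : u ∈ H) (hu : orderOf u = p)
    (hvH : v ∈ H) (hv : orderOf v = p) (huv : ¬ Commute v u) {Q : ℕ}
    (hQ : Nat.card (H ⊓ bor u : Subgroup PSL) ≠ 0 ∧ Nat.card (H ⊓ cent u : Subgroup PSL) = Q)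
    (h3 : 3 ≤ Q) (hh : Nat.card H = (Q + 1) * Nat.card (H ⊓ bor u : Subgroup PSL))
    (hB : 2 * Nat.card (H ⊓ bor u : Subgroup PSL) = Q * (Q - 1) ∨
      Nat.card (H ⊓ bor u : Subgroup PSL) = Q * (Q - 1)) :
    ∃ m : ℕ, 2 ≤ m ∧ Q ^ m = q := by
  obtain ⟨K, hK, hK', m, hm, hKQ, -⟩ := field_case p huH hu hvH hv huv Q hQ.2 hh
  rw [hKQ] at hm
  refine ⟨m, ?_, hm⟩
  have hsq : Q * (Q ^ 2 - 1) = (Q + 1) * (Q * (Q - 1)) := by
    rw [← one_pow 2, Nat.sq_sub_sq, one_pow]; ring
  by_contra hm2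
  rcases (show m = 0 ∨ m = 1 by omega) with rfl | rfl
  · rw [pow_zero] at hm
    have := Fintype.one_lt_card (α := F)
    omega
  rw [pow_one] at hm
  subst hm
  apply hH
  refine Subgroup.eq_top_of_le_card H ?_
  have hc := card_psl (F := F)
  obtain ⟨K', D, -, hD, -, -⟩ := borel_compl (psl p) huH hu
  rw [hQ.2] at hD
  rw [hsq] at hc
  rcases gcd_cases (F := F) p with ⟨hg, hev⟩ | ⟨hg, -⟩ <;> rw [hg] at hc <;> rcases hB with h | h
  · exfalso
    rw [hD, show 2 * (q * D) = q * (2 * D) by ring] at h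
    have := Nat.eq_of_mul_eq_mul_left (show 0 < q by omega) h
    omega
  · rw [hh, h]; omega
  · rw [hh]
    have h2 : (q + 1) * (q * (q - 1)) = 2 * ((q + 1) * Nat.card (H ⊓ bor u : Subgroup PSL)) := by
      rw [← h]; ring
    omega
  · rw [hh, h]; omega

/-- An element of order `p` in a Borel subgroup lies in its unipotent part. -/
theorem mem_cent_of_mem_bor {u y : PSL} (hu : orderOf u = p) (hy : y ∈ bor u) (hyp : y ^ p = 1) :
    y ∈ cent u := by
  obtain ⟨P, hP⟩ := exists_sylow_cent p hu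
  have h1 : IsPGroup p (Subgroup.zpowers y) := by
    intro ⟨z, k, hk⟩
    refine ⟨1, Subtype.ext ?_⟩
    show z ^ p ^ 1 = 1
    rw [pow_one, ← hk]
    show (y ^ k) ^ p = 1
    rw [← zpow_natCast, zpow_comm, zpow_natCast, hyp, _root_.one_zpow]
  have hle : Subgroup.zpowers y ≤ Subgroup.normalizer ((P : Subgroup PSL) : Set PSL) := by
    rw [hP]; exact Subgroup.zpowers_le.mpr hy
  have := P.is_maximal' (h1.to_sup_of_normal_right' P.2 hle) le_sup_right
  rw [← hP]
  exact this ▸ Subgroup.mem_sup_left (Subgroup.mem_zpowers y)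

end Matrices

end CfsgLib.DicksonFull
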